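import Cfsg.Agent.Lib.Spor.HSSylow.Frame

/-!
# The named parts of the Sylow two-subgroup

The homocyclic subgroup `A`, its involutions `V`, the cyclic subgroup `Cy` of order four, the subgroup `R`
of order 64 and an extraspecial subgroup `E` of order 32 in it, as lists of codes.
-/

set_option autoImplicit false

namespace CfsgLib.Spor.HSSylow

/-- The codes of the homocyclic subgroup. -/
def listA : List ℕ := List.range 64

/-- The codes of its involutions and the identity. -/
def listV : List ℕ := [0, 2, 8, 10, 32, 34, 40, 42]

/-- The codes of the cyclic subgroup of order four. -/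
def listCy : List ℕ := [0, 1, 2, 3]

/-- The codes of the subgroup of order 64. -/
def listR : List ℕ := [0, 1, 2, 3, 8, 9, 10, 11, 32, 33, 34, 35, 40, 41, 42, 43, 128, 129, 130, 131, 136, 137, 138, 139, 160, 161, 162, 163, 168, 169, 170, 171, 320, 321, 322, 323, 328, 329, 330, 331, 352, 353, 354, 355, 360, 361, 362, 363, 448, 449, 450, 451, 456, 457, 458, 459, 480, 481, 482, 483, 488, 489, 490, 491]

/-- The codes of an extraspecial subgroup of order 32. -/
def listE : List ℕ := [0, 2, 8, 10, 32, 34, 40, 42, 128, 130, 136, 138, 160, 162, 168, 170, 320, 322, 328, 330, 352, 354, 360, 362, 448, 450, 456, 458, 480, 482, 488, 490]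

/-- The codes are closed under products. -/
def closedB (l : List ℕ) : Bool :=
  l.contains 0 && l.all fun a => Nat.blt a 512 && l.contains (inv a) && l.all fun b => l.contains (mul a b)

theorem closed_parts : closedB listV = true ∧ closedB listCy = true ∧ closedB listR = true ∧ closedB listE = true := by
  decide +kernel

theorem closed_A : closedB listA = true := by decide +kernel

namespace Frame

variable {G : Type*} [Group G] (F : Frame G)

/-- The image of a list as a subgroup. -/
def sub (l : List ℕ) (hl : closedB l = true) : Subgroup G where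
  carrier := {g | ∃ a ∈ l, F.f a = g}
  one_mem' := by
    simp only [closedB, Bool.and_eq_true, List.contains_iff_mem] at hl
    exact ⟨0, hl.1, F.f_zero⟩
  mul_mem' := by
    simp only [closedB, Bool.and_eq_true, List.contains_iff_mem, List.all_eq_true, Nat.blt_eq] at hl
    rintro _ _ ⟨a, ha, rfl⟩ ⟨b, hb, rfl⟩
    exact ⟨mul a b, (hl.2 a ha).2 b hb, F.map_mul (hl.2 a ha).1.1 (hl.2 b hb).1.1⟩
  inv_mem' := by
    simp only [closedB, Bool.and_eq_true, List.contains_iff_mem, List.all_eq_true, Nat.blt_eq] at hl
    rintro _ ⟨a, ha, rfl⟩
    exact ⟨inv a, (hl.2 a ha).1.2, F.f_inv (hl.2 a ha).1.1⟩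

theorem mem_sub {l : List ℕ} {hl : closedB l = true} {g : G} : g ∈ F.sub l hl ↔ ∃ a ∈ l, F.f a = g := Iff.rfl

theorem sub_le (l : List ℕ) (hl : closedB l = true) : F.sub l hl ≤ (F.T : Subgroup G) := by
  have h := hl
  simp only [closedB, Bool.and_eq_true, List.all_eq_true, Nat.blt_eq] at h
  rintro _ ⟨a, ha, rfl⟩
  exact F.mem (h.2 a ha).1.1

/-- The homocyclic subgroup. -/
def A : Subgroup G := F.sub listA closed_A

/-- The elementary subgroup of order eight. -/
def V : Subgroup G := F.sub listV closed_parts.1

/-- The cyclic subgroup of order four. -/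
def Cy : Subgroup G := F.sub listCy closed_parts.2.1

/-- The subgroup of order 64. -/
def R : Subgroup G := F.sub listR closed_parts.2.2.1

/-- The extraspecial subgroup. -/
def E : Subgroup G := F.sub listE closed_parts.2.2.2

/-- The central involution. -/
def z : G := F.f 2

/-- The element of order four centred in `R`. -/
def c : G := F.f 1

end Frame

end CfsgLib.Spor.HSSylow
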