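import Cfsg.Agent.Lib.Spor.HSSylow.Classes
import Cfsg.Agent.Lib.ProdFusion.Basic
import Cfsg.Agent.Lib.Spor.HSSylow.Parts

/-!
# The fusion of the Higman–Sims group

The classes `2, 8, 32, 128, 257, 320` fuse into one and `132, 256, 337` into another.
-/

set_option autoImplicit false

namespace CfsgLib.Spor.HSSylow

namespace Frame

variable {G : Type*} [Group G] (F : Frame G)

/-- The involutions fuse as in the Higman–Sims group. -/
structure Fused : Prop where
  za : F.Link 0 1
  zb : F.Link 0 2
  ze : F.Link 0 3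
  zp : F.Link 0 5
  zw : F.Link 0 8
  uv : F.Link 4 7
  uq : F.Link 4 6
  zu : ¬ F.Link 0 4

/-- The numbers of the classes fused with the central involution. -/
def kClasses : List ℕ := [0, 1, 2, 3, 5, 8]

/-- Each element commuting with the central involution is, modulo the odd core of the centralizer, in the
normalizer of `R`, and `R` contains its centralizer there. -/
structure Central : Prop where
  factor : ∀ g : G, g * F.z = F.z * g →
    ∃ o n : G, o ∈ CfsgLib.ProdFusion.OC (Subgroup.centralizer ({F.z} : Set G)) ∧ n * F.z = F.z * n ∧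
      n ∈ Subgroup.normalizer (F.R : Set G) ∧ g = o * n
  selfc : ∀ g : G, g * F.z = F.z * g →
    (∀ r ∈ F.R, g * r * g⁻¹ * r⁻¹ ∈ CfsgLib.ProdFusion.OC (Subgroup.centralizer ({F.z} : Set G))) →
    ∃ o r : G, o ∈ CfsgLib.ProdFusion.OC (Subgroup.centralizer ({F.z} : Set G)) ∧ r ∈ F.R ∧ g = o * r

end Frame

end CfsgLib.Spor.HSSylow
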