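import Cfsg.Agent.Lib.Spor.HSSylow.Extreme
import Cfsg.Agent.Lib.Spor.HSSylow.Fused
import Cfsg.Agent.Lib.Spor.HSSylow.Cert.All

/-!
# The fusion of involutions

Transfer and the certificates leave two possibilities: the fusion of the Higman–Sims group (up to exchanging
the classes five and six), or the case in which class three is not fused to the central involution.
-/

set_option autoImplicit false
set_option maxRecDepth 100000
set_option linter.unusedSectionVars false

namespace CfsgLib.Spor.HSSylow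

namespace Frame

variable {G : Type*} [Group G] [Finite G] (F : Frame G)

theorem ext_four : F.Ext [rep 4] := by
  obtain ⟨i, hi, hl, he, g, hg⟩ := F.exists_extreme_class (a := 4) (by norm_num)
  have hs := F.sz_le (by norm_num) hi hl he
  interval_cases i
  · exact (Cert.false_of cert_u_z_check rfl hg).elim
  · exact (Cert.false_of cert_u_a_check rfl hg).elim
  · exact (Cert.false_of cert_u_b_check rfl hg).elim
  · exact (Cert.false_of cert_u_e_check rfl hg).elim
  · exact he
  all_goals (norm_num [sz] at hs; done)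

theorem not_link_four {x : ℕ} (hx : x ≤ 3) : ¬ F.Link 4 x := fun h => by
  have h' := h.symm
  have hs := F.sz_le (by omega) (by norm_num) h' F.ext_four
  obtain ⟨g, hg⟩ := F.emb_of_link (by omega) (by norm_num) h' F.ext_four
  interval_cases x
  · exact absurd hs (by decide)
  · exact absurd hs (by decide)
  · exact absurd hs (by decide)
  · exact Cert.false_of cert_e_u_check rfl hg

theorem bad {a b : ℕ} (h : F.Link a b) (hab : (a = 4 ∧ b ≤ 3) ∨ (b = 4 ∧ a ≤ 3)) : False := by
  rcases hab with ⟨rfl, hb⟩ | ⟨rfl, ha⟩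
  · exact F.not_link_four hb h
  · exact F.not_link_four ha h.symm

theorem seven (hG : ∀ H : Subgroup G, H.index ≠ 2) : F.Link 1 2 ∧ F.Link 4 7 := by
  have out : ∀ {a b : ℕ}, F.Link a b → ((a = 4 ∧ b ≤ 3) ∨ (b = 4 ∧ a ≤ 3)) → False := fun h h' => F.bad h h'
  obtain ⟨j, hj, hl, he, g, hg⟩ := F.exists_extreme_class (a := 7) (by norm_num)
  have key : ∀ {C : Cert}, C.check = true → C.xs = [rep 7] → C.ys = [rep j] →
      (∀ e ∈ C.targets, e.1 < 16 ∧ e.2 < 16) → ∃ e ∈ C.targets, F.Link e.1 e.2 := fun hC hx hy ht =>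
    cert_link hC ht (hx ▸ hy ▸ hg)
  have zero : ∀ {C : Cert}, C.check = true → C.xs = [rep 7] → C.ys = [rep j] → j ≤ 3 →
      (∀ e ∈ C.targets, (e.1 < 16 ∧ e.2 < 16) ∧
        (((e.1 = 4 ∧ e.2 ≤ 3) ∨ (e.2 = 4 ∧ e.1 ≤ 3)) ∨ e = (4, 7) ∨ e = (7, 4))) → False := fun hC hx hy hj3 ht => by
    obtain ⟨e, he', hl'⟩ := key hC hx hy fun e he' => (ht e he').1
    rcases (ht e he').2 with h | rfl | rfl
    · exact out hl' h
    · exact F.not_link_four hj3 (hl'.trans hl)
    · exact F.not_link_four hj3 (hl'.symm.trans hl)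
  interval_cases j
  · exact (zero cert_v_z_check rfl rfl (by norm_num) (by decide)).elim
  · exact (zero cert_v_a_check rfl rfl (by norm_num) (by decide)).elim
  · exact (zero cert_v_b_check rfl rfl (by norm_num) (by decide)).elim
  · exact (zero cert_v_e_check rfl rfl (by norm_num) (by decide)).elim
  · obtain ⟨e, he', hl'⟩ := key cert_v_u_check rfl rfl (by decide)
    refine ⟨?_, hl.symm⟩
    rcases (by decide : ∀ e ∈ cert_v_u.targets,
        ((e.1 = 4 ∧ e.2 ≤ 3) ∨ (e.2 = 4 ∧ e.1 ≤ 3)) ∨ e = (1, 2) ∨ e = (2, 1)) e he' with h | rfl | rfl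
    · exact (out hl' h).elim
    · exact hl'
    · exact hl'.symm
  · exact (Cert.false_of cert_v_p_check rfl hg).elim
  · exact (Cert.false_of cert_v_q_check rfl hg).elim
  · obtain ⟨i, hi, hchi, hli⟩ := F.transfer hG (m := 64) (by decide) (a := 7) (by norm_num) (by decide +kernel)
    have hs := F.sz_le hi (by norm_num) hli.symm he
    obtain ⟨d, hd⟩ := F.emb_of_link hi (by norm_num) hli.symm he
    interval_cases i
    any_goals (norm_num [sz] at hs; done)
    · exact (Cert.false_of cert_p_v_check rfl hd).elim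
    · exact (Cert.false_of cert_q_v_check rfl hd).elim
    · exact absurd hchi (by decide +kernel)
    · exact absurd hchi (by decide +kernel)
  · obtain ⟨e, he', hl'⟩ := key cert_v_w_check rfl rfl (by decide)
    exact (out hl' ((by decide : ∀ e ∈ cert_v_w.targets, (e.1 = 4 ∧ e.2 ≤ 3) ∨ (e.2 = 4 ∧ e.1 ≤ 3)) e he')).elim

/-- the extreme classes of the classes five and six -/
theorem pq_cases (hG : ∀ H : Subgroup G, H.index ≠ 2) {a : ℕ} (ha : a = 5 ∨ a = 6) :
    ∃ j, (j = 0 ∨ j = 1 ∨ j = 3 ∨ j = 4) ∧ F.Link a j ∧ F.Ext [rep j] ∧ ∃ g, F.Emb g [rep a] [rep j] := by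
  obtain ⟨j, hj, hl, he, g, hg⟩ := F.exists_extreme_class (a := a) (by omega)
  by_cases hgood : j = 0 ∨ j = 1 ∨ j = 3 ∨ j = 4
  · exact ⟨j, hgood, hl, he, g, hg⟩
  exfalso
  by_cases hj56 : j = 5 ∨ j = 6
  · have hchi : chi 320 (rep j) = true := by rcases hj56 with rfl | rfl <;> decide +kernel
    obtain ⟨i, hi, hc, hli⟩ := F.transfer hG (m := 320) (by decide) hj hchi
    have hs := F.sz_le hi hj hli.symm he
    obtain ⟨d, hd⟩ := F.emb_of_link hi hj hli.symm he
    rcases hj56 with rfl | rfl <;> interval_cases i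
    all_goals first
      | (norm_num [sz] at hs; done)
      | exact absurd hc (by decide +kernel)
      | exact Cert.false_of cert_v_p_check rfl hd
      | exact Cert.false_of cert_v_q_check rfl hd
      | exact Cert.false_of cert_w_p_check rfl hd
      | exact Cert.false_of cert_w_q_check rfl hd
  rcases ha with rfl | rfl <;> interval_cases j
  all_goals first
    | omega
    | exact Cert.false_of cert_p_b_check rfl hg
    | exact Cert.false_of cert_p_v_check rfl hg
    | exact Cert.false_of cert_p_w_check rfl hg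
    | exact Cert.false_of cert_q_b_check rfl hg
    | exact Cert.false_of cert_q_v_check rfl hg
    | exact Cert.false_of cert_q_w_check rfl hg

theorem za (hG : ∀ H : Subgroup G, H.index ≠ 2) : F.Link 0 1 := by
  obtain ⟨j, hj, hl, he, g, hg⟩ := F.pq_cases hG (Or.inl rfl)
  have key : ∀ {C : Cert}, C.check = true → C.xs = [rep 5] → C.ys = [rep j] →
      (∀ e ∈ C.targets, (e.1 < 16 ∧ e.2 < 16) ∧
        (((e.1 = 4 ∧ e.2 ≤ 3) ∨ (e.2 = 4 ∧ e.1 ≤ 3)) ∨ e = (0, 1) ∨ e = (1, 0))) → F.Link 0 1 := fun hC hx hy ht => by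
    obtain ⟨e, he', hl'⟩ := cert_link hC (fun e he' => (ht e he').1) (hx ▸ hy ▸ hg)
    rcases (ht e he').2 with h | rfl | rfl
    · exact (F.bad hl' h).elim
    · exact hl'
    · exact hl'.symm
  rcases hj with rfl | rfl | rfl | rfl
  · exact key cert_p_z_check rfl rfl (by decide)
  · exact key cert_p_a_check rfl rfl (by decide)
  · exact key cert_p_e_check rfl rfl (by decide)
  · exact key cert_p_u_check rfl rfl (by decide)

theorem zb (hG : ∀ H : Subgroup G, H.index ≠ 2) : F.Link 0 2 := (F.za hG).trans (F.seven hG).1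

theorem link_zero {b : ℕ} (hG : ∀ H : Subgroup G, H.index ≠ 2) (hb : b ≤ 2) : F.Link 0 b := by
  interval_cases b
  · exact Link.refl 0
  · exact F.za hG
  · exact F.zb hG

theorem w_cases (hG : ∀ H : Subgroup G, H.index ≠ 2) : F.Link 8 0 ∨ F.Link 8 3 := by
  have no4 : ¬ F.Link 8 4 := fun h => by
    obtain ⟨g, hg⟩ := F.emb_of_link (by norm_num) (by norm_num) h F.ext_four
    obtain ⟨e, he, hl⟩ := cert_link cert_w_u_check (by decide) hg
    exact F.bad hl ((by decide : ∀ e ∈ cert_w_u.targets, (e.1 = 4 ∧ e.2 ≤ 3) ∨ (e.2 = 4 ∧ e.1 ≤ 3)) e he)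
  obtain ⟨j, hj, hl, he, g, hg⟩ := F.exists_extreme_class (a := 8) (by norm_num)
  interval_cases j
  · exact Or.inl hl
  · exact Or.inl (hl.trans (F.za hG).symm)
  · exact Or.inl (hl.trans (F.zb hG).symm)
  · exact Or.inr hl
  · exact (no4 hl).elim
  · exact (Cert.false_of cert_w_p_check rfl hg).elim
  · exact (Cert.false_of cert_w_q_check rfl hg).elim
  · exact (no4 (hl.trans (F.seven hG).2.symm)).elim
  · obtain ⟨i, hi, hchi, hli⟩ := F.transfer hG (m := 80) (by decide) (a := 8) (by norm_num) (by decide +kernel)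
    have hs := F.sz_le hi (by norm_num) hli.symm he
    obtain ⟨d, hd⟩ := F.emb_of_link hi (by norm_num) hli.symm he
    interval_cases i
    any_goals (norm_num [sz] at hs; done)
    · exact (Cert.false_of cert_p_w_check rfl hd).elim
    · exact (Cert.false_of cert_q_w_check rfl hd).elim
    · exact (no4 (hli.trans (F.seven hG).2.symm)).elim
    · exact absurd hchi (by decide +kernel)

/-- class three fused with the central involution: the fusion of the Higman–Sims group up to the exchange -/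
theorem main_cases (hG : ∀ H : Subgroup G, H.index ≠ 2) (he : F.Link 0 3) :
    F.Link 0 8 ∧ ((F.Link 0 5 ∧ F.Link 4 6) ∨ (F.Link 0 6 ∧ F.Link 4 5)) := by
  obtain ⟨g, hg⟩ := F.emb_of_link (a := 3) (i := 0) (by norm_num) (by norm_num) he.symm F.ext_z
  have up : ∀ {b : ℕ}, b ≤ 3 → F.Link 0 b := fun {b} hb => by
    rcases Nat.lt_or_ge b 3 with h | h
    · exact F.link_zero hG (by omega)
    · exact (show b = 3 by omega) ▸ he
  refine ⟨?_, ?_⟩
  · obtain ⟨e, hem, hl⟩ := cert_link cert_eW_check (by decide) hg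
    rcases (by decide : ∀ e ∈ cert_eW.targets, ((e.1 = 4 ∧ e.2 ≤ 3) ∨ (e.2 = 4 ∧ e.1 ≤ 3)) ∨
        (e.1 = 8 ∧ e.2 ≤ 3) ∨ (e.2 = 8 ∧ e.1 ≤ 3)) e hem with h | ⟨h, h'⟩ | ⟨h, h'⟩
    · exact (F.bad hl h).elim
    · exact (up h').trans (h ▸ hl).symm
    · exact (up h').trans (h ▸ hl)
  obtain ⟨e, hem, hl⟩ := cert_link cert_eK_check (by decide) hg
  obtain ⟨e', hem', hl'⟩ := cert_link cert_eU_check (by decide) hg
  have hK : F.Link 0 5 ∨ F.Link 0 6 := by
    rcases (by decide : ∀ e ∈ cert_eK.targets, ((e.1 = 4 ∧ e.2 ≤ 3) ∨ (e.2 = 4 ∧ e.1 ≤ 3)) ∨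
        ((e.1 = 5 ∨ e.1 = 6) ∧ e.2 ≤ 3) ∨ ((e.2 = 5 ∨ e.2 = 6) ∧ e.1 ≤ 3)) e hem with h | ⟨h | h, h'⟩ | ⟨h | h, h'⟩
    · exact (F.bad hl h).elim
    · exact Or.inl ((up h').trans (h ▸ hl).symm)
    · exact Or.inr ((up h').trans (h ▸ hl).symm)
    · exact Or.inl ((up h').trans (h ▸ hl))
    · exact Or.inr ((up h').trans (h ▸ hl))
  have hU : F.Link 4 5 ∨ F.Link 4 6 := by
    rcases (by decide : ∀ e ∈ cert_eU.targets, ((e.1 = 4 ∧ e.2 ≤ 3) ∨ (e.2 = 4 ∧ e.1 ≤ 3)) ∨
        e = (5, 4) ∨ e = (6, 4) ∨ e = (4, 5) ∨ e = (4, 6)) e' hem' with h | rfl | rfl | rfl | rfl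
    · exact (F.bad hl' h).elim
    · exact Or.inl hl'.symm
    · exact Or.inr hl'.symm
    · exact Or.inl hl'
    · exact Or.inr hl'
  have no : ∀ {a : ℕ}, F.Link 0 a → ¬ F.Link 4 a := fun h h' => F.not_link_four (by norm_num) (h'.trans h.symm)
  rcases hK with h | h <;> rcases hU with h' | h'
  · exact (no h h').elim
  · exact Or.inl ⟨h, h'⟩
  · exact Or.inr ⟨h, h'⟩
  · exact (no h h').elim

/-- class three not fused with the central involution: nor are the classes five, six and eight -/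
theorem other_cases (hG : ∀ H : Subgroup G, H.index ≠ 2) (he : ¬ F.Link 0 3) :
    (∀ a, a = 5 ∨ a = 6 → F.Link a 3 ∨ F.Link a 4) ∧ F.Link 8 3 ∧ F.Ext [rep 3] := by
  have e0 : ∀ {b : ℕ}, b ≤ 2 → ¬ F.Link 3 b := fun hb h => he ((F.link_zero hG hb).trans h.symm)
  have key : ∀ {C : Cert} {a : ℕ}, a < 9 → C.check = true → C.xs = [rep a] → C.ys = [rep 0] →
      (∀ e ∈ C.targets, (e.1 < 16 ∧ e.2 < 16) ∧
        (((e.1 = 4 ∧ e.2 ≤ 3) ∨ (e.2 = 4 ∧ e.1 ≤ 3)) ∨ (e.1 = 3 ∧ e.2 ≤ 2) ∨ (e.2 = 3 ∧ e.1 ≤ 2))) →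
      ¬ F.Link 0 a := fun {C a} ha hC hx hy ht h => by
    obtain ⟨g, hg⟩ := F.emb_of_link ha (by norm_num) h.symm F.ext_z
    obtain ⟨e, hem, hl⟩ := cert_link hC (fun e he' => (ht e he').1) (hx ▸ hy ▸ hg)
    rcases (ht e hem).2 with h' | ⟨h', h''⟩ | ⟨h', h''⟩
    · exact F.bad hl h'
    · exact e0 h'' (h' ▸ hl)
    · exact e0 h'' (h' ▸ hl).symm
  have n5 := key (a := 5) (by norm_num) cert_Fp_check rfl rfl (by decide)
  have n6 := key (a := 6) (by norm_num) cert_Fq_check rfl rfl (by decide)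
  have n8 := key (a := 8) (by norm_num) cert_Fw_check rfl rfl (by decide)
  refine ⟨fun a ha => ?_, (F.w_cases hG).resolve_left fun h => n8 h.symm, ?_⟩
  · obtain ⟨j, hj, hl, -, -⟩ := F.pq_cases hG ha
    have na : ¬ F.Link 0 a := by rcases ha with rfl | rfl <;> assumption
    rcases hj with rfl | rfl | rfl | rfl
    · exact absurd hl.symm na
    · exact absurd ((F.za hG).trans hl.symm) na
    · exact Or.inl hl
    · exact Or.inr hl
  · obtain ⟨j, hj, hl, hej, g, hg⟩ := F.exists_extreme_class (a := 3) (by norm_num)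
    have hs := F.sz_le (by norm_num) hj hl hej
    interval_cases j
    all_goals first
      | exact hej
      | (norm_num [sz] at hs; done)
      | exact absurd hl.symm (F.not_link_four le_rfl)
      | exact absurd hl (e0 (by norm_num))

end Frame

end CfsgLib.Spor.HSSylow
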