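import Cfsg.Agent.Lib.Invol.L34Type.Main

/-!
# The sides of a group of type `L₃(4)` with trivial odd core

When exactly one side is fused, that side is normal; when none is fused, the centre of the Sylow subgroup
generates a normal subgroup equal to itself.
-/

set_option autoImplicit false
set_option linter.unusedSectionVars false
set_option linter.style.haveILetI false

namespace CfsgLib.Invol.L34Type

open Subgroup
open CfsgLib.Invol
open CfsgLib.ProdFusion (OC OC_le le_normalizer_OC le_normalizer_OC_self odd_card_OC)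
open CfsgLib.Invol.EightTypeThree (Nice)

namespace Frame

variable {G : Type*} [Group G] [Finite G] (F : Frame G)

/-- both sides nice and one not fused: the generated odd subgroup is trivial -/
theorem W_bot_of_unfused (hO : Cfsg.oddCore G = ⊥) (hnA : ∀ a ∈ F.A, a ≠ 1 → Nice F.A a)
    (hnB : ∀ b ∈ F.swap.A, b ≠ 1 → Nice F.swap.A b) (hβ : ¬ F.swap.Alpha) : F.W = ⊥ := by
  have hW : Odd (Nat.card F.W) := F.odd_W hnA
  set M := normalizer (F.W : Set G) with hM
  have hcen : ∀ i ∈ (F.T : Subgroup G), orderOf i = 2 → centralizer ({i} : Set G) ≤ M := by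
    intro i hi hio g hg
    rcases F.invol_cases hi (invol_mul_self hio) with h | h
    · obtain ⟨o, ho, n, hn, rfl⟩ := hnA i h (invol_ne_one hio) g hg
      exact M.mul_mem (le_normalizer (F.θ_le_W h ho)) (F.normA_le_W hn.1)
    · obtain ⟨o, ho, n, hn, rfl⟩ := hnB i (by rw [F.swap_A]; exact h) (invol_ne_one hio) g hg
      have hn1 : n ∈ normalizer (F.B : Set G) := by rw [← F.swap_A]; exact hn.1
      refine M.mul_mem ?_ (F.normB_le_W hn1)
      have h1 := F.swap.θ_le_W (a := i) (by rw [F.swap_A]; exact h) ho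
      rw [F.swap_W] at h1
      exact le_normalizer h1
  rcases F.top_or_embedded F.normA_le_W F.normB_le_W hcen with h | h
  · exact F.W_bot hO hW h
  · exact absurd (F.swap.alpha_of_embedded h) hβ

/-- one side fused: it is normal -/
theorem normal_A_of_alpha (hO : Cfsg.oddCore G = ⊥) (hα : F.Alpha) (hβ : ¬ F.swap.Alpha) : F.A.Normal := by
  have hnA : ∀ a ∈ F.A, a ≠ 1 → Nice F.A a := fun a ha ha1 => F.nice_all (Or.inl hα) ha ha1
  have hnB : ∀ b ∈ F.swap.A, b ≠ 1 → Nice F.swap.A b := by
    by_contra h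
    push Not at h
    obtain ⟨t, ht, ht1, htn⟩ := h
    have htZ : t ∉ F.swap.Z := fun h => htn (F.swap.nice_Z h ht1)
    have hB : F.swap.Bad := by_contra fun h => htn (F.swap.nice_all (Or.inr h) ht ht1)
    exact F.swap.false_of_mixed hO hβ (by rw [F.swap_swap_frame]; exact hα) hB ht htZ htn
  have hW := F.W_bot_of_unfused hO hnA hnB hβ
  rw [← F.swap_B]
  exact F.swap.normal_B (F.swap_W.trans hW) hβ hnB (by rw [F.swap_B]; exact hnA)

theorem normal_Z_of_normal_B (hβ : ¬ F.swap.Alpha) (hB : F.B.Normal) : F.Z.Normal := by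
  refine normalizer_eq_top_iff.1 (top_le_iff.1 ?_)
  have h := not_not.1 hβ
  rw [F.swap_A, F.swap_Z, normalizer_eq_top_iff.2 hB] at h
  exact h

/-- a bad side without fusion: the centre is normal -/
theorem normal_Z_of_bad_side (hO : Cfsg.oddCore G = ⊥) (hα : ¬ F.Alpha) (hβ : ¬ F.swap.Alpha)
    (hn : ¬ ∀ a ∈ F.A, a ≠ 1 → Nice F.A a) : F.Z.Normal := by
  push Not at hn
  obtain ⟨t, ht, ht1, htn⟩ := hn
  have htZ : t ∉ F.Z := fun h => htn (F.nice_Z h ht1)
  have hA : F.Bad := by
    by_contra h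
    exact htn (F.nice_all (Or.inr h) ht ht1)
  by_cases hB : F.swap.Bad
  · exact (F.false_of_two_bad hα hβ hA hB ht htZ htn).elim
  exact F.normal_Z_of_normal_B hβ (F.normal_B_of_transfer hO hα hβ (F.first_fixed hA hB))

/-- neither side fused: the centre is normal -/
theorem normal_Z_of_unfused (hO : Cfsg.oddCore G = ⊥) (hα : ¬ F.Alpha) (hβ : ¬ F.swap.Alpha) : F.Z.Normal := by
  by_cases hnA : ∀ a ∈ F.A, a ≠ 1 → Nice F.A a
  swap
  · exact F.normal_Z_of_bad_side hO hα hβ hnA
  by_cases hnB : ∀ b ∈ F.swap.A, b ≠ 1 → Nice F.swap.A b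
  swap
  · rw [← F.swap_Z]
    exact F.swap.normal_Z_of_bad_side hO hβ (by rw [F.swap_swap_frame]; exact hα) hnB
  have hW := F.W_bot_of_unfused hO hnA hnB hβ
  refine F.normal_Z_of_normal_B hβ (F.normal_B hW hα hnA ?_)
  rw [← F.swap_A]
  exact hnB

end Frame

end CfsgLib.Invol.L34Type
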