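import Cfsg.Agent.Lib.Spor.HSSylow.Factor
import Cfsg.Agent.Lib.Spor.HSSylow.Sides
import Cfsg.Agent.Lib.Spor.HSSylow.Fusion

/-!
# Fusion in the factor of type `L₃(4)` and fusion in the group

A conjugation in the factor lifts to a conjugation of involutions in the group; so the second side of the
factor is never fused to its centre.
-/

set_option autoImplicit false
set_option maxRecDepth 100000
set_option linter.unusedSectionVars false
set_option linter.style.haveILetI false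

namespace CfsgLib.Spor.HSSylow

open Subgroup
open CfsgLib.Invol.HeisFour (H4)

/-- The code of an element of a coset of `⟨c⟩`. -/
def cosetElt (p : H4) (k : ℕ) : ℕ := mul (lift4 p) k

theorem invol_Z : ∀ p : H4, p.b = 0 → p.a = 0 → p ≠ 1 → ∀ k < 4,
    mul (cosetElt p k) (cosetElt p k) = 0 → cls (cosetElt p k) = 1 ∨ cls (cosetElt p k) = 2 := by
  decide +kernel

theorem invol_A : ∀ p : H4, p.b = 0 → p.a ≠ 0 → ∀ k < 4,
    mul (cosetElt p k) (cosetElt p k) = 0 → cls (cosetElt p k) = 3 ∨ cls (cosetElt p k) = 8 := by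
  decide +kernel

theorem invol_B : ∀ p : H4, p.a = 0 → p.b ≠ 0 → ∀ k < 4,
    mul (cosetElt p k) (cosetElt p k) = 0 → cls (cosetElt p k) = 4 ∨ cls (cosetElt p k) = 7 := by
  decide +kernel

theorem invol_exists : ∀ p : H4, (p.a = 0 ∨ p.b = 0) → ∃ k < 4, mul (cosetElt p k) (cosetElt p k) = 0 := by
  decide +kernel

theorem coset_mem : ∀ p : H4, ∀ k < 4, commB (cosetElt p k) 1 = true ∧ (p ≠ 1 → cosetElt p k ≠ 0) := by
  decide +kernel

theorem R_coset : ((∀ p : H4, p.b = 0 → ∀ k < 4, listR.contains (cosetElt p k) = true) ∧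
    (listR.all fun r => decide (∃ p : H4, p.b = 0 ∧ mul (inv (lift4 p)) r < 4)) = true) := by
  decide +kernel

theorem V_coset : ((List.range 512).all fun n => !(Nat.beq (cls n) 1 || Nat.beq (cls n) 2) ||
    (decide (∃ p : H4, p.b = 0 ∧ p.a = 0 ∧ mul (inv (lift4 p)) n < 4) && commB n 1 &&
      (List.range 512).all fun s => Nat.beq (cls (conj s n)) 1 || Nat.beq (cls (conj s n)) 2)) = true := by
  decide +kernel

theorem e_coset : (∃ p : H4, p.b = 0 ∧ p.a ≠ 0 ∧ mul (inv (lift4 p)) 128 < 4) ∧ commB 128 1 = true := by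
  decide +kernel

namespace Frame

universe u

variable {G : Type u} [Group G] [Finite G] (F : Frame G)

/-- A code in the factor. -/
def dq (n : ℕ) : F.Db :=
  if h : n ∈ centL [1] then QuotientGroup.mk' _ ⟨F.qb n, (F.qb_mem_C1b (mem_centL.1 h).1).2 h⟩ else 1

theorem dq_eq {n : ℕ} (h : n ∈ centL [1]) :
    F.dq n = QuotientGroup.mk' _ ⟨F.qb n, (F.qb_mem_C1b (mem_centL.1 h).1).2 h⟩ := dif_pos h

theorem coset_mem_centL {p : H4} {k : ℕ} (hk : k < 4) : cosetElt p k ∈ centL [1] :=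
  mem_centL.2 ⟨mul_lt _ _, fun z hz => by rw [List.mem_singleton.1 hz]; exact commB_iff.1 (coset_mem p k hk).1⟩

theorem dq_coset (p : H4) {k : ℕ} (hk : k < 4) : F.dq (cosetElt p k) = F.dHom p := by
  rw [F.dq_eq (coset_mem_centL hk), dHom_apply, QuotientGroup.mk'_apply, QuotientGroup.mk'_apply,
    QuotientGroup.eq]
  have h1 : F.qb k ∈ F.C1b := by
    have h := mul_mem (inv_mem (F.lift4_mem p)) ((F.qb_mem_C1b (mul_lt _ _)).2 (coset_mem_centL (p := p) hk))
    rwa [F.qb_mul (lift4_lt p) (by omega), inv_mul_cancel_left] at h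
  have h2 := inv_mem (F.mem_cSub_qb hk h1)
  convert h2 using 1
  refine Subtype.ext ?_
  show (F.qb (cosetElt p k))⁻¹ * F.qb (lift4 p) = (F.qb k)⁻¹
  rw [cosetElt, F.qb_mul (lift4_lt p) (by omega), mul_inv_rev, inv_mul_cancel_right]

theorem dq_of_quot {p : H4} {n : ℕ} (hn : n < 512) (h : mul (inv (lift4 p)) n < 4) :
    n = cosetElt p (mul (inv (lift4 p)) n) := by
  rw [cosetElt, ← mul_assoc' (lift4_lt p) (inv_lt _) hn, mul_inv' (lift4_lt p), zero_mul' hn]

theorem cSub_cases {w : ↥F.C1b} (hw : w ∈ F.cSub) : ∃ k < 4, w.1 = F.qb k := by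
  classical
  have h := mem_zpowers_iff_mem_range_orderOf.1 hw
  simp only [Finset.mem_image, Finset.mem_range] at h
  obtain ⟨k, hk, rfl⟩ := h
  have h4 := F.card_cSub
  rw [cSub, Nat.card_zpowers] at h4
  rw [h4] at hk
  refine ⟨k, hk, ?_⟩
  rw [Subgroup.coe_pow]
  show F.qb 1 ^ k = F.qb k
  interval_cases k
  · rw [pow_zero, F.qb_zero]
  · rw [pow_one]
  · rw [pow_two, F.qb_one_sq]
  · rw [pow_succ, pow_two, F.qb_one_sq, ← F.qb_mul (by norm_num) (by norm_num), show mul 2 1 = 3 by decide +kernel]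

theorem qmap_eq_iff {a b : ↥(F.C [2])} : F.qmap a = F.qmap b ↔ a⁻¹ * b ∈ Cfsg.pPrimeCore 2 ↥(F.C [2]) :=
  QuotientGroup.eq

/-- involutions equal modulo the core are conjugate -/
theorem isConj_of_qmap {x y : ↥(F.C [2])} (hx : orderOf (x : G) = 2) (hy : orderOf (y : G) = 2)
    (e : F.qmap x = F.qmap y) : IsConj (x : G) (y : G) := by
  refine CfsgLib.Invol.isConj_of_odd hx hy ?_
  have h := F.qmap_eq_iff.1 e
  have hxi : (x : G)⁻¹ = (x : G) := CfsgLib.Invol.invol_inv hx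
  rw [← hxi, ← Subgroup.coe_inv, ← Subgroup.coe_mul, Subgroup.orderOf_coe]
  exact (CfsgLib.ProdFusion.odd_iff_coprime.2 (CfsgLib.Coprime.pPrimeCore_coprime Nat.prime_two)).of_dvd_nat
    (Subgroup.orderOf_dvd_natCard _ h)

/-- a conjugation in the factor lifts to one of involutions in the group -/
theorem lift_conj {p q : H4} {x : F.Db} (e : x * F.dHom p * x⁻¹ = F.dHom q) (hp : p ≠ 1) {k : ℕ} (hk : k < 4)
    (h2 : mul (cosetElt p k) (cosetElt p k) = 0) :
    ∃ j < 4, mul (cosetElt q j) (cosetElt q j) = 0 ∧ IsConj (F.f (cosetElt p k)) (F.f (cosetElt q j)) := by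
  set n := cosetElt p k with hn
  have hn5 : n < 512 := mul_lt _ _
  obtain ⟨y, rfl⟩ := QuotientGroup.mk'_surjective _ x
  rw [← F.dq_coset p hk, ← hn, F.dq_eq (coset_mem_centL hk), dHom_apply, ← _root_.map_inv, ← _root_.map_mul,
    ← _root_.map_mul, QuotientGroup.mk'_apply, QuotientGroup.mk'_apply, eq_comm, QuotientGroup.eq] at e
  obtain ⟨j, hj, hje⟩ := F.cSub_cases e
  have hje' : (y : F.Cb) * F.qb n * (y : F.Cb)⁻¹ = F.qb (cosetElt q j) := by
    rw [cosetElt, F.qb_mul (lift4_lt q) (by omega), ← hje]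
    show (y : F.Cb) * F.qb n * (y : F.Cb)⁻¹ =
      F.qb (lift4 q) * ((F.qb (lift4 q))⁻¹ * ((y : F.Cb) * F.qb n * (y : F.Cb)⁻¹))
    rw [mul_inv_cancel_left]
  have hn1 : F.qb n ≠ 1 := fun h => (coset_mem p k hk).2 hp ((F.qb_eq_one hn5).1 h)
  set m := cosetElt q j with hm
  have hm5 : m < 512 := mul_lt _ _
  have hm2 : mul m m = 0 := (F.qb_eq_one (mul_lt _ _)).1 (by
    rw [F.qb_mul hm5 hm5, ← hje', show (y : F.Cb) * F.qb n * (y : F.Cb)⁻¹ * ((y : F.Cb) * F.qb n * (y : F.Cb)⁻¹) =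
      (y : F.Cb) * (F.qb n * F.qb n) * (y : F.Cb)⁻¹ by group, ← F.qb_mul hn5 hn5, h2, F.qb_zero, mul_one,
      mul_inv_cancel])
  have hm0 : m ≠ 0 := fun h => hn1 (by
    rw [h, F.qb_zero, conj_eq_one_iff] at hje'
    exact hje')
  obtain ⟨g, hg⟩ := F.qmap_surjective (y : F.Cb)
  refine ⟨j, hj, hm2, ?_⟩
  let a : ↥(F.C [2]) := g * ⟨F.f n, F.z_mem_C hn5⟩ * g⁻¹
  have ha : (a : G) = (g : G) * F.f n * (g : G)⁻¹ := rfl
  have hao : orderOf (a : G) = 2 := by
    rw [ha, ← MulAut.conj_apply, MulEquiv.orderOf_eq]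
    exact F.orderOf_two hn5 h2 ((coset_mem p k hk).2 hp)
  have hc := F.isConj_of_qmap (x := a) (y := ⟨F.f m, F.z_mem_C hm5⟩) hao (F.orderOf_two hm5 hm2 hm0) (by
    show F.qmap (g * ⟨F.f n, F.z_mem_C hn5⟩ * g⁻¹) = _
    rw [_root_.map_mul, _root_.map_mul, _root_.map_inv, hg, ← F.qb_eq hn5, ← F.qb_eq hm5]
    exact hje')
  exact (isConj_iff.2 ⟨(g : G), ha.symm⟩).trans hc

/-- the normalizer of a side moving the centre gives a fusion of involutions -/
theorem exists_link {S : Subgroup F.Db} (hZS : F.dFrame.Z ≤ S) (hST : S ≤ (F.dFrame.T : Subgroup F.Db))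
    (h : ¬ normalizer (S : Set F.Db) ≤ normalizer (F.dFrame.Z : Set F.Db)) :
    ∃ p q : H4, F.dFrame.hom q ∈ S ∧ F.dFrame.hom q ∉ F.dFrame.Z ∧
      ∃ a, (a = 1 ∨ a = 2) ∧ ∃ j < 4, mul (cosetElt q j) (cosetElt q j) = 0 ∧
        IsConj (F.f (rep a)) (F.f (cosetElt q j)) ∧ p ≠ 1 := by
  obtain ⟨n, hn, hnZ⟩ := SetLike.not_le_iff_exists.1 h
  obtain ⟨z, hz, hnz⟩ : ∃ z ∈ F.dFrame.Z, n * z * n⁻¹ ∉ F.dFrame.Z := by
    by_contra hne
    push Not at hne
    exact hnZ (CfsgLib.ProdFusion.mem_of_forall_conj_mem hne)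
  have hS : n * z * n⁻¹ ∈ S := (mem_normalizer_iff.1 hn z).1 (hZS hz)
  obtain ⟨p, rfl⟩ := F.dFrame.exists_of_mem (hST (hZS hz))
  obtain ⟨q, hq⟩ := F.dFrame.exists_of_mem (hST hS)
  have hp := F.dFrame.hom_mem_Z.1 hz
  have hp1 : p ≠ 1 := by
    rintro rfl
    simp at hnz
  obtain ⟨k, hk, h2⟩ := invol_exists p (Or.inr hp.1)
  rw [F.dFrame_hom, F.dFrame_hom] at hq
  obtain ⟨j, hj, hj2, hc⟩ := F.lift_conj hq.symm hp1 hk h2
  rw [F.dFrame_hom, ← hq] at hnz hS
  refine ⟨p, q, hS, hnz, cls (cosetElt p k), invol_Z p hp.1 hp.2 hp1 k hk h2, j, hj, hj2, ?_, hp1⟩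
  exact (F.isConj_rep (mul_lt _ _) (show cls (cosetElt p k) < 16 by
    rcases invol_Z p hp.1 hp.2 hp1 k hk h2 with e | e <;> omega)).trans hc

/-- **the second side is never fused** -/
theorem not_beta (hG : ∀ H : Subgroup G, H.index ≠ 2) : ¬ F.dFrame.swap.Alpha := by
  intro h
  rw [CfsgLib.Invol.L34Type.Frame.Alpha, F.dFrame.swap_A, F.dFrame.swap_Z] at h
  obtain ⟨p, q, hqS, hqZ, a, ha, j, hj, hj2, hc, -⟩ := F.exists_link F.dFrame.Z_le_B F.dFrame.B_le h
  have hqa := F.dFrame.hom_mem_B.1 hqS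
  have hqb : q.b ≠ 0 := fun e => hqZ (F.dFrame.hom_mem_Z.2 ⟨e, hqa⟩)
  have h' := invol_B q hqa hqb j hj hj2
  have hl : F.Link a (cls (cosetElt q j)) := hc.trans (F.isConj_rep (mul_lt _ _) (show cls (cosetElt q j) < 16 by omega)).symm
  have hl0 : F.Link 0 (cls (cosetElt q j)) := (F.link_zero hG (by omega)).trans hl
  rcases h' with e | e <;> rw [e] at hl0
  · exact F.not_link_four (by norm_num) hl0.symm
  · exact F.not_link_four (by norm_num) ((F.seven hG).2.trans hl0.symm)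

/-- class three not fused to the central involution: neither is the first side -/
theorem not_alpha (hG : ∀ H : Subgroup G, H.index ≠ 2) (he : ¬ F.Link 0 3) : ¬ F.dFrame.Alpha := by
  intro h
  obtain ⟨p, q, hqS, hqZ, a, ha, j, hj, hj2, hc, -⟩ := F.exists_link F.dFrame.Z_le_A F.dFrame.A_le h
  have hqb := F.dFrame.hom_mem_A.1 hqS
  have hqa : q.a ≠ 0 := fun e => hqZ (F.dFrame.hom_mem_Z.2 ⟨hqb, e⟩)
  have h' := invol_A q hqb hqa j hj hj2
  have hl : F.Link a (cls (cosetElt q j)) := hc.trans (F.isConj_rep (mul_lt _ _) (show cls (cosetElt q j) < 16 by omega)).symm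
  have hl0 : F.Link 0 (cls (cosetElt q j)) := (F.link_zero hG (by omega)).trans hl
  rcases h' with e | e <;> rw [e] at hl0
  · exact he hl0
  · exact he (hl0.trans (F.other_cases hG he).2.1)

end Frame

end CfsgLib.Spor.HSSylow
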