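import Cfsg.Agent.Lib.Spor.HSSylow.Fused
import Cfsg.Agent.Lib.Invol.Basic
import Cfsg.Agent.Lib.Invol.EightTypeThree.Point

/-!
# Machine-checked facts and fusion basics for the core step
-/

set_option autoImplicit false
set_option linter.unusedSectionVars false
set_option linter.style.haveILetI false
set_option maxRecDepth 100000

namespace CfsgLib.Spor.HSSylow

open Subgroup
open CfsgLib.Invol
open CfsgLib.ProdFusion (OC OC_le odd_card_OC le_normalizer_OC_self conjBy_OC)
open CfsgLib.Coprime (conjBy mem_conjBy)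

/-- the part of `R` centralising `n`, with the centre of `R` -/
def balQ (n : ℕ) : List ℕ := 1 :: listR.filter fun r => commB r n

/-- the products of `balQ n` with the cyclic centre -/
def balF (n : ℕ) : List ℕ := (listR.filter fun r => commB r n).flatMap fun p => listCy.map fun k => mul p k

/-- the facts behind balance at `n` -/
def balB (n : ℕ) : Bool :=
  (listR.all fun r => !((balQ n).all fun q => commB r q) || (balF n).contains r) &&
  (listR.all fun r => (balQ n).all fun q => (balF n).contains (conj r q))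

/-- the bits of a list -/
def balMask (l : List ℕ) : ℕ := l.foldl (fun m p => Nat.lor m (Nat.shiftLeft 1 p)) 0

/-- whether a bit is set -/
def balBit (m x : ℕ) : Bool := Nat.beq (Nat.land (Nat.shiftRight m x) 1) 1

theorem balBit_spec {l : List ℕ} {x : ℕ} (h : balBit (balMask l) x = true) : l.contains x = true := by
  have key : ∀ (l : List ℕ) (m : ℕ),
      Nat.testBit (l.foldl (fun m p => Nat.lor m (Nat.shiftLeft 1 p)) m) x = true → m.testBit x = true ∨ x ∈ l := by
    intro l
    induction l with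
    | nil => exact fun m h => Or.inl h
    | cons p l ih =>
      intro m h
      simp only [List.foldl_cons] at h
      rcases ih _ h with h' | h'
      · rw [show Nat.lor m (Nat.shiftLeft 1 p) = m ||| 1 <<< p from rfl, Nat.testBit_lor, Bool.or_eq_true] at h'
        rcases h' with h' | h'
        · exact Or.inl h'
        · rw [Nat.one_shiftLeft, Nat.testBit_two_pow, decide_eq_true_eq] at h'
          exact Or.inr (h' ▸ List.mem_cons_self)
      · exact Or.inr (List.mem_cons_of_mem _ h')
  refine List.contains_iff_mem.2 ((key l 0 ?_).resolve_left (by simp))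
  simp only [balBit, balMask, Nat.beq_eq] at h
  rw [Nat.testBit, Nat.one_and_eq_mod_two, bne_iff_ne]
  have h' : (List.foldl (fun m p => Nat.lor m (Nat.shiftLeft 1 p)) 0 l >>> x) % 2 = 1 := by
    rw [← Nat.and_one_is_mod]; exact h
  omega

/-- the same with bits -/
def balB' (n : ℕ) : Bool :=
  (listR.all fun r => !((balQ n).all fun q => commB r q) || balBit (balMask (balF n)) r) &&
  (listR.all fun r => (balQ n).all fun q => balBit (balMask (balF n)) (conj r q))

theorem balB_of_bits {n : ℕ} (h : balB' n = true) : balB n = true := by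
  simp only [balB', balB, Bool.and_eq_true, List.all_eq_true, Bool.or_eq_true] at h ⊢
  exact ⟨fun r hr => (h.1 r hr).imp id balBit_spec, fun r hr q hq => balBit_spec (h.2 r hr q hq)⟩

theorem bal_check : (Frame.kClasses.all fun i => balB (rep i)) = true := by
  have h : (Frame.kClasses.all fun i => balB' (rep i)) = true := by decide +kernel
  simp only [List.all_eq_true] at h ⊢
  exact fun i hi => balB_of_bits (h i hi)

theorem R_facts : (listR.all fun r => Nat.blt r 512 && commB r 1 &&
    (!((listR.all fun s => commB r s) && Nat.beq (mul r r) 2) || Nat.beq r 1 || Nat.beq r 3)) = true ∧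
    listR.contains 1 = true ∧ listR.contains 2 = true ∧ listR.contains 3 = true ∧ mul 1 1 = 2 := by decide +kernel

theorem R_invol : (listR.all fun r => !(Nat.beq (mul r r) 0) || Nat.beq r 0 ||
    (Frame.kClasses.contains (cls r) && listV.any fun v => listV.any fun w =>
      !(Nat.beq v 0) && !(Nat.beq w 0) && !(Nat.beq v w) && commB r v && commB r w)) = true := by decide +kernel

theorem A_weak : ((List.range 512).all fun a => Nat.blt a 64 || (Nat.ble (centL [a]).length 64 &&
    (!(Nat.beq (centL [a]).length 64) || (centL [a]).any fun x => (centL [a]).any fun y => !commB x y))) = true := by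
  decide +kernel

theorem A_facts : (listA.all fun a => listA.all fun b => commB a b) = true ∧
    (listA.all fun a => !(Nat.beq (mul a a) 0) || listV.contains a) = true ∧
    (listV.all fun v => Nat.blt v 64 && Nat.beq (mul v v) 0 && listR.contains v &&
      (Nat.beq v 0 || Nat.ble (cls v) 2) && listV.all fun w => commB v w) = true ∧ listV.Nodup ∧ listV.length = 8 ∧
    listA.length = 64 ∧ listA.Nodup ∧ rep 1 = 8 ∧ rep 2 = 32 ∧ rep 0 = 2 := by decide +kernel

theorem z_facts : (centL [2]).length = 512 ∧ mul 2 2 = 0 ∧ ((List.range 512).all fun a => commB a 2) = true := by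
  decide +kernel

theorem L_small : ((List.range 512).all fun n => !([4, 6, 7].contains (cls n)) ||
    Nat.ble (centL [n]).length 64) = true := by decide +kernel

theorem u_facts : (centL [132]).length = 64 ∧ centL [2, 132] = centL [132] ∧
    (centL [132]).contains 2 = true ∧ (centL [132]).contains 8 = true ∧
    ((centL [132]).all fun s => !(Nat.beq (mul (mul s s) (mul s s)) 0) || Nat.beq (mul s s) 0 ||
      Nat.beq (mul s s) 2) = true ∧
    ((centL [132]).all fun n => !([4, 6, 7].contains (cls n)) || [4, 6, 7].contains (cls (mul 2 n))) = true := by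
  decide +kernel

namespace Frame

variable {G : Type*} [Group G] (F : Frame G)

/-- the odd core of a centraliser -/
abbrev θ (_F : Frame G) (a : G) : Subgroup G := OC (centralizer ({a} : Set G))

theorem z_eq : F.z = F.f (rep 0) := rfl

theorem z_sq : F.z * F.z = 1 := by
  rw [z, ← F.map_mul (by norm_num) (by norm_num), z_facts.2.1, F.f_zero]

theorem z_ne : F.z ≠ 1 := fun e => absurd ((F.f_eq_one (by norm_num)).1 e) (by norm_num)

theorem z_ord : orderOf F.z = 2 := invol_iff.2 ⟨F.z_sq, F.z_ne⟩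

theorem comm_z {a : ℕ} (ha : a < 512) : F.f a * F.z = F.z * F.f a := by
  have h := z_facts.2.2
  simp only [List.all_eq_true, List.mem_range] at h
  exact (F.f_comm ha (by norm_num)).2 (commB_iff.1 (h a ha))

theorem T_le_Cz : (F.T : Subgroup G) ≤ centralizer ({F.z} : Set G) := fun x hx => by
  obtain ⟨a, ha, rfl⟩ := F.surj x hx
  exact mem_centralizer_singleton_iff.2 (F.comm_z ha)

theorem ext_z2 [Finite G] : F.Ext [2] := fun R hR _ => by
  have := F.ext_nil R hR (by rw [C_nil]; exact le_top)
  rw [z_facts.1]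
  simpa [centL] using this

theorem conj_mem_θ [Finite G] {a x : G} (g : G) (hx : x ∈ F.θ a) : g * x * g⁻¹ ∈ F.θ (g * a * g⁻¹) := by
  have e : conjBy g (centralizer ({a} : Set G)) = centralizer ({g * a * g⁻¹} : Set G) := by
    ext y
    rw [mem_conjBy, mem_centralizer_singleton_iff, mem_centralizer_singleton_iff,
      show y * (g * a * g⁻¹) = g * (g⁻¹ * y * g * a) * g⁻¹ by group,
      show g * a * g⁻¹ * y = g * (a * (g⁻¹ * y * g)) * g⁻¹ by group]
    exact ⟨fun e => by rw [e], fun e => mul_left_cancel (mul_right_cancel e)⟩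
  show g * x * g⁻¹ ∈ OC _
  rw [← e, ← conjBy_OC]
  exact ⟨x, hx, rfl⟩

theorem mem_R_code {g : G} (hg : g ∈ F.R) : ∃ r ∈ listR, r < 512 ∧ F.f r = g := by
  obtain ⟨r, hr, e⟩ := hg
  have h := R_facts.1
  simp only [List.all_eq_true, Bool.and_eq_true, Nat.blt_eq] at h
  exact ⟨r, hr, (h r hr).1.1, e⟩

theorem c_mem_R : F.c ∈ F.R := ⟨1, List.contains_iff_mem.1 R_facts.2.1, rfl⟩

variable {F}

theorem Fused.k_link (hF : F.Fused) {i : ℕ} (hi : i ∈ kClasses) : F.Link 0 i := by
  simp only [kClasses, List.mem_cons, List.not_mem_nil, or_false] at hi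
  rcases hi with rfl | rfl | rfl | rfl | rfl | rfl
  exacts [Link.refl 0, hF.za, hF.zb, hF.ze, hF.zp, hF.zw]

theorem Fused.l_not_link (hF : F.Fused) {i : ℕ} (hi : i ∈ [4, 6, 7]) : ¬ F.Link 0 i := by
  simp only [List.mem_cons, List.not_mem_nil, or_false] at hi
  rcases hi with rfl | rfl | rfl
  exacts [hF.zu, fun h => hF.zu (h.trans hF.uq.symm), fun h => hF.zu (h.trans hF.uv.symm)]

theorem kl_disjoint {i : ℕ} (hi : i ∈ kClasses) : i < 16 := by
  simp only [kClasses, List.mem_cons, List.not_mem_nil, or_false] at hi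
  omega

theorem Fused.conj_z_of_cls (hF : F.Fused) {n : ℕ} (hn : n < 512) (h : cls n ∈ kClasses) :
    IsConj F.z (F.f n) :=
  IsConj.trans (hF.k_link h) (F.isConj_rep hn (kl_disjoint h))

theorem cls_cases {n : ℕ} (hn : n < 512) (h2 : mul n n = 0) (h0 : n ≠ 0) :
    cls n ∈ kClasses ∨ cls n ∈ [4, 6, 7] := by
  have h := involution_check.1
  simp only [List.all_eq_true, List.mem_range, Bool.or_eq_true, Nat.blt_eq] at h
  rcases h n hn with (h' | h') | h'
  · exact absurd (Nat.eq_of_beq_eq_true h') h0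
  · simp [h2] at h'
  · simp only [kClasses, List.mem_cons, List.not_mem_nil, or_false]
    omega

theorem Fused.cls_of_conj_z (hF : F.Fused) {n : ℕ} (hn : n < 512) (h : IsConj F.z (F.f n)) :
    cls n ∈ kClasses := by
  obtain ⟨g, hg⟩ := isConj_iff.1 h
  have h2 : F.f n * F.f n = 1 := by
    rw [← hg, show g * F.z * g⁻¹ * (g * F.z * g⁻¹) = g * (F.z * F.z) * g⁻¹ by group, F.z_sq]; group
  rw [← F.map_mul hn hn] at h2
  have h0 : n ≠ 0 := fun e => F.z_ne (by rw [e, F.f_zero, conj_eq_one_iff] at hg; exact hg)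
  refine (cls_cases hn ((F.f_eq_one (mul_lt _ _)).1 h2) h0).resolve_right fun hl => hF.l_not_link hl ?_
  refine h.trans (F.isConj_rep hn ?_).symm
  simp only [List.mem_cons, List.not_mem_nil, or_false] at hl
  omega

variable (F)

theorem comm_A {x y : G} (hx : x ∈ F.A) (hy : y ∈ F.A) : x * y = y * x := by
  obtain ⟨a, ha, rfl⟩ := hx
  obtain ⟨b, hb, rfl⟩ := hy
  have h := A_facts.1
  simp only [List.all_eq_true] at h
  exact (F.f_comm (lt_trans (List.mem_range.1 ha) (by norm_num)) (lt_trans (List.mem_range.1 hb) (by norm_num))).2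
    (commB_iff.1 (h a ha b hb))

theorem card_A : Nat.card ↥F.A = 64 := by
  have e : Nat.card {a // a ∈ listA} = 64 := by
    rw [Nat.subtype_card listA.toFinset (fun _ => List.mem_toFinset),
      List.toFinset_card_of_nodup A_facts.2.2.2.2.2.2.1, A_facts.2.2.2.2.2.1]
  rw [← e]
  refine (Nat.card_eq_of_bijective (fun a : {a // a ∈ listA} => (⟨F.f a, a, a.2, rfl⟩ : F.A))
    ⟨fun a b h => ?_, fun g => ?_⟩).symm
  · exact Subtype.ext (F.inj (lt_trans (List.mem_range.1 a.2) (by norm_num))
      (lt_trans (List.mem_range.1 b.2) (by norm_num)) (congrArg Subtype.val h))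
  · obtain ⟨a, ha, e⟩ := g.2
    exact ⟨⟨a, ha⟩, Subtype.ext e⟩

theorem A_le_T : F.A ≤ (F.T : Subgroup G) := F.sub_le _ _

variable [Finite G]

/-- the homocyclic subgroup is weakly closed -/
theorem mem_normA {g : G} (h : ∀ a ∈ F.A, g * a * g⁻¹ ∈ (F.T : Subgroup G)) :
    g ∈ normalizer (F.A : Set G) := by
  have hle : conjBy g F.A ≤ (F.T : Subgroup G) := by rintro _ ⟨a, ha, rfl⟩; exact h a ha
  have hcard : Nat.card ↥(conjBy g F.A) = 64 := by
    rw [conjBy, card_map_of_injective (MulAut.conj g).injective, F.card_A]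
  have hcomm : ∀ x ∈ conjBy g F.A, ∀ y ∈ conjBy g F.A, x * y = y * x := by
    rintro _ ⟨a, ha, rfl⟩ _ ⟨b, hb, rfl⟩
    exact ((Commute.map (F.comm_A ha hb : Commute a b) (MulAut.conj g).toMonoidHom)).eq
  have hsub : conjBy g F.A ≤ F.A := by
    intro x hx
    obtain ⟨a, ha, rfl⟩ := F.surj x (hle hx)
    by_contra hna
    have ha64 : ¬ a < 64 := fun hlt => hna ⟨a, List.mem_range.2 hlt, rfl⟩
    have hw := A_weak
    simp only [List.all_eq_true, List.mem_range, Bool.or_eq_true, Nat.blt_eq, Bool.and_eq_true, Nat.ble_eq,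
      Bool.not_eq_true', List.any_eq_true] at hw
    obtain ⟨hlen, hna'⟩ := (hw a ha).resolve_left ha64
    have hzs : ∀ z ∈ [a], z < 512 := by simpa using ha
    have hle2 : conjBy g F.A ≤ F.TC [a] := fun y hy =>
      mem_inf.2 ⟨hle hy, F.mem_C_singleton.2 (hcomm y hy _ hx)⟩
    have hc := Subgroup.card_le_of_le hle2
    rw [hcard, F.card_TC hzs] at hc
    have heq := Subgroup.eq_of_le_of_card_ge hle2 (by rw [hcard, F.card_TC hzs]; omega)
    obtain ⟨u, hu, v, hv, huv⟩ := hna'.resolve_left (by simp [show (centL [a]).length = 64 by omega])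
    have := hcomm (F.f u) (heq ▸ (F.mem_TC hzs).2 ⟨u, hu, rfl⟩) (F.f v) (heq ▸ (F.mem_TC hzs).2 ⟨v, hv, rfl⟩)
    rw [F.f_comm (mem_centL.1 hu).1 (mem_centL.1 hv).1, ← commB_iff, huv] at this
    exact Bool.false_ne_true this
  exact CfsgLib.Coprime.conjBy_eq_self_iff.1
    (Subgroup.eq_of_le_of_card_ge hsub (by rw [hcard, F.card_A]))

theorem T_le_normA : (F.T : Subgroup G) ≤ normalizer (F.A : Set G) := fun _ ht => F.mem_normA
  fun _ ha => mul_mem (mul_mem ht (F.A_le_T ha)) (inv_mem ht)

/-- the normaliser of the homocyclic subgroup controls fusion in it -/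
theorem control_A {x g : G} (hx : x ∈ F.A) (hy : g * x * g⁻¹ ∈ F.A) :
    ∃ n ∈ normalizer (F.A : Set G), n * x * n⁻¹ = g * x * g⁻¹ := by
  haveI : Fact (Nat.Prime 2) := ⟨Nat.prime_two⟩
  set C := centralizer ({g * x * g⁻¹} : Set G) with hC
  have hAC : F.A ≤ C := fun a ha => mem_centralizer_singleton_iff.2 (F.comm_A ha hy)
  have h2 : IsPGroup 2 F.A := F.T.2.to_le F.A_le_T
  obtain ⟨P, hP⟩ := (h2.of_equiv (subgroupOfEquivOfLe hAC).symm).exists_le_sylow
  have hle : conjBy g F.A ≤ C := by
    rintro _ ⟨a, ha, rfl⟩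
    refine mem_centralizer_singleton_iff.2 ?_
    show g * a * g⁻¹ * (g * x * g⁻¹) = g * x * g⁻¹ * (g * a * g⁻¹)
    calc g * a * g⁻¹ * (g * x * g⁻¹) = g * (a * x) * g⁻¹ := by group
      _ = g * (x * a) * g⁻¹ := by rw [F.comm_A ha hx]
      _ = g * x * g⁻¹ * (g * a * g⁻¹) := by group
  obtain ⟨c, hc⟩ := exists_conj_le_sylow (((h2.map _ : IsPGroup 2 (conjBy g F.A))).of_equiv
    (subgroupOfEquivOfLe hle).symm) P
  obtain ⟨k, hk⟩ := exists_conj_le_sylow (P.2.map C.subtype) F.T
  have h1 : k ∈ normalizer (F.A : Set G) := F.mem_normA fun a ha => hk a ⟨⟨a, hAC ha⟩, hP ha, rfl⟩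
  have h3 : k * (c * g) ∈ normalizer (F.A : Set G) := F.mem_normA fun a ha => by
    have := hk _ ⟨_, hc ⟨g * a * g⁻¹, hle ⟨a, ha, rfl⟩⟩ ⟨a, ha, rfl⟩, rfl⟩
    show k * (c * g) * a * (k * (c * g))⁻¹ ∈ F.T
    simpa [mul_assoc] using this
  refine ⟨(c : G) * g, ?_, ?_⟩
  · have := mul_mem ((normalizer (F.A : Set G)).inv_mem h1) h3
    rwa [inv_mul_cancel_left] at this
  · calc (c : G) * g * x * ((c : G) * g)⁻¹ = c * (g * x * g⁻¹) * (c : G)⁻¹ := by group
      _ = g * x * g⁻¹ := by rw [mem_centralizer_singleton_iff.1 c.2, mul_inv_cancel_right]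

end Frame

end CfsgLib.Spor.HSSylow
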