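import Cfsg.Agent.Lib.Spor.HSSylow.Bridge
import Cfsg.Agent.Lib.Spor.HSSylow.CoreFacts
import Cfsg.Agent.Lib.Spor.HSSylow.Cert.AllA

/-!
# The centralizer of the central involution in the main case

Class three is fused to the central involution, so the first side of the factor of type `L₃(4)` is fused to
the centre; hence it is normal and `R` is normal in the centralizer modulo the odd core.
-/

set_option autoImplicit false
set_option maxRecDepth 100000
set_option linter.unusedSectionVars false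
set_option linter.style.haveILetI false

namespace CfsgLib.Spor.HSSylow

open Subgroup
open CfsgLib.Invol.HeisFour (H4)
open CfsgLib.ProdFusion (OC)

theorem cls_zero_check : ((List.range 512).all fun n => !Nat.beq (cls n) 0 || Nat.beq n 2) = true := by
  decide +kernel

theorem A_invol_check : ((List.range 64).all fun a => !Nat.beq (mul a a) 0 || Nat.beq a 0 || Nat.beq a 2 ||
    Nat.beq (cls a) 1 || Nat.beq (cls a) 2) = true := by
  decide +kernel

theorem small_classes : ((List.range 512).all fun n => !(Nat.beq (cls n) 1 || Nat.beq (cls n) 2) || Nat.blt n 64) = true := by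
  decide +kernel

theorem R_conj_check : (listR.all fun r => Nat.blt r 512 && listR.contains (conj 192 r)) = true := by
  decide +kernel

theorem inverting_check : conj 64 1 = 3 ∧ inv 64 = 192 ∧ commB 128 2 = true := by decide +kernel

namespace Frame

universe u

variable {G : Type u} [Group G] [Finite G] (F : Frame G)

theorem V_coset_spec {n : ℕ} (hn : n < 512) (h : cls n = 1 ∨ cls n = 2) :
    (∃ p : H4, p.b = 0 ∧ p.a = 0 ∧ mul (inv (lift4 p)) n < 4) ∧ n ∈ centL [1] ∧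
      ∀ s < 512, cls (conj s n) = 1 ∨ cls (conj s n) = 2 := by
  have hc := V_coset
  simp only [List.all_eq_true, List.mem_range, Bool.or_eq_true, Bool.and_eq_true, Bool.not_eq_true',
    decide_eq_true_eq] at hc
  rcases hc n hn with h' | ⟨⟨h1, h2⟩, h3⟩
  · simp only [Bool.or_eq_false_iff] at h'
    rcases h with h | h <;> rw [h] at h' <;> simp at h'
  · refine ⟨h1, mem_centL.2 ⟨hn, fun z hz => by rw [List.mem_singleton.1 hz]; exact commB_iff.1 h2⟩,
      fun s hs => ?_⟩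
    exact (h3 s hs).imp Nat.eq_of_beq_eq_true Nat.eq_of_beq_eq_true

theorem qb_inverting_not_mem : F.qb 64 ∉ F.C1b := by
  intro h
  have h' := F.mem_C1b.1 h
  rw [← F.qb_mul (by norm_num) (by norm_num), ← F.qb_mul (by norm_num) (by norm_num)] at h'
  have h2 := F.qb_inj (mul_lt _ _) (mul_lt _ _) h'
  revert h2
  decide +kernel

/-- an element centralizing `z` carries class three into `V` -/
theorem exists_to_V (hG : ∀ H : Subgroup G, H.index ≠ 2) (he : F.Link 0 3) :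
    ∃ g : ↥(F.C [2]), F.qmap g ∈ F.C1b ∧ ∃ w, w < 512 ∧ (cls w = 1 ∨ cls w = 2) ∧
      (g : G) * F.f 128 * (g : G)⁻¹ = F.f w := by
  obtain ⟨g, hg⟩ := F.emb_of_link (a := 3) (i := 0) (by norm_num) (by norm_num) he.symm F.ext_z
  obtain ⟨s, hs, n, hn, m, hm, hnm, e⟩ := cert_move cert_e_z_A_check (fun p hp => by
    simp only [cert_e_z_A, List.mem_singleton] at hp
    exact ⟨_, hp⟩) hg
  have htar : cls n = 0 ∧ (cls m = 1 ∨ cls m = 2) := by
    simp only [cert_e_z_A, List.mem_cons, List.not_mem_nil, or_false, Prod.mk.injEq] at hnm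
    rcases hnm with ⟨h1, h2⟩ | ⟨h1, h2⟩
    · exact ⟨h1, Or.inl h2⟩
    · exact ⟨h1, Or.inr h2⟩
  have hn2 : n = 2 := by
    have hc := cls_zero_check
    simp only [List.all_eq_true, List.mem_range, Bool.or_eq_true, Bool.not_eq_true'] at hc
    rcases hc n hn with h | h
    · rw [htar.1] at h
      simp at h
    · exact Nat.eq_of_beq_eq_true h
  subst hn2
  have hm64 : m < 64 := by
    have hc := small_classes
    simp only [List.all_eq_true, List.mem_range, Bool.or_eq_true, Bool.not_eq_true', Nat.blt_eq] at hc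
    rcases hc m hm with h | h
    · simp only [Bool.or_eq_false_iff] at h
      rcases htar.2 with h' | h' <;> rw [h'] at h <;> simp at h
    · exact h
  have hg0 : g * F.f 128 * g⁻¹ = F.f 2 := hg.pairs (rep 3, rep 0) (by simp)
  set g' := F.f s * g with hg'
  have hs2 : F.f s * F.f 2 = F.f 2 * F.f s :=
    (F.f_comm (mem_centL.1 hs).1 (by norm_num)).2 ((mem_centL.1 hs).2 2 (List.mem_singleton.2 rfl))
  have h128 : g' * F.f 128 * g'⁻¹ = F.f 2 := by
    rw [hg', show F.f s * g * F.f 128 * (F.f s * g)⁻¹ = F.f s * (g * F.f 128 * g⁻¹) * (F.f s)⁻¹ by group, hg0, hs2,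
      mul_inv_cancel_right]
  have hzA : F.f 2 ∈ F.A := ⟨2, List.mem_range.2 (by norm_num), rfl⟩
  have hmA : F.f m ∈ F.A := ⟨m, List.mem_range.2 hm64, rfl⟩
  have hback : g'⁻¹ * F.f m * g'⁻¹⁻¹ = F.f 2 := by rw [← e]; group
  obtain ⟨h, hh, hhe⟩ := F.control_A hmA (g := g'⁻¹) (by rw [hback]; exact hzA)
  rw [hback] at hhe
  set k := h * g' with hk
  have hk2 : k * F.f 2 * k⁻¹ = F.f 2 := by
    rw [hk, show h * g' * F.f 2 * (h * g')⁻¹ = h * (g' * F.f 2 * g'⁻¹) * h⁻¹ by group, e, hhe]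
  have hk128 : k * F.f 128 * k⁻¹ = h * F.f 2 * h⁻¹ := by
    rw [hk, show h * g' * F.f 128 * (h * g')⁻¹ = h * (g' * F.f 128 * g'⁻¹) * h⁻¹ by group, h128]
  obtain ⟨w, hw, hwe⟩ : h * F.f 2 * h⁻¹ ∈ F.A := (mem_normalizer_iff.1 hh _).1 hzA
  have hw64 := List.mem_range.1 hw
  have hw5 : w < 512 := by omega
  rw [← hwe] at hk128
  have hwsq : mul w w = 0 := F.inj (mul_lt _ _) (by norm_num) (by
    rw [F.map_mul hw5 hw5, ← hk128,
      show k * F.f 128 * k⁻¹ * (k * F.f 128 * k⁻¹) = k * (F.f 128 * F.f 128) * k⁻¹ by group,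
      ← F.map_mul (by norm_num) (by norm_num), show mul 128 128 = 0 by decide +kernel, F.f_zero, mul_one,
      mul_inv_cancel])
  have hwcls : cls w = 1 ∨ cls w = 2 := by
    have hc := A_invol_check
    simp only [List.all_eq_true, List.mem_range, Bool.or_eq_true, Bool.not_eq_true'] at hc
    rcases hc w hw64 with (((h' | h') | h') | h') | h'
    · rw [hwsq] at h'
      simp at h'
    · exfalso
      rw [Nat.eq_of_beq_eq_true h', F.f_zero, conj_eq_one_iff, F.f_eq_one (by norm_num)] at hk128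
      omega
    · exfalso
      rw [Nat.eq_of_beq_eq_true h'] at hk128
      have h'' := hk128.trans hk2.symm
      rw [mul_left_inj, mul_right_inj] at h''
      exact absurd (F.inj (by norm_num) (by norm_num) h'') (by norm_num)
    · exact Or.inl (Nat.eq_of_beq_eq_true h')
    · exact Or.inr (Nat.eq_of_beq_eq_true h')
  have hkC : k ∈ F.C [2] := F.mem_C_singleton.2 (mul_inv_eq_iff_eq_mul.1 hk2)
  by_cases hin : F.qmap ⟨k, hkC⟩ ∈ F.C1b
  · exact ⟨⟨k, hkC⟩, hin, w, hw5, hwcls, hk128⟩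
  refine ⟨⟨F.f 64, F.z_mem_C (by norm_num)⟩ * ⟨k, hkC⟩, ?_, conj 64 w, conj_lt _ _,
    (V_coset_spec hw5 hwcls).2.2 64 (by norm_num), ?_⟩
  · rw [_root_.map_mul, ← F.qb_eq (by norm_num), Subgroup.mul_mem_iff_of_index_two F.index_C1b]
    exact iff_of_false F.qb_inverting_not_mem hin
  · show F.f 64 * k * F.f 128 * (F.f 64 * k)⁻¹ = F.f (conj 64 w)
    rw [F.f_conj (by norm_num) hw5, ← hk128]
    group

/-- **the first side is fused** -/
theorem alpha (hG : ∀ H : Subgroup G, H.index ≠ 2) (he : F.Link 0 3) : F.dFrame.Alpha := by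
  obtain ⟨g, hg, w, hw, hwc, e⟩ := F.exists_to_V hG he
  obtain ⟨⟨q, hqb, hqa, hqk⟩, hwC, -⟩ := V_coset_spec hw hwc
  obtain ⟨⟨p, hpb, hpa, hpk⟩, h1⟩ := e_coset
  have hp128 : F.dq 128 = F.dHom p := by
    conv_lhs => rw [dq_of_quot (p := p) (by norm_num) hpk]
    exact F.dq_coset p hpk
  have hqw : F.dq w = F.dHom q := by
    conv_lhs => rw [dq_of_quot (p := q) hw hqk]
    exact F.dq_coset q hqk
  have h128C : 128 ∈ centL [1] := mem_centL.2 ⟨by norm_num, fun z hz => by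
    rw [List.mem_singleton.1 hz]; exact commB_iff.1 h1⟩
  let x : F.Db := QuotientGroup.mk' _ ⟨F.qmap g, hg⟩
  have hx : x * F.dFrame.hom p * x⁻¹ = F.dFrame.hom q := by
    rw [F.dFrame_hom, F.dFrame_hom, ← hp128, ← hqw, F.dq_eq h128C, F.dq_eq hwC, ← _root_.map_inv,
      ← _root_.map_mul, ← _root_.map_mul]
    congr 1
    refine Subtype.ext ?_
    show F.qmap g * F.qb 128 * (F.qmap g)⁻¹ = F.qb w
    rw [F.qb_eq (by norm_num), F.qb_eq hw, ← _root_.map_inv, ← _root_.map_mul, ← _root_.map_mul]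
    congr 1
    exact Subtype.ext e
  intro hle
  obtain ⟨n, hn, hne⟩ := F.dFrame.exists_normalizer_of_conj (x := F.dFrame.hom p) (g := x)
    (F.dFrame.hom_mem_A.2 hpb) (by rw [hx]; exact F.dFrame.hom_mem_Z.2 ⟨hqb, hqa⟩)
  have hz : n * F.dFrame.hom p * n⁻¹ ∈ F.dFrame.Z := by rw [hne, hx]; exact F.dFrame.hom_mem_Z.2 ⟨hqb, hqa⟩
  exact hpa (F.dFrame.hom_mem_Z.1 ((mem_normalizer_iff.1 (hle hn) _).2 hz)).2

theorem R_spec {r : ℕ} (hr : r ∈ listR) : r < 512 ∧ r ∈ centL [1] ∧ conj 192 r ∈ listR := by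
  have h := R_conj_check
  simp only [List.all_eq_true, Bool.and_eq_true, Nat.blt_eq, List.contains_iff_mem] at h
  have h' := R_facts
  simp only [List.all_eq_true, Bool.and_eq_true, Nat.blt_eq, List.contains_iff_mem] at h'
  refine ⟨(h r hr).1, mem_centL.2 ⟨(h r hr).1, fun z hz => ?_⟩, (h r hr).2⟩
  rw [List.mem_singleton.1 hz]
  exact commB_iff.1 ((h'.1 r hr).1.2)

theorem R_normal_mod (hA : F.dFrame.A.Normal) (x : F.Cb) {r : ℕ} (hr : r ∈ listR) :
    ∃ r' ∈ listR, x * F.qb r * x⁻¹ = F.qb r' := by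
  have key : ∀ y ∈ F.C1b, ∀ r ∈ listR, ∃ r' ∈ listR, y * F.qb r * y⁻¹ = F.qb r' := by
    intro y hy r hr
    obtain ⟨hr5, hrC, -⟩ := R_spec hr
    have hc := R_coset.2
    simp only [List.all_eq_true, decide_eq_true_eq] at hc
    obtain ⟨p, hpb, hpk⟩ := hc r hr
    have hd : F.dq r = F.dHom p := by
      conv_lhs => rw [dq_of_quot (p := p) hr5 hpk]
      exact F.dq_coset p hpk
    have hm := hA.conj_mem _ (F.dFrame.hom_mem_A.2 hpb) (QuotientGroup.mk' _ ⟨y, hy⟩)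
    obtain ⟨q, hqb, hq⟩ := hm
    rw [F.dFrame_hom, F.dFrame_hom, ← hd, F.dq_eq hrC, dHom_apply, ← _root_.map_inv, ← _root_.map_mul,
      ← _root_.map_mul, QuotientGroup.mk'_apply, QuotientGroup.mk'_apply, QuotientGroup.eq] at hq
    obtain ⟨k, hk, hke⟩ := F.cSub_cases hq
    refine ⟨cosetElt q k, List.contains_iff_mem.1 (R_coset.1 q hqb k hk), ?_⟩
    rw [cosetElt, F.qb_mul (lift4_lt q) (by omega), ← hke]
    show y * F.qb r * y⁻¹ = F.qb (lift4 q) * ((F.qb (lift4 q))⁻¹ * (y * F.qb r * y⁻¹))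
    rw [mul_inv_cancel_left]
  by_cases hx : x ∈ F.C1b
  · exact key x hx r hr
  obtain ⟨hr5, -, hr'⟩ := R_spec hr
  obtain ⟨r', hr'', e⟩ := key (x * F.qb 64) ((Subgroup.mul_mem_iff_of_index_two F.index_C1b).2
    (iff_of_false hx F.qb_inverting_not_mem)) (conj 192 r) hr'
  refine ⟨r', hr'', ?_⟩
  rw [← e, F.qb_conj (by norm_num) hr5, ← inverting_check.2.1, F.qb_inv (by norm_num)]
  group

theorem C_eq_centralizer_z : F.C [2] = centralizer ({F.z} : Set G) := F.C_singleton 2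

theorem mem_OC_z {x : ↥(F.C [2])} (h : x ∈ Cfsg.pPrimeCore 2 ↥(F.C [2])) :
    (x : G) ∈ OC (centralizer ({F.z} : Set G)) := by
  rw [← C_eq_centralizer_z]
  exact mem_map_of_mem _ h

theorem of_mem_OC_z {g : G} (h : g ∈ OC (centralizer ({F.z} : Set G))) :
    ∃ x : ↥(F.C [2]), x ∈ Cfsg.pPrimeCore 2 ↥(F.C [2]) ∧ (x : G) = g := by
  rw [← C_eq_centralizer_z] at h
  exact h

/-- the conjugate of `R` by an element centralizing `z` is congruent to `R` -/
theorem factor_of_normal (hA : F.dFrame.A.Normal) (g : G) (hg : g * F.z = F.z * g) :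
    ∃ o n : G, o ∈ OC (centralizer ({F.z} : Set G)) ∧ n * F.z = F.z * n ∧
      n ∈ normalizer (F.R : Set G) ∧ g = o * n := by
  haveI : Fact (Nat.Prime 2) := ⟨Nat.prime_two⟩
  have hgC : g ∈ F.C [2] := F.mem_C_singleton.2 hg
  set O := Cfsg.pPrimeCore 2 ↥(F.C [2]) with hO
  set R' : Subgroup ↥(F.C [2]) := F.R.subgroupOf (F.C [2]) with hR'
  have hRT : F.R ≤ (F.T : Subgroup G) := F.sub_le _ _
  have hRC : F.R ≤ F.C [2] := hRT.trans F.T_le_C
  have hRp : IsPGroup 2 R' := (F.T.2.to_le hRT).of_equiv (subgroupOfEquivOfLe hRC).symm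
  set M := O ⊔ R' with hM
  have hgR : ∀ x ∈ R', (⟨g, hgC⟩ : ↥(F.C [2])) * x * (⟨g, hgC⟩ : ↥(F.C [2]))⁻¹ ∈ M := by
    intro x hx
    obtain ⟨r, hr, hre⟩ := mem_subgroupOf.1 hx
    obtain ⟨r', hr', e⟩ := F.R_normal_mod hA (F.qmap ⟨g, hgC⟩) hr
    obtain ⟨hr5, -, -⟩ := R_spec hr
    obtain ⟨hr'5, -, -⟩ := R_spec hr'
    rw [F.qb_eq hr5, F.qb_eq hr'5, ← _root_.map_inv, ← _root_.map_mul, ← _root_.map_mul] at e
    have hx' : (⟨F.f r, F.z_mem_C hr5⟩ : ↥(F.C [2])) = x := Subtype.ext hre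
    rw [hx'] at e
    have h1 := (F.qmap_eq_iff).1 e.symm
    rw [← mul_inv_cancel_left (⟨F.f r', F.z_mem_C hr'5⟩ : ↥(F.C [2]))
      ((⟨g, hgC⟩ : ↥(F.C [2])) * x * (⟨g, hgC⟩ : ↥(F.C [2]))⁻¹)]
    exact mul_mem (mem_sup_right (mem_subgroupOf.2 ⟨r', hr', rfl⟩)) (mem_sup_left h1)
  set R'' := R'.map (MulAut.conj (⟨g, hgC⟩ : ↥(F.C [2]))).toMonoidHom with hR''
  have hle : R'' ≤ M := by rintro _ ⟨x, hx, rfl⟩; exact hgR x hx
  have hidx : ¬ 2 ∣ (R'.subgroupOf M).index := by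
    intro h
    have h1 : (R'.subgroupOf M).index ∣ Nat.card O := by
      have e1 : Nat.card (R'.subgroupOf M) = Nat.card R' :=
        Nat.card_congr (subgroupOfEquivOfLe (le_sup_right : R' ≤ M)).toEquiv
      have e2 : Nat.card (O.subgroupOf M) = Nat.card O :=
        Nat.card_congr (subgroupOfEquivOfLe (le_sup_left : O ≤ M)).toEquiv
      have e3 : (O.subgroupOf M).index ∣ Nat.card R' := by
        change O.relIndex (O ⊔ R') ∣ Nat.card R'
        rw [sup_comm, relIndex_sup_right]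
        exact relIndex_dvd_card O R'
      have e4 := (R'.subgroupOf M).card_mul_index
      rw [e1, ← (O.subgroupOf M).card_mul_index, e2] at e4
      have h2 : Nat.card R' * (R'.subgroupOf M).index ∣ Nat.card R' * Nat.card O := by
        rw [e4, mul_comm (Nat.card R')]
        exact mul_dvd_mul_left _ e3
      exact Nat.dvd_of_mul_dvd_mul_left Nat.card_pos h2
    exact (CfsgLib.ProdFusion.odd_iff_coprime.2 (CfsgLib.Coprime.pPrimeCore_coprime Nat.prime_two)).not_two_dvd_nat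
      (h.trans h1)
  obtain ⟨c, hc⟩ := CfsgLib.Invol.exists_conj_le_sylow
    (((hRp.map _ : IsPGroup 2 R'')).of_equiv (subgroupOfEquivOfLe hle).symm)
    ((hRp.of_equiv (subgroupOfEquivOfLe (le_sup_right : R' ≤ M)).symm).toSylow hidx)
  obtain ⟨o, ho, r₀, hr₀, hcm⟩ : ∃ o ∈ O, ∃ r₀ ∈ R', (c : ↥(F.C [2])) = r₀ * o := by
    have hcc : (c : ↥(F.C [2])) ∈ R' ⊔ O := by rw [sup_comm]; exact c.2
    rw [← SetLike.mem_coe, mul_normal, Set.mem_mul] at hcc
    obtain ⟨r₀, hr₀, o, ho, e⟩ := hcc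
    exact ⟨o, ho, r₀, hr₀, e.symm⟩
  set n := (o : G) * g with hn
  refine ⟨(o : G)⁻¹, n, inv_mem (F.mem_OC_z ho), F.mem_C_singleton.1 (mul_mem o.2 hgC), ?_, by rw [hn]; group⟩
  refine CfsgLib.ProdFusion.mem_of_forall_conj_mem fun y hy => ?_
  have hy' : (⟨y, hRC hy⟩ : ↥(F.C [2])) ∈ R' := mem_subgroupOf.2 hy
  have h1 := hc ⟨(MulAut.conj (⟨g, hgC⟩ : ↥(F.C [2]))).toMonoidHom ⟨y, hRC hy⟩, hle (mem_map_of_mem _ hy')⟩
    (mem_subgroupOf.2 (mem_map_of_mem _ hy'))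
  have h2 : ((c : ↥(F.C [2])) : G) * (g * y * g⁻¹) * ((c : ↥(F.C [2])) : G)⁻¹ ∈ F.R := mem_subgroupOf.1 h1
  rw [hcm, Subgroup.coe_mul] at h2
  have h3 := mul_mem (mul_mem (inv_mem (mem_subgroupOf.1 hr₀)) h2) (mem_subgroupOf.1 hr₀)
  rw [hn]
  convert h3 using 1
  group

theorem selfc_of_normal (hA : F.dFrame.A.Normal) (g : G) (hg : g * F.z = F.z * g)
    (h : ∀ r ∈ F.R, g * r * g⁻¹ * r⁻¹ ∈ OC (centralizer ({F.z} : Set G))) :
    ∃ o r : G, o ∈ OC (centralizer ({F.z} : Set G)) ∧ r ∈ F.R ∧ g = o * r := by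
  have hgC : g ∈ F.C [2] := F.mem_C_singleton.2 hg
  set x := F.qmap ⟨g, hgC⟩ with hx
  have hcomm : ∀ r ∈ listR, x * F.qb r = F.qb r * x := by
    intro r hr
    obtain ⟨hr5, -, -⟩ := R_spec hr
    obtain ⟨y, hy, hye⟩ := F.of_mem_OC_z (h (F.f r) ⟨r, hr, rfl⟩)
    have h1 : F.qmap y = 1 := (QuotientGroup.eq_one_iff _).2 hy
    rw [show y = ⟨g, hgC⟩ * ⟨F.f r, F.z_mem_C hr5⟩ * ⟨g, hgC⟩⁻¹ * ⟨F.f r, F.z_mem_C hr5⟩⁻¹ from Subtype.ext hye,
      _root_.map_mul, _root_.map_mul, _root_.map_mul, _root_.map_inv, _root_.map_inv, ← F.qb_eq hr5, ← hx,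
      mul_inv_eq_one, mul_inv_eq_iff_eq_mul] at h1
    exact h1
  have hx1 : x ∈ F.C1b := F.mem_C1b.2 (hcomm 1 (List.contains_iff_mem.1 R_facts.2.1))
  have hcentA : centralizer (F.dFrame.A : Set F.Db) = F.dFrame.A := by
    have := F.dFrame.swap.cent_B_of_normal F.core_Db (by rw [F.dFrame.swap_B]; exact hA)
    rwa [F.dFrame.swap_B] at this
  have hmem : QuotientGroup.mk' F.cSub ⟨x, hx1⟩ ∈ F.dFrame.A := by
    rw [← hcentA]
    refine mem_centralizer_iff.2 ?_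
    rintro _ ⟨p, hpb, rfl⟩
    obtain ⟨hp5, -, -⟩ := R_spec (List.contains_iff_mem.1 (R_coset.1 p hpb 0 (by norm_num)))
    rw [F.dFrame_hom, ← F.dq_coset p (k := 0) (by norm_num), F.dq_eq (coset_mem_centL (by norm_num)),
      ← _root_.map_mul, ← _root_.map_mul]
    congr 1
    exact Subtype.ext (hcomm _ (List.contains_iff_mem.1 (R_coset.1 p hpb 0 (by norm_num)))).symm
  obtain ⟨q, hqb, hq⟩ := hmem
  rw [F.dFrame_hom, dHom_apply, QuotientGroup.mk'_apply, QuotientGroup.mk'_apply, QuotientGroup.eq] at hq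
  obtain ⟨k, hk, hke⟩ := F.cSub_cases hq
  have hr : cosetElt q k ∈ listR := List.contains_iff_mem.1 (R_coset.1 q hqb k hk)
  obtain ⟨hr5, -, -⟩ := R_spec hr
  have hxr : F.qmap ⟨g, hgC⟩ = F.qb (cosetElt q k) := by
    rw [← hx, cosetElt, F.qb_mul (lift4_lt q) (by omega), ← hke]
    show x = F.qb (lift4 q) * ((F.qb (lift4 q))⁻¹ * x)
    rw [mul_inv_cancel_left]
  rw [F.qb_eq hr5] at hxr
  refine ⟨g * (F.f (cosetElt q k))⁻¹, F.f (cosetElt q k), ?_, ⟨_, hr, rfl⟩, by group⟩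
  have h1 : F.qmap (⟨g, hgC⟩ * ⟨F.f (cosetElt q k), F.z_mem_C hr5⟩⁻¹) = 1 := by
    rw [_root_.map_mul, _root_.map_inv, hxr, mul_inv_cancel]
  exact F.mem_OC_z ((QuotientGroup.eq_one_iff _).1 h1)

/-- **the centralizer of the central involution** -/
theorem central_of_fused (hG : ∀ H : Subgroup G, H.index ≠ 2) (he : F.Link 0 3) : F.Central := by
  have hA := F.dFrame.normal_A_of_alpha F.core_Db (F.alpha hG he) (F.not_beta hG)
  exact ⟨F.factor_of_normal hA, F.selfc_of_normal hA⟩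

end Frame

end CfsgLib.Spor.HSSylow
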