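import Cfsg.Agent.Lib.Spor.HSSylow.Engine

/-!
# Classes and links

The class numbers are those of the classes of involutions `2, 8, 32, 128, 132, 257, 256, 337, 320` (numbers zero to
eight) and of some elements of order four.
-/

set_option autoImplicit false
set_option maxRecDepth 100000

namespace CfsgLib.Spor.HSSylow

/-- The representative of a class. -/
def rep (i : ℕ) : ℕ :=
  [2, 8, 32, 128, 132, 257, 256, 337, 320, 1, 9, 33, 321, 336, 129, 133].getD i 0

theorem class_check : ((List.range 512).all fun n => Nat.ble 16 (cls n) ||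
    (List.range 512).any fun g => Nat.beq (conj g (rep (cls n))) n) = true := by
  decide +kernel

theorem rep_lt : ∀ i < 16, rep i < 512 ∧ cls (rep i) = i := by decide +kernel

theorem exists_conj_rep {n : ℕ} (hn : n < 512) (h : cls n < 16) : ∃ g < 512, conj g (rep (cls n)) = n := by
  have hc := class_check
  simp only [List.all_eq_true, List.mem_range, Bool.or_eq_true, Nat.ble_eq, List.any_eq_true] at hc
  rcases hc n hn with h' | ⟨g, hg, e⟩
  · omega
  · exact ⟨g, hg, Nat.eq_of_beq_eq_true e⟩

theorem involution_check : ((List.range 512).all fun n => Nat.beq n 0 || !Nat.beq (mul n n) 0 || Nat.blt (cls n) 9) = true ∧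
    ((List.range 512).all fun n => Nat.ble 9 (cls n) || (Nat.beq (mul n n) 0 && !Nat.beq n 0)) = true := by
  decide +kernel

namespace Frame

variable {G : Type*} [Group G] (F : Frame G)

/-- Two classes are linked when their members are conjugate. -/
def Link (a b : ℕ) : Prop := IsConj (F.f (rep a)) (F.f (rep b))

theorem Link.refl {F : Frame G} (a : ℕ) : F.Link a a := IsConj.refl _

theorem Link.symm {F : Frame G} {a b : ℕ} (h : F.Link a b) : F.Link b a := IsConj.symm h

theorem Link.trans {F : Frame G} {a b c : ℕ} (h : F.Link a b) (h' : F.Link b c) : F.Link a c := IsConj.trans h h'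

theorem isConj_rep {n : ℕ} (hn : n < 512) (h : cls n < 16) : IsConj (F.f (rep (cls n))) (F.f n) := by
  obtain ⟨g, hg, e⟩ := exists_conj_rep hn h
  refine isConj_iff.2 ⟨F.f g, ?_⟩
  rw [← F.f_conj hg (rep_lt _ h).1, e]

theorem link_of_conj {n m : ℕ} (hn : n < 512) (hm : m < 512) (hn' : cls n < 16) (hm' : cls m < 16) {d : G}
    (e : d * F.f n * d⁻¹ = F.f m) : F.Link (cls n) (cls m) :=
  ((F.isConj_rep hn hn').trans (isConj_iff.2 ⟨d, e⟩)).trans (F.isConj_rep hm hm').symm

variable {F}

theorem edge_link {d : G} {src im : List ℕ} (h : Cert.Match F d src im) (p : Word × Bool)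
    (h1 : (edge src im p).1 < 16) (h2 : (edge src im p).2 < 16) :
    F.Link (edge src im p).1 (edge src im p).2 := by
  obtain ⟨w, fl⟩ := p
  obtain ⟨hs, hi, e⟩ := Cert.ev_spec h w
  cases fl
  · exact F.link_of_conj hs hi h1 h2 e
  · exact (F.link_of_conj hs hi h2 h1 e).symm

theorem endp_link {d : G} {src im : List ℕ} (h : Cert.Match F d src im) :
    ∀ (p : List (Word × Bool)) {a b : ℕ}, endp src im p = some (a, b) → a < 16 → b < 16 → F.Link a b
  | [], a, b, he, _, _ => by simp [endp] at he
  | [p], a, b, he, ha, hb => by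
    simp only [endp, Option.some.injEq] at he
    have := edge_link h p (by rw [he]; exact ha) (by rw [he]; exact hb)
    rwa [he] at this
  | p :: q :: rest, a, b, he, ha, hb => by
    simp only [endp] at he
    cases hr : endp src im (q :: rest) with
    | none => simp [hr] at he
    | some e =>
      obtain ⟨a', b'⟩ := e
      simp only [hr] at he
      split_ifs at he with hc
      simp only [Option.some.injEq, Prod.mk.injEq] at he
      obtain ⟨rfl, rfl⟩ := he
      simp only [Bool.and_eq_true, Nat.blt_eq] at hc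
      have h2 : (edge src im p).2 = a' := Nat.eq_of_beq_eq_true hc.1
      have hl := edge_link h p ha (h2.symm ▸ hc.2)
      rw [h2] at hl
      exact hl.trans (endp_link h (q :: rest) hr hc.2 hb)

/-- The links given by a certificate. -/
theorem cert_link {C : Cert} (hC : C.check = true) (ht : ∀ e ∈ C.targets, e.1 < 16 ∧ e.2 < 16) {g : G}
    (hg : F.Emb g C.xs C.ys) : ∃ e ∈ C.targets, F.Link e.1 e.2 := by
  obtain ⟨d, _, _, im, hm, p, _, e, he, hp⟩ := Cert.sound hC hg
  exact ⟨e, he, endp_link hm p hp (ht e he).1 (ht e he).2⟩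

/-- The element moved by a certificate whose chains have one step. -/
theorem cert_move {C : Cert} (hC : C.check = true) (h1 : ∀ p ∈ C.paths, ∃ w, p = [(w, false)]) {g : G}
    (hg : F.Emb g C.xs C.ys) : ∃ s ∈ centL C.ys, ∃ n < 512, ∃ m < 512,
      (cls n, cls m) ∈ C.targets ∧ F.f s * g * F.f n * (F.f s * g)⁻¹ = F.f m := by
  obtain ⟨d, ⟨s, hs, rfl⟩, _, im, hm, p, hpm, e, he, hp⟩ := Cert.sound hC hg
  obtain ⟨w, rfl⟩ := h1 p hpm
  obtain ⟨hn, hm', e'⟩ := Cert.ev_spec hm w
  simp only [endp, edge, Option.some.injEq] at hp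
  simp at hp
  exact ⟨s, hs, _, hn, _, hm', hp ▸ he, e'⟩

end Frame

end CfsgLib.Spor.HSSylow
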