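import Cfsg.Agent.Lib.Spor.HSSylow.Data

/-!
# The coded group of order 512

Products, inverses and classes in the code of the Sylow two-subgroup of the Higman–Sims group.
-/

set_option autoImplicit false
set_option maxRecDepth 100000

namespace CfsgLib.Spor.HSSylow

/-- The sum of two vectors. -/
def addA (a b : ℕ) : ℕ :=
  (a % 4 + b % 4) % 4 + 4 * ((a / 4 % 4 + b / 4 % 4) % 4) + 16 * ((a / 16 + b / 16) % 4)

/-- The sum of two vectors, without carries. -/
def addR (a b : ℕ) : ℕ := Nat.xor (Nat.add (Nat.land a 21) (Nat.land b 21)) (Nat.land (Nat.xor a b) 42)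

/-- The image of a vector. -/
def act (d a : ℕ) : ℕ := Nat.land (Nat.shiftRight actTab (Nat.mul 6 (Nat.add (Nat.mul 64 d) a))) 63

/-- The product in the complement. -/
def dmul (d e : ℕ) : ℕ := Nat.land (Nat.shiftRight dTab (Nat.mul 3 (Nat.add (Nat.mul 8 d) e))) 7

/-- The product. -/
def mul (x y : ℕ) : ℕ :=
  Nat.add (addR (Nat.mod x 64) (act (Nat.div x 64) (Nat.mod y 64))) (Nat.mul 64 (dmul (Nat.div x 64) (Nat.div y 64)))

/-- The inverse. -/
def inv (x : ℕ) : ℕ := Nat.land (Nat.shiftRight invTab (Nat.mul 9 x)) 511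

/-- The conjugate of `x` by `g`. -/
def conj (g x : ℕ) : ℕ := mul (mul g x) (inv g)

/-- Whether two elements commute. -/
def commB (x y : ℕ) : Bool := Nat.beq (mul x y) (mul y x)

/-- The number of the class of an element, thirty-one when it is none of those used. -/
def cls (x : ℕ) : ℕ := Nat.land (Nat.shiftRight clsTab (Nat.mul 5 x)) 31

theorem addA_lt (a b : ℕ) : addA a b < 64 := by unfold addA; omega

theorem dig_assoc (p q r : ℕ) : ((p + q) % 4 + r) % 4 = (p + (q + r) % 4) % 4 := by omega

theorem addA_dig (a b : ℕ) : addA a b % 4 = (a % 4 + b % 4) % 4 ∧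
    addA a b / 4 % 4 = (a / 4 % 4 + b / 4 % 4) % 4 ∧ addA a b / 16 = (a / 16 + b / 16) % 4 := by
  unfold addA
  have h0 : (a % 4 + b % 4) % 4 < 4 := Nat.mod_lt _ (by norm_num)
  have h1 : (a / 4 % 4 + b / 4 % 4) % 4 < 4 := Nat.mod_lt _ (by norm_num)
  generalize (a % 4 + b % 4) % 4 = p at *
  generalize (a / 4 % 4 + b / 4 % 4) % 4 = q at *
  generalize (a / 16 + b / 16) % 4 = r
  refine ⟨?_, ?_, ?_⟩ <;> omega

theorem addA_assoc (a b c : ℕ) : addA (addA a b) c = addA a (addA b c) := by
  obtain ⟨h0, h1, h2⟩ := addA_dig a b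
  obtain ⟨k0, k1, k2⟩ := addA_dig b c
  conv_lhs => rw [addA, h0, h1, h2]
  conv_rhs => rw [addA, k0, k1, k2]
  rw [dig_assoc, dig_assoc, dig_assoc]

theorem act_lt (d a : ℕ) : act d a < 64 := lt_of_le_of_lt Nat.and_le_right (by norm_num : (63 : ℕ) < 64)

theorem dmul_lt (d e : ℕ) : dmul d e < 8 := lt_of_le_of_lt Nat.and_le_right (by norm_num)

theorem addR_check : ((List.range 64).all fun a => (List.range 64).all fun b => addR a b == addA a b) = true := by
  decide +kernel

theorem mul_eq (x y : ℕ) :
    mul x y = addA (x % 64) (act (x / 64) (y % 64)) + 64 * dmul (x / 64) (y / 64) := by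
  have h := addR_check
  simp only [List.all_eq_true, List.mem_range, beq_iff_eq] at h
  rw [← h _ (Nat.mod_lt _ (by norm_num)) _ (act_lt _ _)]
  rfl

theorem mul_lt (x y : ℕ) : mul x y < 512 := by
  have h1 := addA_lt (x % 64) (act (x / 64) (y % 64))
  have h2 := dmul_lt (x / 64) (y / 64)
  rw [mul_eq]
  omega

theorem inv_lt (x : ℕ) : inv x < 512 := lt_of_le_of_lt Nat.and_le_right (by norm_num)

theorem conj_lt (g x : ℕ) : conj g x < 512 := mul_lt _ _

theorem mul_mod (x y : ℕ) : mul x y % 64 = addA (x % 64) (act (x / 64) (y % 64)) := by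
  have h1 := addA_lt (x % 64) (act (x / 64) (y % 64))
  rw [mul_eq]
  omega

theorem mul_div (x y : ℕ) : mul x y / 64 = dmul (x / 64) (y / 64) := by
  have h1 := addA_lt (x % 64) (act (x / 64) (y % 64))
  rw [mul_eq]
  omega

theorem act_addA : ((List.range 8).all fun d => (List.range 64).all fun a => (List.range 64).all fun b =>
    act d (addA a b) == addA (act d a) (act d b)) = true := by
  decide +kernel

theorem act_dmul : ((List.range 8).all fun d => (List.range 8).all fun e => (List.range 64).all fun a =>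
    act (dmul d e) a == act d (act e a)) = true := by
  decide +kernel

theorem dmul_assoc : ((List.range 8).all fun d => (List.range 8).all fun e => (List.range 8).all fun h =>
    dmul (dmul d e) h == dmul d (dmul e h)) = true := by
  decide +kernel

theorem mul_assoc' {x y w : ℕ} (hx : x < 512) (hy : y < 512) (hw : w < 512) :
    mul (mul x y) w = mul x (mul y w) := by
  have hadd := act_addA
  have hcomp := act_dmul
  have hd := dmul_assoc
  simp only [List.all_eq_true, List.mem_range, beq_iff_eq] at hadd hcomp hd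
  conv_lhs => rw [mul_eq, mul_mod, mul_div]
  conv_rhs => rw [mul_eq, mul_mod, mul_div]
  rw [hadd _ (by omega) _ (by omega) _ (act_lt _ _), hcomp _ (by omega) _ (by omega) _ (by omega),
    hd _ (by omega) _ (by omega) _ (by omega), addA_assoc]

theorem unit_check : ((List.range 512).all fun x => mul 0 x == x && mul x 0 == x && mul x (inv x) == 0 &&
    mul (inv x) x == 0) = true := by
  decide +kernel

theorem zero_mul' {x : ℕ} (hx : x < 512) : mul 0 x = x := by
  have h := unit_check
  simp only [List.all_eq_true, List.mem_range, Bool.and_eq_true, beq_iff_eq] at h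
  exact (h x hx).1.1.1

theorem mul_zero' {x : ℕ} (hx : x < 512) : mul x 0 = x := by
  have h := unit_check
  simp only [List.all_eq_true, List.mem_range, Bool.and_eq_true, beq_iff_eq] at h
  exact (h x hx).1.1.2

theorem mul_inv' {x : ℕ} (hx : x < 512) : mul x (inv x) = 0 := by
  have h := unit_check
  simp only [List.all_eq_true, List.mem_range, Bool.and_eq_true, beq_iff_eq] at h
  exact (h x hx).1.2

theorem inv_mul' {x : ℕ} (hx : x < 512) : mul (inv x) x = 0 := by
  have h := unit_check
  simp only [List.all_eq_true, List.mem_range, Bool.and_eq_true, beq_iff_eq] at h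
  exact (h x hx).2

theorem commB_iff {x y : ℕ} : commB x y = true ↔ mul x y = mul y x :=
  ⟨Nat.eq_of_beq_eq_true, fun h => by rw [commB, h]; exact Nat.beq_refl _⟩

/-- The elements commuting with all of `zs`. -/
def centL (zs : List ℕ) : List ℕ := (List.range 512).filter fun g => zs.all fun z => commB g z

theorem mem_centL {zs : List ℕ} {g : ℕ} : g ∈ centL zs ↔ g < 512 ∧ ∀ z ∈ zs, mul g z = mul z g := by
  simp [centL, commB_iff]

theorem nodup_centL (zs : List ℕ) : (centL zs).Nodup := List.nodup_range.filter _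

end CfsgLib.Spor.HSSylow
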