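import Cfsg.Agent.Lib.Spor.HSSylow.Classes
import Cfsg.Agent.S0111

/-!
# Extreme classes and transfer

Each class of involutions is carried to an extreme one, and an involution outside a maximal subgroup of the
Sylow subgroup is conjugate into it in a group without subgroups of index two.
-/

set_option autoImplicit false
set_option maxRecDepth 100000
set_option linter.unusedSectionVars false
set_option linter.style.haveILetI false

namespace CfsgLib.Spor.HSSylow

open Subgroup

/-- The order of the centralizer in the Sylow subgroup of a class of involutions. -/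
def sz (i : ℕ) : ℕ := [512, 256, 128, 64, 64, 32, 32, 32, 32].getD i 0

theorem sz_check : ((List.range 512).all fun n => Nat.ble 9 (cls n) ||
    Nat.beq (centL [n]).length (sz (cls n))) = true := by
  decide +kernel

theorem length_centL {n : ℕ} (hn : n < 512) (h : cls n < 9) : (centL [n]).length = sz (cls n) := by
  have hc := sz_check
  simp only [List.all_eq_true, List.mem_range, Bool.or_eq_true, Nat.ble_eq] at hc
  rcases hc n hn with h' | h'
  · omega
  · exact Nat.eq_of_beq_eq_true h'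

theorem length_rep {i : ℕ} (h : i < 9) : (centL [rep i]).length = sz i := by
  rw [length_centL (rep_lt i (by omega)).1 (by rw [(rep_lt i (by omega)).2]; exact h), (rep_lt i (by omega)).2]

theorem mem_centL_nil {n : ℕ} (hn : n < 512) : n ∈ centL [] := mem_centL.2 ⟨hn, fun _ h => absurd h (List.not_mem_nil)⟩

theorem rep_mem {i : ℕ} (h : i < 9) : rep i ∈ centL [] := mem_centL_nil (rep_lt i (by omega)).1

/-- Whether a code lies outside the maximal subgroup given by a mask. -/
def chi (m x : ℕ) : Bool :=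
  ((List.range 9).map fun i => Nat.beq ((x >>> i) &&& 1) 1 && Nat.beq ((m >>> i) &&& 1) 1).foldl xor false

namespace Frame

variable {G : Type*} [Group G] (F : Frame G)

theorem orderOf_two {n : ℕ} (hn : n < 512) (h : mul n n = 0) (h0 : n ≠ 0) : orderOf (F.f n) = 2 := by
  refine orderOf_eq_prime ?_ ?_
  · rw [pow_two, ← F.map_mul hn hn, h, F.f_zero]
  · exact fun e => h0 ((F.f_eq_one hn).1 e)

theorem invol_class {n : ℕ} (hn : n < 512) : (orderOf (F.f n) = 2) ↔ cls n < 9 := by
  have hc := involution_check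
  simp only [List.all_eq_true, List.mem_range, Bool.or_eq_true, Bool.and_eq_true, Nat.ble_eq, Nat.blt_eq,
    Bool.not_eq_eq_eq_not, Bool.not_true] at hc
  refine ⟨fun h => ?_, fun h => ?_⟩
  · have h1 : F.f n * F.f n = 1 := by rw [← pow_two, ← h, pow_orderOf_eq_one]
    rw [← F.map_mul hn hn, F.f_eq_one (mul_lt _ _)] at h1
    rcases hc.1 n hn with (h2 | h2) | h2
    · rw [Nat.eq_of_beq_eq_true h2, F.f_zero, orderOf_one] at h
      omega
    · rw [h1] at h2
      simp at h2
    · exact h2
  · rcases hc.2 n hn with h2 | ⟨h2, h3⟩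
    · omega
    · exact F.orderOf_two hn (Nat.eq_of_beq_eq_true h2) fun e => by rw [e] at h3; simp at h3

variable [Finite G]

theorem ext_of_conj {y r : ℕ} (hy : y < 512) (hr : r < 512) {g : G} (e : g * F.f r * g⁻¹ = F.f y)
    (hl : (centL [y]).length ≤ (centL [r]).length) (h : F.Ext [y]) : F.Ext [r] := by
  intro R hR hle
  refine le_trans ?_ hl
  refine le_trans (le_of_eq (Subgroup.card_map_of_injective (f := (MulAut.conj g).toMonoidHom) (K := R)
    (MulAut.conj g).injective).symm) (h _ (hR.map _) ?_)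
  rintro _ ⟨x, hx, rfl⟩
  have h1 := F.mem_C_singleton.1 (hle hx)
  refine F.mem_C_singleton.2 ?_
  show g * x * g⁻¹ * F.f y = F.f y * (g * x * g⁻¹)
  rw [← e, show g * x * g⁻¹ * (g * F.f r * g⁻¹) = g * (x * F.f r) * g⁻¹ by group, h1]
  group

/-- every class of involutions is carried to an extreme one -/
theorem exists_extreme_class {a : ℕ} (ha : a < 9) :
    ∃ i < 9, F.Link a i ∧ F.Ext [rep i] ∧ ∃ g, F.Emb g [rep a] [rep i] := by
  have hr := rep_lt a (by omega)
  obtain ⟨y, hy, g, -, hg, hext⟩ := F.exists_extreme (zs := []) (by simp) F.ext_nil (rep_mem ha)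
  have e : g * F.f (rep a) * g⁻¹ = F.f y := hg.pairs (rep a, y) (by simp)
  have hy5 := (mem_centL.1 hy).1
  have hord : orderOf (F.f y) = 2 := by
    rw [← e, ← MulAut.conj_apply, MulEquiv.orderOf_eq,
      F.invol_class hr.1, hr.2]
    exact ha
  have hcls := (F.invol_class hy5).1 hord
  obtain ⟨s, hs, es⟩ := exists_conj_rep hy5 (by omega)
  have hrj := rep_lt (cls y) (by omega)
  have hext' : F.Ext [rep (cls y)] := F.ext_of_conj hy5 hrj.1 (g := F.f s)
    (by rw [← F.f_conj hs hrj.1, es]) (by rw [length_centL hy5 hcls, length_rep hcls]) hext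
  obtain ⟨d, -, hd⟩ := F.conj_ext (zs := []) (by simp) (rep_mem ha) (rep_mem hcls) hext'
    (g := (F.f s)⁻¹ * g) (F.mem_C.2 fun _ h => absurd h (List.not_mem_nil)) (by
      rw [show (F.f s)⁻¹ * g * F.f (rep a) * ((F.f s)⁻¹ * g)⁻¹ = (F.f s)⁻¹ * (g * F.f (rep a) * g⁻¹) * F.f s by group,
        e, show F.f y = F.f s * F.f (rep (cls y)) * (F.f s)⁻¹ by rw [← F.f_conj hs hrj.1, es]]
      group)
  refine ⟨cls y, hcls, ?_, hext', d, hd⟩
  have := F.link_of_conj hr.1 hy5 (by rw [hr.2]; omega) (by omega) e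
  rwa [hr.2] at this

theorem emb_of_link {a i : ℕ} (ha : a < 9) (hi : i < 9) (h : F.Link a i) (he : F.Ext [rep i]) :
    ∃ g, F.Emb g [rep a] [rep i] := by
  obtain ⟨g, e⟩ := isConj_iff.1 h
  obtain ⟨d, -, hd⟩ := F.conj_ext (zs := []) (by simp) (rep_mem ha) (rep_mem hi) he
    (F.mem_C.2 fun _ h => absurd h (List.not_mem_nil)) e
  exact ⟨d, hd⟩

theorem sz_le {a i : ℕ} (ha : a < 9) (hi : i < 9) (h : F.Link a i) (he : F.Ext [rep i]) : sz a ≤ sz i := by
  obtain ⟨g, hg⟩ := F.emb_of_link ha hi h he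
  have := hg.le (fun z hz => by rw [List.mem_singleton.1 hz]; exact (rep_lt a (by omega)).1)
    (fun z hz => by rw [List.mem_singleton.1 hz]; exact (rep_lt i (by omega)).1)
  rwa [length_rep ha, length_rep hi] at this

theorem ext_z : F.Ext [rep 0] := fun R hR _ => by
  rw [length_rep (by norm_num)]
  exact le_trans (F.ext_nil R hR (fun g _ => F.mem_C.2 fun _ h => absurd h (List.not_mem_nil))) (by simp [centL, sz])

end Frame

theorem chi_checks :
    ([64, 80, 320].all fun m => ((List.range 64).all fun a => (List.range 64).all fun b =>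
        chi m (addA a b) == xor (chi m a) (chi m b)) &&
      ((List.range 8).all fun d => (List.range 64).all fun b => chi m (act d b) == chi m b) &&
      ((List.range 8).all fun d => (List.range 8).all fun e =>
        chi m (64 * dmul d e) == xor (chi m (64 * d)) (chi m (64 * e))) &&
      ((List.range 512).all fun x => chi m x == xor (chi m (x % 64)) (chi m (64 * (x / 64))))) = true := by
  decide +kernel

theorem chi_mul {m : ℕ} (hm : m ∈ [64, 80, 320]) {x y : ℕ} (hx : x < 512) (hy : y < 512) :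
    chi m (mul x y) = xor (chi m x) (chi m y) := by
  have h := chi_checks
  simp only [List.all_eq_true, List.mem_range, Bool.and_eq_true, beq_iff_eq] at h
  obtain ⟨⟨⟨h1, h2⟩, h3⟩, h4⟩ := h m hm
  rw [h4 _ (mul_lt x y), h4 x hx, h4 y hy, mul_mod, mul_div, h1 _ (Nat.mod_lt _ (by norm_num)) _ (act_lt _ _),
    h2 _ (by omega) _ (Nat.mod_lt _ (by norm_num)), h3 _ (by omega) _ (by omega)]
  generalize chi m (x % 64) = p
  generalize chi m (y % 64) = q
  generalize chi m (64 * (x / 64)) = r
  generalize chi m (64 * (y / 64)) = s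
  cases p <;> cases q <;> cases r <;> cases s <;> rfl

theorem chi_inv {m : ℕ} (hm : m ∈ [64, 80, 320]) {x : ℕ} (hx : x < 512) : chi m (inv x) = chi m x := by
  have h0 : ∀ k ∈ [64, 80, 320], chi k 0 = false := by decide
  have h := chi_mul hm hx (inv_lt x)
  rw [mul_inv' hx, h0 m hm] at h
  revert h
  cases chi m x <;> cases chi m (inv x) <;> simp

namespace Frame

variable {G : Type*} [Group G] (F : Frame G)

/-- The maximal subgroup of the Sylow subgroup given by a mask. -/
def maxSub (m : ℕ) (hm : m ∈ [64, 80, 320]) : Subgroup G where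
  carrier := {g | ∃ a < 512, chi m a = false ∧ F.f a = g}
  one_mem' := ⟨0, by norm_num, (by decide : ∀ k ∈ [64, 80, 320], chi k 0 = false) m hm, F.f_zero⟩
  mul_mem' := by
    rintro _ _ ⟨a, ha, ha', rfl⟩ ⟨b, hb, hb', rfl⟩
    exact ⟨mul a b, mul_lt _ _, by rw [chi_mul hm ha hb, ha', hb']; rfl, F.map_mul ha hb⟩
  inv_mem' := by
    rintro _ ⟨a, ha, ha', rfl⟩
    exact ⟨inv a, inv_lt a, by rw [chi_inv hm ha, ha'], F.f_inv ha⟩

theorem relIndex_maxSub {m : ℕ} (hm : m ∈ [64, 80, 320]) {u : ℕ} (hu : u < 512) (h : chi m u = true) :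
    (F.maxSub m hm).relIndex (F.T : Subgroup G) = 2 := by
  refine Subgroup.index_eq_two_iff.2 ⟨⟨F.f u, F.mem hu⟩, fun b => ?_⟩
  obtain ⟨b, hb⟩ := b
  obtain ⟨n, hn, rfl⟩ := F.surj b hb
  have key : ∀ k < 512, (F.f k ∈ F.maxSub m hm ↔ chi m k = false) := fun k hk =>
    ⟨fun ⟨a, ha, ha', e⟩ => F.inj ha hk e ▸ ha', fun e => ⟨k, hk, e, rfl⟩⟩
  simp only [mem_subgroupOf, Subgroup.coe_mul, ← F.map_mul hn hu, key _ (mul_lt _ _), key _ hn, chi_mul hm hn hu, h]
  cases chi m n <;> simp [Xor]

/-- transfer -/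
theorem transfer [Finite G] (hG : ∀ H : Subgroup G, H.index ≠ 2) {m : ℕ} (hm : m ∈ [64, 80, 320]) {a : ℕ}
    (ha : a < 9) (h : chi m (rep a) = true) : ∃ i < 9, chi m (rep i) = false ∧ F.Link a i := by
  have hr := rep_lt a (by omega)
  have hord : orderOf (F.f (rep a)) = 2 := (F.invol_class hr.1).2 (by rw [hr.2]; exact ha)
  have hle : F.maxSub m hm ≤ (F.T : Subgroup G) := by
    rintro _ ⟨k, hk, -, rfl⟩
    exact F.mem hk
  have hout : F.f (rep a) ∉ F.maxSub m hm := fun ⟨k, hk, hk', e⟩ => by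
    rw [F.inj hk hr.1 e, h] at hk'
    simp at hk'
  rcases Cfsg.Agent.S0111.result F.T (F.maxSub m hm) hle (F.relIndex_maxSub hm hr.1 h) (F.f (rep a)) hord
    (F.mem hr.1) hout with ⟨M, -, hM, -⟩ | ⟨g, n, hn, hn', e⟩
  · exact absurd hM (hG M)
  have hc : cls n < 9 := (F.invol_class hn).1 (by
    rw [e, ← MulAut.conj_apply, MulEquiv.orderOf_eq, hord])
  refine ⟨cls n, hc, ?_, ?_⟩
  · obtain ⟨s, hs, es⟩ := exists_conj_rep hn (by omega)
    have hrn := (rep_lt (cls n) (by omega)).1
    rw [← es, conj, chi_mul hm (mul_lt _ _) (inv_lt _), chi_mul hm hs hrn, chi_inv hm hs] at hn'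
    revert hn'
    cases chi m s <;> cases chi m (rep (cls n)) <;> simp
  · have := F.link_of_conj hr.1 hn (by rw [hr.2]; omega) (by omega) e.symm
    rwa [hr.2] at this

end Frame

end CfsgLib.Spor.HSSylow
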