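import Cfsg.Agent.Lib.Spor.HSSylow.CoreControl
import Cfsg.Agent.Lib.Spor.HSSylow.Extreme
import Cfsg.Agent.Lib.Spor.HSSylow.Cert.K20

/-!
# The core of the centraliser of the central involution is trivial

The normaliser `M` of the signalizer subgroup contains the centraliser of each of its involutions. An element
of the second class and a conjugate of the central involution are not conjugate, so through the dihedral group
they generate every conjugate of the central involution lies in `M`. Hence `M` is everything.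
-/

set_option autoImplicit false
set_option linter.unusedSectionVars false
set_option linter.style.haveILetI false
set_option maxRecDepth 100000

namespace CfsgLib.Spor.HSSylow

open Subgroup
open CfsgLib.Invol
open CfsgLib.ProdFusion (OC OC_le odd_card_OC)

theorem core_reps : rep 4 = 132 ∧ rep 6 = 256 ∧ rep 7 = 337 ∧ cls 8 = 1 ∧ cls 132 = 4 := by decide +kernel

namespace Frame

variable {G : Type*} [Group G] [Finite G] {F : Frame G}

/-- the product of two involutions of even order has a central involution -/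
theorem exists_mid {x y : G} (hx : orderOf x = 2) (hy : orderOf y = 2) (h : ¬ Odd (orderOf (x * y))) :
    ∃ j : ℕ, orderOf (x * y) = 2 * j ∧ orderOf ((x * y) ^ j) = 2 ∧ (x * y) ^ j * x = x * (x * y) ^ j ∧
      (x * y) ^ j * y = y * (x * y) ^ j := by
  have he := Nat.not_odd_iff_even.1 h
  refine ⟨orderOf (x * y) / 2, (Nat.two_mul_div_two_of_even he).symm, orderOf_pow_half he,
    commute_pow_half (invol_conj_mul hx hy) he, commute_pow_half (invol_conj_mul' hx hy) he⟩

theorem Fused.not_conj_z_of_cls (hF : F.Fused) {n : ℕ} (hn : n < 512) (h : cls n ∈ [4, 6, 7]) :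
    ¬ IsConj F.z (F.f n) := fun hc => by
  have := hF.cls_of_conj_z hn hc
  simp only [kClasses, List.mem_cons, List.not_mem_nil, or_false] at this h
  omega

theorem Fused.not_conj_z_u (hF : F.Fused) : ¬ IsConj F.z (F.f 132) :=
  hF.not_conj_z_of_cls (by norm_num) (by rw [core_reps.2.2.2.2]; simp)

theorem code_invol {n : ℕ} (hn : n < 512) (h : orderOf (F.f n) = 2) : mul n n = 0 ∧ n ≠ 0 := by
  obtain ⟨h1, h2⟩ := invol_iff.1 h
  exact ⟨(F.f_eq_one (mul_lt _ _)).1 ((F.map_mul hn hn).trans h1), fun e => h2 (by rw [e, F.f_zero])⟩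

theorem u_ord : orderOf (F.f 132) = 2 :=
  (F.invol_class (by norm_num)).2 (by rw [core_reps.2.2.2.2]; norm_num)

theorem Fused.ext_u (hF : F.Fused) : F.Ext [132] := by
  obtain ⟨y, hy, g, -, hg, hext⟩ :=
    F.exists_extreme (zs := []) (by simp) F.ext_nil (mem_centL_nil (n := 132) (by norm_num))
  have e : g * F.f 132 * g⁻¹ = F.f y := hg.pairs (132, y) (by simp)
  have hy5 := (mem_centL.1 hy).1
  obtain ⟨h2, h0⟩ := code_invol hy5 (e ▸ invol_conj u_ord g)
  have hl : cls y ∈ [4, 6, 7] := (cls_cases hy5 h2 h0).resolve_left fun hk =>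
    hF.not_conj_z_u ((hF.conj_z_of_cls hy5 hk).trans (isConj_iff.2 ⟨g, e⟩).symm)
  have h := L_small
  simp only [List.all_eq_true, List.mem_range, Bool.or_eq_true, Bool.not_eq_true', Nat.ble_eq] at h
  have hlen : (centL [y]).length ≤ 64 := (h y hy5).resolve_left fun h' => by
    rw [List.contains_iff_mem.2 hl] at h'
    exact Bool.false_ne_true h'.symm
  exact F.ext_of_conj hy5 (by norm_num) e (by rw [u_facts.1]; exact hlen) hext

theorem Fused.ext_zu (hF : F.Fused) : F.Ext [2, 132] := fun R hR hle => by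
  rw [u_facts.2.1]
  exact hF.ext_u R hR fun r hr => (F.mem_C_cons.1 (hle hr)).2

/-- **the centraliser of the second class representative lies in `M`** -/
theorem cu_le_M (hF : F.Fused) (hC : F.Central) : centralizer ({F.f 132} : Set G) ≤ F.M := by
  haveI : Fact (Nat.Prime 2) := ⟨Nat.prime_two⟩
  intro h hh
  have hCu : centralizer ({F.f 132} : Set G) = F.C [132] := (F.C_singleton 132).symm
  rw [hCu] at hh
  have hz132 : F.z ∈ F.C [132] := (F.f_mem_C (by simp) (by norm_num)).2 (List.contains_iff_mem.1 u_facts.2.2.1)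
  have h8132 : F.f 8 ∈ F.C [132] :=
    (F.f_mem_C (by simp) (by norm_num)).2 (List.contains_iff_mem.1 u_facts.2.2.2.1)
  have h8z : IsConj F.z (F.f 8) := hF.conj_z_of_cls (by norm_num) (by rw [core_reps.2.2.2.1]; simp [kClasses])
  set y := h * F.f 8 * h⁻¹ with hy
  have hyC : y ∈ F.C [132] := mul_mem (mul_mem hh h8132) (inv_mem hh)
  have hyk : IsConj F.z y := h8z.trans (isConj_iff.2 ⟨h, rfl⟩)
  suffices hyM : y ∈ F.M from mem_M_of_conj hF hC (T_le_M (F.mem (by norm_num))) h8z hyM
  obtain ⟨g, hg⟩ := isConj_iff.1 hyk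
  have hyo : orderOf y = 2 := hg ▸ invol_conj F.z_ord g
  -- it is not conjugate to `z` in the centraliser
  have hodd : ¬ Odd (orderOf (F.z * y)) := fun hodd => by
    obtain ⟨d, hd, hde⟩ := exists_conj_eq_of_odd F.z_ord hyo hodd
    have hdC : d ∈ F.C [132] := zpowers_le.2 (mul_mem hz132 hyC) hd
    have e : d⁻¹ * h * F.f 8 * (d⁻¹ * h)⁻¹ = F.f 2 := by
      rw [show d⁻¹ * h * F.f 8 * (d⁻¹ * h)⁻¹ = d⁻¹ * (h * F.f 8 * h⁻¹) * d by group, ← hy, ← hde, z]
      group
    obtain ⟨c, -, hc⟩ := F.conj_ext (zs := [132]) (by simp) (List.contains_iff_mem.1 u_facts.2.2.2.1)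
      (List.contains_iff_mem.1 u_facts.2.2.1) hF.ext_zu (mul_mem (inv_mem hdC) hh) e
    exact Cert.false_of cert_L_u0_check rfl hc
  obtain ⟨j, hj, hwo, hwz, hwy⟩ := exists_mid F.z_ord hyo hodd
  set w := (F.z * y) ^ j with hw
  have hwC : w ∈ F.C [132] := pow_mem (mul_mem hz132 hyC) j
  have hwM : w ∈ F.M := cz_le_M hF hC (mem_centralizer_singleton_iff.2 hwz)
  by_cases hwk : IsConj F.z w
  · exact cent_le_M_k hF hC hwM hwk (mem_centralizer_singleton_iff.2 hwy.symm)
  exfalso
  obtain ⟨c, hc, hcT⟩ := hF.ext_zu.conj_into (by simp) (R := zpowers w)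
    (IsPGroup.of_card (n := 1) (by rw [Nat.card_zpowers, hwo, pow_one]))
    (zpowers_le.2 (F.mem_C_cons.2 ⟨hwz, hwC⟩))
  obtain ⟨hcz, hc132⟩ := F.mem_C_cons.1 hc
  obtain ⟨n, hn, hne⟩ := F.surj _ (hcT w (mem_zpowers w))
  have hnC : n ∈ centL [132] := (F.f_mem_C (by simp) hn).1 (by
    rw [hne]; exact mul_mem (mul_mem hc132 hwC) (inv_mem hc132))
  obtain ⟨hn2, hn0⟩ := code_invol hn (hne ▸ invol_conj hwo c)
  have hnl : cls n ∈ [4, 6, 7] := (cls_cases hn hn2 hn0).resolve_left fun hk =>
    hwk ((hF.conj_z_of_cls hn hk).trans (isConj_iff.2 ⟨c, hne.symm⟩).symm)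
  have hshift := u_facts.2.2.2.2.2
  simp only [List.all_eq_true, Bool.or_eq_true, Bool.not_eq_true'] at hshift
  have hml : cls (mul 2 n) ∈ [4, 6, 7] := List.contains_iff_mem.1 ((hshift n hnC).resolve_left fun h' => by
    rw [List.contains_iff_mem.2 hnl] at h'
    exact Bool.false_ne_true h'.symm)
  have hzwk : ¬ IsConj F.z (F.z * w) := fun hk => hF.not_conj_z_of_cls (mul_lt _ _) hml (hk.trans (isConj_iff.2 ⟨c, by
    rw [F.map_mul (by norm_num) hn, hne, show c * (F.z * w) * c⁻¹ = (c * F.z) * (w * c⁻¹) by group,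
      show c * F.z = F.z * c from hcz, z]
    group⟩))
  rcases Nat.even_or_odd' j with ⟨i, rfl | rfl⟩
  · -- a root of `w`
    set v := (F.z * y) ^ i with hv
    have hvC : v ∈ F.C [132] := pow_mem (mul_mem hz132 hyC) i
    have hvw : v * v = w := by rw [hv, hw, ← pow_add, two_mul]
    have hp : IsPGroup 2 (zpowers v) := by
      obtain ⟨k, -, hk⟩ := (Nat.dvd_prime_pow Nat.prime_two).1 (orderOf_dvd_of_pow_eq_one (x := v) (n := 2 ^ 2) (by
        rw [show v ^ 2 ^ 2 = (v * v) * (v * v) by simp [pow_succ, mul_assoc], hvw, invol_mul_self hwo]))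
      exact IsPGroup.of_card (n := k) (by rw [Nat.card_zpowers, hk])
    obtain ⟨d, hd, hdT⟩ := hF.ext_u.conj_into (by simp) hp (zpowers_le.2 hvC)
    obtain ⟨s, hs, hse⟩ := F.surj _ (hdT v (mem_zpowers v))
    have hsC : s ∈ centL [132] := (F.f_mem_C (by simp) hs).1 (by
      rw [hse]; exact mul_mem (mul_mem hd hvC) (inv_mem hd))
    have hss : F.f (mul s s) = d * w * d⁻¹ := by rw [F.map_mul hs hs, hse, ← hvw]; group
    obtain ⟨hs4, hs0⟩ := code_invol (mul_lt _ _) (hss ▸ invol_conj hwo d)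
    have hroot := u_facts.2.2.2.2.1
    simp only [List.all_eq_true, Bool.or_eq_true, Bool.not_eq_true'] at hroot
    rcases hroot s hsC with (h' | h') | h'
    · simp [hs4] at h'
    · exact hs0 (Nat.eq_of_beq_eq_true h')
    · refine hwk ((isConj_iff.2 ⟨d, hss.symm⟩).trans ?_).symm
      rw [Nat.eq_of_beq_eq_true h', z]
  · -- `z w` is conjugate to `y`
    have hzwo : orderOf (F.z * w) = 2 := invol_iff.2 ⟨by
      rw [show F.z * w * (F.z * w) = F.z * (w * F.z) * w by group, hwz,
        show F.z * (F.z * w) * w = (F.z * F.z) * (w * w) by group, F.z_sq, invol_mul_self hwo, one_mul],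
      fun e => hwk (by rw [← mul_eq_one_iff_inv_eq.1 e, invol_inv F.z_ord])⟩
    have e : y * (F.z * w) = (F.z * y) ^ (2 * i) := by
      rw [show (F.z * y) ^ (2 * i) = (F.z * y)⁻¹ * w by rw [hw, pow_succ', inv_mul_cancel_left],
        mul_inv_rev, invol_inv hyo, invol_inv F.z_ord, mul_assoc y]
    refine hzwk (hyk.trans (isConj_of_odd hyo hzwo (Odd.of_dvd_nat ⟨i, rfl⟩ (orderOf_dvd_of_pow_eq_one ?_))))
    rw [e, ← pow_mul, show 2 * i * (2 * i + 1) = 2 * (2 * i + 1) * i by ring, ← hj, pow_mul, pow_orderOf_eq_one,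
      one_pow]

/-- the second class is fused in `M` -/
theorem toU (hF : F.Fused) (hC : F.Central) {n : ℕ} (hn : n < 512) (h : cls n ∈ [4, 6, 7]) :
    ∃ m ∈ F.M, m * F.f n * m⁻¹ = F.f 132 := by
  simp only [List.mem_cons, List.not_mem_nil, or_false] at h
  have hr : ∃ m ∈ F.M, m * F.f (rep (cls n)) * m⁻¹ = F.f 132 := by
    have hk : ∀ i ∈ kClasses, i < 16 ∧ ToZ F (F.f (rep i)) := fun i hi => ⟨kl_disjoint hi, toZ_k hF hC hi⟩
    have hv : ∀ i ∈ vClasses, i < 16 ∧ ToZ F (F.f (rep i)) := fun i hi => hk i (by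
      simp only [vClasses, kClasses, List.mem_cons, List.not_mem_nil, or_false] at hi ⊢
      omega)
    rcases h with h | h | h <;> rw [h]
    · exact ⟨1, one_mem _, by rw [core_reps.1]; group⟩
    · rw [core_reps.2.1]
      exact move hF hC cert_q_u_M_check cert_one.2.2.2.2 cert_targets.2.2.2.2 hk rfl rfl (by norm_num) (by norm_num)
        hF.ext_u (by
          have := hF.uq
          rw [Link, core_reps.1, core_reps.2.1] at this
          exact this.symm)
    · rw [core_reps.2.2.1]
      exact move hF hC cert_v_u_M_check cert_one.2.2.2.1 cert_targets.2.2.2.1 hv rfl rfl (by norm_num) (by norm_num)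
        hF.ext_u (by
          have := hF.uv
          rw [Link, core_reps.1, core_reps.2.2.1] at this
          exact this.symm)
  obtain ⟨g, hg, e⟩ := exists_conj_rep hn (show cls n < 16 by omega)
  obtain ⟨m, hm, hme⟩ := hr
  refine ⟨m * (F.f g)⁻¹, mul_mem hm (inv_mem (T_le_M (F.mem hg))), ?_⟩
  have e' : F.f n = F.f g * F.f (rep (cls n)) * (F.f g)⁻¹ := by
    conv_lhs => rw [← e]
    exact F.f_conj hg (rep_lt _ (by omega)).1
  rw [e', ← hme]; group

/-- **`M` contains the centralisers of its involutions** -/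
theorem cent_le_M (hF : F.Fused) (hC : F.Central) {t : G} (ht : t ∈ F.M) (h2 : orderOf t = 2) :
    centralizer ({t} : Set G) ≤ F.M := by
  intro g hg
  obtain ⟨a, ha, haT⟩ := exists_into_T ht h2
  obtain ⟨n, hn, hne⟩ := F.surj _ haT
  obtain ⟨hn2, hn0⟩ := code_invol hn (hne ▸ invol_conj h2 a)
  rcases cls_cases hn hn2 hn0 with hk | hl
  · exact cent_le_M_k hF hC ht ((hF.conj_z_of_cls hn hk).trans (isConj_iff.2 ⟨a, hne.symm⟩).symm) hg
  · obtain ⟨m, hm, hme⟩ := toU hF hC hn hl
    have hu : (m * a) * g * (m * a)⁻¹ ∈ centralizer ({F.f 132} : Set G) := by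
      refine mem_centralizer_singleton_iff.2 ?_
      rw [← hme, hne, show m * a * g * (m * a)⁻¹ * (m * (a * t * a⁻¹) * m⁻¹) = m * a * (g * t) * (m * a)⁻¹ by group,
        mem_centralizer_singleton_iff.1 hg]
      group
    have := mul_mem (mul_mem (inv_mem (mul_mem hm ha)) (cu_le_M hF hC hu)) (mul_mem hm ha)
    rwa [show (m * a)⁻¹ * (m * a * g * (m * a)⁻¹) * (m * a) = g by group] at this

theorem M_eq_top_of (hF : F.Fused) (hC : F.Central) : F.M = ⊤ := by
  refine top_le_iff.1 fun g _ => ?_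
  have h1 : g * F.z * g⁻¹ ∈ F.M := by
    set y := g * F.z * g⁻¹ with hy
    have hyo : orderOf y = 2 := invol_conj F.z_ord g
    obtain ⟨j, -, hwo, hwu, hwy⟩ := exists_mid (u_ord (F := F)) hyo fun hodd =>
      hF.not_conj_z_u ((isConj_iff.2 ⟨g, hy.symm⟩).trans (isConj_of_odd u_ord hyo hodd).symm)
    exact cent_le_M hF hC (cu_le_M hF hC (mem_centralizer_singleton_iff.2 hwu)) hwo
      (mem_centralizer_singleton_iff.2 hwy.symm)
  exact mem_M_of_conj hF hC (T_le_M (F.mem (by norm_num))) (IsConj.refl _) h1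

end Frame

/-- **the core of the centraliser of the central involution is trivial** -/
theorem core_trivial {G : Type*} [Group G] [Finite G] [IsSimpleGroup G] (F : Frame G) (hF : F.Fused)
    (hC : F.Central) : OC (centralizer ({F.z} : Set G)) = ⊥ := by
  have hn : F.W.Normal := normalizer_eq_top_iff.1 (Frame.M_eq_top_of hF hC)
  rcases hn.eq_bot_or_eq_top with hb | ht
  · exact le_bot_iff.1 ((Frame.θ_le_W_V Frame.z_mem_V F.z_ne).trans (le_of_eq hb))
  · exfalso
    have ho := Frame.odd_W hF hC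
    rw [ht, Subgroup.card_top] at ho
    exact Nat.not_even_iff_odd.2 ho (even_iff_two_dvd.2 ((by norm_num : (2 : ℕ) ∣ 512).trans
      (F.card_T ▸ Subgroup.card_subgroup_dvd_card (F.T : Subgroup G))))

end CfsgLib.Spor.HSSylow
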