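import Cfsg.Agent.Lib.Spor.HSSylow.CoreFacts

/-!
# Balance for commuting conjugates of the central involution
-/

set_option autoImplicit false
set_option linter.unusedSectionVars false
set_option linter.style.haveILetI false

namespace CfsgLib.Spor.HSSylow

open Subgroup
open CfsgLib.Invol
open CfsgLib.ProdFusion (OC OC_le odd_card_OC le_normalizer_OC_self odd_orderOf_of_mem)

namespace Frame

variable {G : Type*} [Group G] [Finite G] {F : Frame G}

theorem eq_one_of_mem_R_odd {g : G} (hg : g ∈ F.R) (ho : Odd (orderOf g)) : g = 1 := by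
  haveI : Fact (Nat.Prime 2) := ⟨Nat.prime_two⟩
  obtain ⟨k, hk⟩ := orderOf_pow_two_of_mem (show g ∈ (F.T : Subgroup G) from F.sub_le _ _ hg)
  exact eq_one_of_odd_of_pow_two ho (by rw [← hk]; exact pow_orderOf_eq_one _)

/-- **balance at a representative** -/
theorem balance_rep (hC : F.Central) {i : ℕ} (hi : i ∈ kClasses) :
    F.θ (F.f (rep i)) ⊓ centralizer ({F.z} : Set G) ≤ F.θ F.z := by
  intro x hx
  set C := centralizer ({F.z} : Set G) with hCd
  set n := rep i with hn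
  have hn5 : n < 512 := (rep_lt i (kl_disjoint hi)).1
  set D := F.θ (F.f n) ⊓ C with hD
  have hDn : D ≤ normalizer ((F.θ F.z : Subgroup G) : Set G) := fun d hd => le_normalizer_OC_self _ hd.2
  have hK0 : Odd (Nat.card ↥(D ⊔ F.θ F.z)) :=
    EightTypeThree.odd_sup hDn (CfsgLib.ProdFusion.odd_of_le inf_le_left (odd_card_OC _)) (odd_card_OC _)
  obtain ⟨o, m, ho, hmz, hmR, hxm⟩ := hC.factor x (mem_centralizer_singleton_iff.1 hx.2)
  have hmC : m ∈ C := mem_centralizer_singleton_iff.2 hmz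
  have hθn : ∀ c ∈ C, ∀ w ∈ F.θ F.z, c * w * c⁻¹ ∈ F.θ F.z := fun c hc w hw =>
    (mem_normalizer_iff.1 (le_normalizer_OC_self _ hc) w).1 hw
  have hRC : ∀ {r : G}, r ∈ F.R → r ∈ C := fun hr => F.T_le_Cz (F.sub_le _ _ hr)
  have hconjR : ∀ (r : G), r ∈ F.R → m * r * m⁻¹ ∈ F.R := fun r hr => (mem_normalizer_iff.1 hmR r).1 hr
  -- `m` centralises the part of `R` centralising the involution
  have hfix0 : ∀ r ∈ F.R, r * F.f n = F.f n * r → m * r * m⁻¹ = r := by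
    intro r hr hrn
    have hρ : m * r * m⁻¹ * r⁻¹ ∈ F.R := mul_mem (hconjR r hr) (inv_mem hr)
    have h1 : x * r * x⁻¹ * r⁻¹ ∈ D := by
      have hrx : r * x⁻¹ * r⁻¹ ∈ D := mem_inf.2 ⟨(mem_normalizer_iff.1 (le_normalizer_OC_self _
        (mem_centralizer_singleton_iff.2 hrn)) _).1 (inv_mem hx.1),
        mul_mem (mul_mem (hRC hr) (inv_mem (show x ∈ C from hx.2))) (inv_mem (hRC hr))⟩
      rw [show x * r * x⁻¹ * r⁻¹ = x * (r * x⁻¹ * r⁻¹) by group]
      exact mul_mem hx hrx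
    have h2 : r * o * r⁻¹ ∈ F.θ F.z := hθn r (hRC hr) o ho
    have e : m * r * m⁻¹ * r⁻¹ = o⁻¹ * (x * r * x⁻¹ * r⁻¹) * (r * o * r⁻¹) := by rw [hxm]; group
    have h3 : m * r * m⁻¹ * r⁻¹ ∈ D ⊔ F.θ F.z := by
      rw [e]; exact mul_mem (mul_mem (mem_sup_right (inv_mem ho)) (mem_sup_left h1)) (mem_sup_right h2)
    exact mul_inv_eq_one.1 (eq_one_of_mem_R_odd hρ (odd_orderOf_of_mem hK0 h3))
  -- an odd power of `m` centralises `R`
  set l := orderOf x with hl
  have hlodd : Odd l := odd_orderOf_of_mem (odd_card_OC _) hx.1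
  have hpow : ∀ k : ℕ, x ^ k * (m ^ k)⁻¹ ∈ F.θ F.z := by
    intro k
    induction k with
    | zero => simp
    | succ k ih =>
      have e : x ^ (k + 1) * (m ^ (k + 1))⁻¹ = o * (m * (x ^ k * (m ^ k)⁻¹) * m⁻¹) := by
        rw [pow_succ', pow_succ', hxm]; group
      rw [e]; exact mul_mem ho (hθn m hmC _ ih)
  have hml : m ^ l ∈ F.θ F.z := by
    have := hpow l
    rw [hl, pow_orderOf_eq_one, one_mul] at this
    simpa using inv_mem this
  have hlcent : ∀ r ∈ F.R, m ^ l * r * (m ^ l)⁻¹ = r := by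
    intro r hr
    have h1 : m ^ l * r * (m ^ l)⁻¹ * r⁻¹ ∈ F.θ F.z := by
      rw [show m ^ l * r * (m ^ l)⁻¹ * r⁻¹ = m ^ l * (r * (m ^ l)⁻¹ * r⁻¹) by group]
      exact mul_mem hml (hθn r (hRC hr) _ (inv_mem hml))
    have h2 : m ^ l * r * (m ^ l)⁻¹ * r⁻¹ ∈ F.R :=
      mul_mem ((mem_normalizer_iff.1 (pow_mem hmR l) r).1 hr) (inv_mem hr)
    exact mul_inv_eq_one.1 (eq_one_of_mem_R_odd h2 (odd_orderOf_of_mem (odd_card_OC _) h1))
  have hR := R_facts.1
  simp only [List.all_eq_true, Bool.and_eq_true, Nat.blt_eq, Bool.or_eq_true, Bool.not_eq_true'] at hR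
  have h1R : (1 : ℕ) ∈ listR := List.contains_iff_mem.1 R_facts.2.1
  -- `m` centralises the centre of `R`
  have hc : m * F.c * m⁻¹ = F.c := by
    obtain ⟨a, ha, ha5, hae⟩ := F.mem_R_code (hconjR _ F.c_mem_R)
    have hcc : F.c * F.c = F.z := by rw [c, z, ← F.map_mul (by norm_num) (by norm_num), R_facts.2.2.2.2]
    have hcomm : ∀ s ∈ F.R, F.c * s = s * F.c := fun s hs => by
      obtain ⟨b, hb, hb5, rfl⟩ := F.mem_R_code hs
      exact ((F.f_comm hb5 (by norm_num)).2 (commB_iff.1 (hR b hb).1.2)).symm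
    have h13 : a = 1 ∨ a = 3 := by
      rcases (hR a ha).2 with (h | h) | h
      · exfalso
        refine Bool.false_ne_true (h.symm.trans ?_)
        simp only [Bool.and_eq_true, List.all_eq_true]
        refine ⟨fun b hb => commB_iff.2 ((F.f_comm ha5 (hR b hb).1.1).1 ?_), ?_⟩
        · rw [hae]
          have hb' : m⁻¹ * F.f b * m⁻¹⁻¹ ∈ F.R :=
            (mem_normalizer_iff.1 (inv_mem hmR) _).1 ⟨b, hb, rfl⟩
          have := hcomm _ hb'
          calc m * F.c * m⁻¹ * F.f b = m * (F.c * (m⁻¹ * F.f b * m⁻¹⁻¹)) * m⁻¹ := by group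
            _ = m * ((m⁻¹ * F.f b * m⁻¹⁻¹) * F.c) * m⁻¹ := by rw [this]
            _ = F.f b * (m * F.c * m⁻¹) := by group
        · rw [Nat.beq_eq]
          refine F.inj (mul_lt _ _) (by norm_num) ?_
          rw [F.map_mul ha5 ha5, hae, show m * F.c * m⁻¹ * (m * F.c * m⁻¹) = m * (F.c * F.c) * m⁻¹ by group,
            hcc, hmz, mul_inv_cancel_right]
          rfl
      · exact Or.inl (Nat.eq_of_beq_eq_true h)
      · exact Or.inr (Nat.eq_of_beq_eq_true h)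
    rcases h13 with rfl | rfl
    · exact hae.symm
    exfalso
    have h3 : F.f 3 = F.c⁻¹ := by
      rw [c, ← F.f_inv (by norm_num), show inv 1 = 3 by decide +kernel]
    rw [h3] at hae
    have h2 : ∀ j : ℕ, m ^ (2 * j) * F.c * (m ^ (2 * j))⁻¹ = F.c := by
      intro j
      induction j with
      | zero => simp
      | succ j ih =>
        rw [show m ^ (2 * (j + 1)) * F.c * (m ^ (2 * (j + 1)))⁻¹ =
          m * (m * (m ^ (2 * j) * F.c * (m ^ (2 * j))⁻¹) * m⁻¹) * m⁻¹ by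
            rw [show 2 * (j + 1) = 2 * j + 1 + 1 by ring, pow_succ', pow_succ']; group,
          ih, ← hae, show m * F.c⁻¹ * m⁻¹ = (m * F.c * m⁻¹)⁻¹ by group, ← hae, inv_inv]
    obtain ⟨j, hj⟩ := hlodd
    have h4 := hlcent _ F.c_mem_R
    rw [hj, show m ^ (2 * j + 1) * F.c * (m ^ (2 * j + 1))⁻¹ =
      m * (m ^ (2 * j) * F.c * (m ^ (2 * j))⁻¹) * m⁻¹ by rw [pow_succ']; group, h2, ← hae, ← h3] at h4
    exact absurd (F.inj (by norm_num) (by norm_num) h4) (by norm_num)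
  -- so it centralises `R`
  have hb := bal_check
  simp only [List.all_eq_true] at hb
  have hb' := hb i hi
  simp only [balB, Bool.and_eq_true, List.all_eq_true, Bool.or_eq_true, Bool.not_eq_true'] at hb'
  have hF' : ∀ q ∈ balF n, m * F.f q * m⁻¹ = F.f q := by
    intro q hq
    simp only [balF, List.mem_flatMap, List.mem_map, List.mem_filter] at hq
    obtain ⟨p, ⟨hp, hpn⟩, k, hk, rfl⟩ := hq
    have hp5 := (hR p hp).1.1
    have hk4 : k = 0 ∨ k = 1 ∨ k = 2 ∨ k = 3 := by simpa [listCy] using hk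
    have hk5 : k < 512 := by omega
    rw [F.map_mul hp5 hk5]
    have e1 := hfix0 _ ⟨p, hp, rfl⟩ ((F.f_comm hp5 hn5).2 (commB_iff.1 hpn))
    have e2 : m * F.f k * m⁻¹ = F.f k := by
      have e : F.f k = 1 ∨ F.f k = F.c ∨ F.f k = F.c * F.c ∨ F.f k = F.c * F.c * F.c := by
        rcases hk4 with rfl | rfl | rfl | rfl
        · exact Or.inl F.f_zero
        · exact Or.inr (Or.inl rfl)
        · refine Or.inr (Or.inr (Or.inl ?_))
          rw [c, ← F.map_mul (by norm_num) (by norm_num), R_facts.2.2.2.2]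
        · refine Or.inr (Or.inr (Or.inr ?_))
          rw [c, ← F.map_mul (by norm_num) (by norm_num), ← F.map_mul (mul_lt _ _) (by norm_num),
            show mul (mul 1 1) 1 = 3 by decide +kernel]
      rcases e with e | e | e | e <;> rw [e]
      · group
      · exact hc
      · rw [show m * (F.c * F.c) * m⁻¹ = (m * F.c * m⁻¹) * (m * F.c * m⁻¹) by group, hc]
      · rw [show m * (F.c * F.c * F.c) * m⁻¹ = (m * F.c * m⁻¹) * (m * F.c * m⁻¹) * (m * F.c * m⁻¹) by group, hc]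
    rw [show m * (F.f p * F.f k) * m⁻¹ = (m * F.f p * m⁻¹) * (m * F.f k * m⁻¹) by group, e1, e2]
  have hQ : ∀ q ∈ balQ n, q < 512 ∧ F.f q ∈ F.R ∧ m * F.f q * m⁻¹ = F.f q := by
    intro q hq
    rcases List.mem_cons.1 hq with rfl | hq
    · exact ⟨by norm_num, F.c_mem_R, hc⟩
    · obtain ⟨hq1, hqn⟩ := List.mem_filter.1 hq
      exact ⟨(hR q hq1).1.1, ⟨q, hq1, rfl⟩,
        hfix0 _ ⟨q, hq1, rfl⟩ ((F.f_comm (hR q hq1).1.1 hn5).2 (commB_iff.1 hqn))⟩
  have hcent : ∀ r ∈ F.R, m * r * m⁻¹ = r := by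
    intro r hr
    obtain ⟨a, ha, ha5, rfl⟩ := F.mem_R_code hr
    set u := (F.f a)⁻¹ * (m * F.f a * m⁻¹) with hu
    have huR : u ∈ F.R := mul_mem (inv_mem hr) (hconjR _ hr)
    obtain ⟨b, hb1, hb5, hbu⟩ := F.mem_R_code huR
    have hbF : b ∈ balF n := by
      refine List.contains_iff_mem.1 ((hb'.1 b hb1).resolve_left fun h => Bool.false_ne_true (h.symm.trans ?_))
      simp only [List.all_eq_true]
      intro q hq
      obtain ⟨hq5, -, hqm⟩ := hQ q hq
      refine commB_iff.2 ((F.f_comm hb5 hq5).1 ?_)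
      have e := hF' _ (List.contains_iff_mem.1 (hb'.2 a ha q hq))
      rw [F.f_conj ha5 hq5] at e
      have e2 : (m * F.f a * m⁻¹) * F.f q * (m * F.f a * m⁻¹)⁻¹ = F.f a * F.f q * (F.f a)⁻¹ := by
        conv_rhs => rw [← e]
        conv_lhs => rw [← hqm]
        group
      rw [hbu, hu, ← mul_inv_eq_iff_eq_mul]
      calc (F.f a)⁻¹ * (m * F.f a * m⁻¹) * F.f q * ((F.f a)⁻¹ * (m * F.f a * m⁻¹))⁻¹
          = (F.f a)⁻¹ * ((m * F.f a * m⁻¹) * F.f q * (m * F.f a * m⁻¹)⁻¹) * F.f a := by group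
        _ = F.f q := by rw [e2]; group
    have hum : m * u * m⁻¹ = u := by rw [← hbu]; exact hF' b hbF
    have hk : ∀ k : ℕ, m ^ k * F.f a * (m ^ k)⁻¹ = F.f a * u ^ k := by
      intro k
      induction k with
      | zero => simp
      | succ k ih =>
        rw [show m ^ (k + 1) * F.f a * (m ^ (k + 1))⁻¹ = m * (m ^ k * F.f a * (m ^ k)⁻¹) * m⁻¹ by
          rw [pow_succ']; group, ih,
          show m * (F.f a * u ^ k) * m⁻¹ = (m * F.f a * m⁻¹) * (m * u * m⁻¹) ^ k by rw [conj_pow]; group,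
          hum, show m * F.f a * m⁻¹ = F.f a * u by rw [hu]; group, mul_assoc, ← pow_succ']
    have hul : u ^ l = 1 := by
      have := (hk l).symm.trans (hlcent _ hr)
      exact mul_eq_left.1 this
    have hu1 : u = 1 := eq_one_of_mem_R_odd huR (Odd.of_dvd_nat hlodd (orderOf_dvd_of_pow_eq_one hul))
    rw [hu, inv_mul_eq_one] at hu1
    exact hu1.symm
  obtain ⟨o', r', ho', hr', hxr⟩ := hC.selfc x (mem_centralizer_singleton_iff.1 hx.2) fun r hr => by
    have e : x * r * x⁻¹ * r⁻¹ = o * (r * o⁻¹ * r⁻¹) := by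
      rw [hxm]
      calc o * m * r * (o * m)⁻¹ * r⁻¹ = o * (m * r * m⁻¹) * o⁻¹ * r⁻¹ := by group
        _ = o * r * o⁻¹ * r⁻¹ := by rw [hcent r hr]
        _ = _ := by group
    rw [e]
    exact mul_mem ho (hθn r (hRC hr) _ (inv_mem ho))
  have hr1 : r' = 1 := eq_one_of_mem_R_odd hr' (odd_orderOf_of_mem hK0 (by
    rw [show r' = o'⁻¹ * x by rw [hxr]; group]
    exact mul_mem (mem_sup_right (inv_mem ho')) (mem_sup_left hx)))
  rw [hxr, hr1, mul_one]
  exact ho'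

/-- **balance at the central involution** -/
theorem balance_z (hF : F.Fused) (hC : F.Central) {a : G} (ha : IsConj F.z a) (haz : a * F.z = F.z * a) :
    F.θ a ⊓ centralizer ({F.z} : Set G) ≤ F.θ F.z := by
  haveI : Fact (Nat.Prime 2) := ⟨Nat.prime_two⟩
  have hao : orderOf a = 2 := by
    obtain ⟨g, hg⟩ := isConj_iff.1 ha
    exact hg ▸ invol_conj F.z_ord g
  obtain ⟨c, hc, hcT⟩ := F.ext_z2.conj_into (by simp) (R := zpowers a)
    (IsPGroup.of_card (n := 1) (by rw [Nat.card_zpowers, hao, pow_one]))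
    (zpowers_le.2 (F.mem_C_singleton.2 haz))
  obtain ⟨n, hn, hne⟩ := F.surj _ (hcT a (mem_zpowers a))
  have hk : cls n ∈ kClasses := hF.cls_of_conj_z hn (ha.trans (isConj_iff.2 ⟨c, hne.symm⟩))
  obtain ⟨g, hg, hge⟩ := exists_conj_rep hn (kl_disjoint hk)
  have hcz : c * F.z = F.z * c := F.mem_C_singleton.1 hc
  set d := (F.f g)⁻¹ * c with hd
  have hdC : d ∈ centralizer ({F.z} : Set G) :=
    mul_mem (inv_mem (mem_centralizer_singleton_iff.2 (F.comm_z hg))) (mem_centralizer_singleton_iff.2 hcz)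
  have hda : d * a * d⁻¹ = F.f (rep (cls n)) := by
    have e : F.f n = F.f g * F.f (rep (cls n)) * (F.f g)⁻¹ := by
      conv_lhs => rw [← hge]
      exact F.f_conj hg (rep_lt _ (kl_disjoint hk)).1
    rw [show d * a * d⁻¹ = (F.f g)⁻¹ * (c * a * c⁻¹) * F.f g by rw [hd]; group, ← hne, e]
    group
  rintro x ⟨hxa, hxz⟩
  replace hxz : x ∈ centralizer ({F.z} : Set G) := hxz
  have h := balance_rep hC hk (show d * x * d⁻¹ ∈ F.θ (F.f (rep (cls n))) ⊓ centralizer ({F.z} : Set G) from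
    mem_inf.2 ⟨hda ▸ F.conj_mem_θ d hxa, mul_mem (mul_mem hdC hxz) (inv_mem hdC)⟩)
  exact (mem_normalizer_iff.1 (le_normalizer_OC_self _ hdC) x).2 h

/-- **balance** -/
theorem balance (hF : F.Fused) (hC : F.Central) {a b : G} (ha : IsConj F.z a) (hb : IsConj F.z b)
    (hab : a * b = b * a) : F.θ a ⊓ centralizer ({b} : Set G) ≤ F.θ b := by
  obtain ⟨g, hg⟩ := isConj_iff.1 hb
  rintro x ⟨hxa, hxb⟩
  have e : g⁻¹ * b * g⁻¹⁻¹ = F.z := by rw [← hg]; group
  have h1 := balance_z hF hC (a := g⁻¹ * a * g⁻¹⁻¹) (ha.trans (isConj_iff.2 ⟨g⁻¹, rfl⟩))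
    (by rw [← e, show g⁻¹ * a * g⁻¹⁻¹ * (g⁻¹ * b * g⁻¹⁻¹) = g⁻¹ * (a * b) * g⁻¹⁻¹ by group, hab]; group)
    (x := g⁻¹ * x * g⁻¹⁻¹) ⟨F.conj_mem_θ g⁻¹ hxa, mem_centralizer_singleton_iff.2 (by
      rw [← e, show g⁻¹ * x * g⁻¹⁻¹ * (g⁻¹ * b * g⁻¹⁻¹) = g⁻¹ * (x * b) * g⁻¹⁻¹ by group,
        mem_centralizer_singleton_iff.1 hxb]
      group)⟩
  have h2 := F.conj_mem_θ g h1
  rwa [hg, show g * (g⁻¹ * x * g⁻¹⁻¹) * g⁻¹ = x by group] at h2

end Frame

end CfsgLib.Spor.HSSylow
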