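import Cfsg.Agent.Lib.Spor.HSSylow.CoreBalance
import Cfsg.Agent.Lib.Spor.HSSylow.Cert.K14
import Cfsg.Agent.Lib.Spor.HSSylow.Cert.K15
import Cfsg.Agent.Lib.Spor.HSSylow.Cert.K16
import Cfsg.Agent.Lib.Spor.HSSylow.Cert.K17
import Cfsg.Agent.Lib.SolvSignalizer.Main
import Cfsg.Agent.S0205

/-!
# The signalizer subgroup and control of fusion by its normaliser
-/

set_option autoImplicit false
set_option linter.unusedSectionVars false
set_option linter.style.haveILetI false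
set_option maxRecDepth 100000

namespace CfsgLib.Spor.HSSylow

open Subgroup
open CfsgLib.Invol
open CfsgLib.ProdFusion (OC OC_le odd_card_OC le_normalizer_OC_self)

/-- the classes in the elementary subgroup of order eight -/
def vClasses : List ℕ := [0, 1, 2]

/-- each pair of end classes lies in `Ks` or is mixed -/
def targetsB (Ks : List ℕ) (ts : List (ℕ × ℕ)) : Bool :=
  ts.all fun e => (Ks.contains e.1 && Ks.contains e.2) ||
    (Frame.kClasses.contains e.1 && [4, 6, 7].contains e.2) || (Frame.kClasses.contains e.2 && [4, 6, 7].contains e.1)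

/-- each chain has one step -/
def oneB (ps : List (List (Word × Bool))) : Bool :=
  ps.all fun p => match p with
    | [(_, false)] => true
    | _ => false

theorem cert_targets : targetsB vClasses cert_e_z_M.targets = true ∧ targetsB vClasses cert_w_z_M.targets = true ∧
    targetsB [0, 1, 2, 3, 8] cert_p_z_M.targets = true ∧ targetsB vClasses cert_v_u_M.targets = true ∧
    targetsB Frame.kClasses cert_q_u_M.targets = true := by decide +kernel

theorem cert_one : oneB cert_e_z_M.paths = true ∧ oneB cert_w_z_M.paths = true ∧ oneB cert_p_z_M.paths = true ∧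
    oneB cert_v_u_M.paths = true ∧ oneB cert_q_u_M.paths = true := by decide +kernel

theorem oneB_spec {ps : List (List (Word × Bool))} (h : oneB ps = true) : ∀ p ∈ ps, ∃ w, p = [(w, false)] := by
  intro p hp
  simp only [oneB, List.all_eq_true] at h
  have := h p hp
  split at this
  · exact ⟨_, rfl⟩
  · exact absurd this Bool.false_ne_true

namespace Frame

variable {G : Type*} [Group G] [Finite G]

/-- the subgroup generated by the cores of the elements of `V` -/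
def W (F : Frame G) : Subgroup G := ⨆ v : {v : G // v ∈ F.V ∧ v ≠ 1}, F.θ (v : G)

/-- its normaliser -/
abbrev M (F : Frame G) : Subgroup G := normalizer (F.W : Set G)

variable {F : Frame G}

theorem V_spec {v : G} (hv : v ∈ F.V) :
    v * v = 1 ∧ v ∈ F.A ∧ v ∈ F.R ∧ (∀ w ∈ F.V, v * w = w * v) := by
  obtain ⟨a, ha, rfl⟩ := hv
  have h := A_facts.2.2.1
  simp only [List.all_eq_true, Bool.and_eq_true, Nat.blt_eq, List.contains_iff_mem] at h
  obtain ⟨⟨⟨⟨h64, h2⟩, hR⟩, -⟩, hc⟩ := h a ha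
  refine ⟨?_, ⟨a, List.mem_range.2 h64, rfl⟩, ⟨a, hR, rfl⟩, ?_⟩
  · rw [← F.map_mul (by omega) (by omega), Nat.eq_of_beq_eq_true h2, F.f_zero]
  · rintro _ ⟨b, hb, rfl⟩
    obtain ⟨⟨⟨⟨hb64, -⟩, -⟩, -⟩, -⟩ := h b hb
    exact (F.f_comm (by omega) (by omega)).2 (commB_iff.1 (hc b hb))

theorem card_V : Nat.card ↥F.V = 8 := by
  have h := A_facts.2.2.1
  simp only [List.all_eq_true, Bool.and_eq_true, Nat.blt_eq] at h
  have h5 : ∀ a ∈ listV, a < 512 := fun a ha => lt_trans (h a ha).1.1.1.1 (by norm_num)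
  have e : Nat.card {a // a ∈ listV} = 8 := by
    rw [Nat.subtype_card listV.toFinset (fun _ => List.mem_toFinset),
      List.toFinset_card_of_nodup A_facts.2.2.2.1, A_facts.2.2.2.2.1]
  rw [← e]
  refine (Nat.card_eq_of_bijective (fun a : {a // a ∈ listV} => (⟨F.f a, a, a.2, rfl⟩ : F.V))
    ⟨fun a b h => ?_, fun g => ?_⟩).symm
  · exact Subtype.ext (F.inj (h5 a a.2) (h5 b b.2) (congrArg Subtype.val h))
  · obtain ⟨a, ha, e⟩ := g.2
    exact ⟨⟨a, ha⟩, Subtype.ext e⟩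

theorem elem_V : Cfsg.IsElementaryAbelian 2 F.V :=
  ⟨⟨⟨fun a b => Subtype.ext ((V_spec a.2).2.2.2 b b.2)⟩⟩, fun a ha => by rw [pow_two]; exact (V_spec ha).1⟩

theorem Fused.V_conj_z (hF : F.Fused) {v : G} (hv : v ∈ F.V) (h1 : v ≠ 1) : IsConj F.z v := by
  obtain ⟨a, ha, rfl⟩ := hv
  have h := A_facts.2.2.1
  simp only [List.all_eq_true, Bool.and_eq_true, Bool.or_eq_true, Nat.blt_eq, Nat.ble_eq] at h
  obtain ⟨⟨⟨⟨h64, -⟩, -⟩, hcls⟩, -⟩ := h a ha
  refine hF.conj_z_of_cls (by omega) ?_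
  have h0 : a ≠ 0 := fun e => h1 (by rw [e, F.f_zero])
  have := hcls.resolve_left fun e => h0 (Nat.eq_of_beq_eq_true e)
  simp only [kClasses, List.mem_cons, List.not_mem_nil, or_false]
  omega

theorem θ_inv {v a : G} (h : v * a = a * v) {x : G} (hx : x ∈ F.θ a) : v * x * v⁻¹ ∈ F.θ a :=
  (mem_normalizer_iff.1 (le_normalizer_OC_self _ (mem_centralizer_singleton_iff.2 h)) x).1 hx

theorem θ_le_W_V {v : G} (hv : v ∈ F.V) (h1 : v ≠ 1) : F.θ v ≤ F.W :=
  le_iSup (fun v : {v : G // v ∈ F.V ∧ v ≠ 1} => F.θ (v : G)) ⟨v, hv, h1⟩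

theorem odd_W (hF : F.Fused) (hC : F.Central) : Odd (Nat.card ↥F.W) := by
  haveI : Fact (Nat.Prime 2) := ⟨Nat.prime_two⟩
  have hfun : Cfsg.IsSolvableSignalizerFunctor 2 F.V (fun a => F.θ a) := by
    refine ⟨⟨fun a _ _ => OC_le _, fun a _ _ h => Nat.not_even_iff_odd.2 (odd_card_OC _) (even_iff_two_dvd.2 h),
      fun a ha _ b hb x hx => θ_inv ((V_spec hb).2.2.2 a ha) hx,
      fun a ha ha1 b hb hb1 => balance hF hC (hF.V_conj_z ha ha1) (hF.V_conj_z hb hb1) ((V_spec ha).2.2.2 b hb)⟩,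
      fun a _ _ => Cfsg.Agent.S0205.result (odd_card_OC (centralizer ({a} : Set G)))⟩
  obtain ⟨X, hX, hXθ⟩ := CfsgLib.SolvSignalizer.exists_complete elem_V (by rw [card_V]; norm_num) hfun
  refine CfsgLib.ProdFusion.odd_of_le (iSup_le fun v => hXθ v v.2.1 v.2.2) ?_
  rw [Nat.odd_iff]
  have := hX.2.1
  omega

/-- the cores of the involutions of `R` lie in `W` -/
theorem θ_le_W (hF : F.Fused) (hC : F.Central) {r : G} (hr : r ∈ F.R) (hr2 : r * r = 1) (hr1 : r ≠ 1) :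
    F.θ r ≤ F.W := by
  haveI : Fact (Nat.Prime 2) := ⟨Nat.prime_two⟩
  obtain ⟨a, ha, ha5, rfl⟩ := F.mem_R_code hr
  have h := R_invol
  simp only [List.all_eq_true, Bool.or_eq_true, Bool.and_eq_true, List.any_eq_true, Bool.not_eq_true',
    List.contains_iff_mem] at h
  rw [← F.map_mul ha5 ha5, F.f_eq_one (mul_lt _ _)] at hr2
  rw [Ne, F.f_eq_one ha5] at hr1
  rcases h a ha with (h' | h') | ⟨hk, v, hv, w, hw, ⟨⟨⟨hv0, hw0⟩, hvw⟩, hav⟩, haw⟩
  · simp [hr2] at h'
  · exact absurd (Nat.eq_of_beq_eq_true h') hr1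
  have h5 : ∀ b ∈ listV, b < 512 := fun b hb => by
    have h' := A_facts.2.2.1
    simp only [List.all_eq_true, Bool.and_eq_true, Nat.blt_eq] at h'
    exact lt_trans (h' b hb).1.1.1.1 (by norm_num)
  set U := F.V ⊓ centralizer ({F.f a} : Set G) with hU
  have hUe : Cfsg.IsElementaryAbelian 2 U :=
    ⟨⟨⟨fun x y => Subtype.ext ((V_spec x.2.1).2.2.2 y y.2.1)⟩⟩, fun x hx => elem_V.2 x hx.1⟩
  have hmem : ∀ b ∈ listV, commB a b = true → F.f b ∈ U := fun b hb hab => mem_inf.2 ⟨⟨b, hb, rfl⟩,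
    mem_centralizer_singleton_iff.2 ((F.f_comm ha5 (h5 b hb)).2 (commB_iff.1 hab)).symm⟩
  have hU4 : 2 ^ 2 ≤ Nat.card ↥U := by
    let g : Fin 3 → ↥U := ![⟨1, one_mem _⟩, ⟨F.f v, hmem v hv hav⟩, ⟨F.f w, hmem w hw haw⟩]
    have hne : v ≠ 0 ∧ w ≠ 0 ∧ v ≠ w :=
      ⟨fun e => by simp [e] at hv0, fun e => by simp [e] at hw0, fun e => by simp [e] at hvw⟩
    have hinj : Function.Injective g := by
      intro i j e
      have e' := congrArg Subtype.val e
      fin_cases i <;> fin_cases j <;> first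
        | rfl
        | exact absurd ((F.f_eq_one (h5 v hv)).1 e'.symm) hne.1
        | exact absurd ((F.f_eq_one (h5 v hv)).1 e') hne.1
        | exact absurd ((F.f_eq_one (h5 w hw)).1 e'.symm) hne.2.1
        | exact absurd ((F.f_eq_one (h5 w hw)).1 e') hne.2.1
        | exact absurd (F.inj (h5 v hv) (h5 w hw) e') hne.2.2
        | exact absurd (F.inj (h5 w hw) (h5 v hv) e') hne.2.2.symm
    have h3 := Nat.card_le_card_of_injective g hinj
    rw [Nat.card_fin] at h3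
    obtain ⟨k, -, hk⟩ := (Nat.dvd_prime_pow Nat.prime_two).1
      (show Nat.card ↥U ∣ 2 ^ 3 from (card_dvd_of_le inf_le_left).trans (dvd_of_eq card_V))
    rw [hk] at h3 ⊢
    refine Nat.pow_le_pow_right (by norm_num) ?_
    by_contra hlt
    interval_cases k <;> norm_num at h3
  refine CfsgLib.SolvSignalizer.le_of_fixed_points hUe hU4
    (fun x hx => CfsgLib.ProdFusion.mem_of_forall_conj_mem fun y hy =>
      θ_inv (mem_centralizer_singleton_iff.1 hx.2) hy)
    (fun h => Nat.not_even_iff_odd.2 (odd_card_OC (centralizer ({F.f a} : Set G))) (even_iff_two_dvd.2 h))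
    fun x hx hx1 => (balance hF hC (hF.conj_z_of_cls ha5 hk) (hF.V_conj_z hx.1 hx1)
      (mem_centralizer_singleton_iff.1 hx.2).symm).trans (θ_le_W_V hx.1 hx1)

theorem V_le_T : F.V ≤ (F.T : Subgroup G) := F.sub_le _ _

theorem z_mem_V : F.z ∈ F.V := ⟨2, by decide +kernel, rfl⟩

theorem conj_W_le {g : G} (h : ∀ v ∈ F.V, v ≠ 1 → F.θ (g * v * g⁻¹) ≤ F.W) : g ∈ F.M := by
  refine CfsgLib.ProdFusion.mem_of_forall_conj_mem fun x hx => ?_
  have hle : CfsgLib.Coprime.conjBy g F.W ≤ F.W := by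
    rw [W, CfsgLib.Coprime.conjBy, Subgroup.map_iSup]
    refine iSup_le fun v => ?_
    rintro _ ⟨y, hy, rfl⟩
    exact h v v.2.1 v.2.2 (F.conj_mem_θ g hy)
  exact hle ⟨x, hx, rfl⟩

theorem normA_le_M : normalizer (F.A : Set G) ≤ F.M := fun g hg => conj_W_le fun v hv h1 => by
  obtain ⟨a, ha, e⟩ := (mem_normalizer_iff.1 hg v).1 (V_spec hv).2.1
  have ha5 : a < 512 := lt_trans (List.mem_range.1 ha) (by norm_num)
  have h2 : mul a a = 0 := (F.f_eq_one (mul_lt _ _)).1 (by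
    rw [F.map_mul ha5 ha5, e, show g * v * g⁻¹ * (g * v * g⁻¹) = g * (v * v) * g⁻¹ by group, (V_spec hv).1]
    group)
  have hV := A_facts.2.1
  simp only [List.all_eq_true, Bool.or_eq_true, Bool.not_eq_true', List.contains_iff_mem] at hV
  refine θ_le_W_V ⟨a, (hV a ha).resolve_left fun h => ?_, e⟩ fun h => h1 (conj_eq_one_iff.1 h)
  simp [h2] at h

theorem cz_le_M (hF : F.Fused) (hC : F.Central) : centralizer ({F.z} : Set G) ≤ F.M := by
  intro g hg
  obtain ⟨o, n, ho, -, hnR, rfl⟩ := hC.factor g (mem_centralizer_singleton_iff.1 hg)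
  refine mul_mem (le_normalizer (θ_le_W_V z_mem_V F.z_ne ho)) (conj_W_le fun v hv h1 => ?_)
  exact θ_le_W hF hC ((mem_normalizer_iff.1 hnR v).1 (V_spec hv).2.2.1)
    (by rw [show n * v * n⁻¹ * (n * v * n⁻¹) = n * (v * v) * n⁻¹ by group, (V_spec hv).1]; group)
    fun h => h1 (conj_eq_one_iff.1 h)

theorem T_le_M : (F.T : Subgroup G) ≤ F.M := F.T_le_normA.trans normA_le_M

/-- conjugate to the central involution by an element of `M` -/
def ToZ (F : Frame G) (x : G) : Prop := ∃ m ∈ F.M, m * x * m⁻¹ = F.z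

theorem toZ_of_rep {n : ℕ} (hn : n < 512) (h : cls n < 16) (ht : ToZ F (F.f (rep (cls n)))) : ToZ F (F.f n) := by
  obtain ⟨g, hg, e⟩ := exists_conj_rep hn h
  obtain ⟨m, hm, hme⟩ := ht
  refine ⟨m * (F.f g)⁻¹, mul_mem hm (inv_mem (T_le_M (F.mem hg))), ?_⟩
  have e' : F.f n = F.f g * F.f (rep (cls n)) * (F.f g)⁻¹ := by
    conv_lhs => rw [← e]
    exact F.f_conj hg (rep_lt _ h).1
  rw [e', ← hme]; group

/-- a certificate moves inside `M` -/
theorem move (hF : F.Fused) (hC : F.Central) {C : Cert} (hc : C.check = true) (h1 : oneB C.paths = true)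
    {Ks : List ℕ} (ht : targetsB Ks C.targets = true) (hK : ∀ i ∈ Ks, i < 16 ∧ ToZ F (F.f (rep i)))
    {x y : ℕ} (hxs : C.xs = [x]) (hys : C.ys = [y]) (hx : x < 512) (hy : y < 512) (hE : F.Ext [y])
    (hxy : IsConj (F.f x) (F.f y)) : ∃ m ∈ F.M, m * F.f x * m⁻¹ = F.f y := by
  obtain ⟨g, hg⟩ := isConj_iff.1 hxy
  have hnil : ∀ a : ℕ, a < 512 → a ∈ centL [] := fun a ha => mem_centL.2 ⟨ha, by simp⟩
  obtain ⟨d, -, hd⟩ := F.conj_ext (zs := []) (by simp) (hnil x hx) (hnil y hy) hE (g := g)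
    (by rw [C_nil]; exact mem_top g) hg
  obtain ⟨s, hs, n, hn, m, hm, htg, e⟩ := F.cert_move hc (oneB_spec h1) (hxs.symm ▸ hys.symm ▸ hd)
  obtain ⟨hs5, hsy⟩ := mem_centL.1 hs
  refine ⟨F.f s * d, ?_, ?_⟩
  · simp only [targetsB, List.all_eq_true, Bool.or_eq_true, Bool.and_eq_true, List.contains_iff_mem] at ht
    rcases ht _ htg with (⟨h1', h2'⟩ | ⟨hk, hl⟩) | ⟨hk, hl⟩
    · obtain ⟨a, ha, hae⟩ := toZ_of_rep hn (hK _ h1').1 (hK _ h1').2
      obtain ⟨b, hb, hbe⟩ := toZ_of_rep hm (hK _ h2').1 (hK _ h2').2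
      have hz : b * (F.f s * d) * a⁻¹ ∈ centralizer ({F.z} : Set G) := by
        refine mem_centralizer_singleton_iff.2 (mul_inv_eq_iff_eq_mul.1 ?_)
        conv_lhs => enter [1, 2]; rw [← hae]
        rw [← hbe, ← e]; group
      have := mul_mem (mul_mem (inv_mem hb) (cz_le_M hF hC hz)) ha
      rwa [show b⁻¹ * (b * (F.f s * d) * a⁻¹) * a = F.f s * d by group] at this
    · exfalso
      refine hF.l_not_link hl ((hF.k_link hk).trans (F.link_of_conj hn hm (kl_disjoint hk) ?_ e))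
      simp only [List.mem_cons, List.not_mem_nil, or_false] at hl
      omega
    · exfalso
      refine hF.l_not_link hl ((hF.k_link hk).trans (F.link_of_conj hn hm ?_ (kl_disjoint hk) e).symm)
      simp only [List.mem_cons, List.not_mem_nil, or_false] at hl
      omega
  · have e1 := hd.pairs (x, y) (by simp)
    have e2 : F.f s * F.f y = F.f y * F.f s := (F.f_comm hs5 hy).2 (hsy y (by rw [hys]; simp))
    calc F.f s * d * F.f x * (F.f s * d)⁻¹ = F.f s * (d * F.f x * d⁻¹) * (F.f s)⁻¹ := by group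
      _ = F.f s * F.f y * (F.f s)⁻¹ := by rw [e1]
      _ = F.f y := by rw [e2]; group

/-- **the classes fused with `z` are fused in `M`** -/
theorem toZ_k (hF : F.Fused) (hC : F.Central) {i : ℕ} (hi : i ∈ kClasses) : ToZ F (F.f (rep i)) := by
  have h0 : ToZ F (F.f (rep 0)) := ⟨1, one_mem _, by simp [z_eq]⟩
  have hV : ∀ i, F.Link 0 i → rep i < 64 → ToZ F (F.f (rep i)) := by
    intro i hl hlt
    obtain ⟨g, hg⟩ := isConj_iff.1 hl.symm
    have hx : F.f (rep i) ∈ F.A := ⟨rep i, List.mem_range.2 hlt, rfl⟩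
    obtain ⟨n, hn, hne⟩ := F.control_A hx (g := g) (by
      rw [hg, A_facts.2.2.2.2.2.2.2.2.2]; exact ⟨2, List.mem_range.2 (by norm_num), rfl⟩)
    exact ⟨n, normA_le_M hn, hne.trans hg⟩
  have h1 := hV 1 hF.za (by rw [A_facts.2.2.2.2.2.2.2.1]; norm_num)
  have h2 := hV 2 hF.zb (by rw [A_facts.2.2.2.2.2.2.2.2.1]; norm_num)
  have h012 : ∀ i ∈ vClasses, i < 16 ∧ ToZ F (F.f (rep i)) := by
    intro i hi
    simp only [vClasses, List.mem_cons, List.not_mem_nil, or_false] at hi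
    rcases hi with rfl | rfl | rfl
    exacts [⟨by norm_num, h0⟩, ⟨by norm_num, h1⟩, ⟨by norm_num, h2⟩]
  have h3 : ToZ F (F.f (rep 3)) := move hF hC cert_e_z_M_check cert_one.1 cert_targets.1 h012 (x := 128) (y := 2)
    rfl rfl (by norm_num) (by norm_num) F.ext_z2 hF.ze.symm
  have h8 : ToZ F (F.f (rep 8)) := move hF hC cert_w_z_M_check cert_one.2.1 cert_targets.2.1 h012 (x := 320) (y := 2)
    rfl rfl (by norm_num) (by norm_num) F.ext_z2 hF.zw.symm
  have h5 : ToZ F (F.f (rep 5)) := move hF hC cert_p_z_M_check cert_one.2.2.1 cert_targets.2.2.1 (Ks := [0, 1, 2, 3, 8])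
    (fun i hi => by
      simp only [List.mem_cons, List.not_mem_nil, or_false] at hi
      rcases hi with rfl | rfl | rfl | rfl | rfl
      exacts [⟨by norm_num, h0⟩, ⟨by norm_num, h1⟩, ⟨by norm_num, h2⟩, ⟨by norm_num, h3⟩, ⟨by norm_num, h8⟩])
    (x := 257) (y := 2) rfl rfl (by norm_num) (by norm_num) F.ext_z2 hF.zp.symm
  simp only [kClasses, List.mem_cons, List.not_mem_nil, or_false] at hi
  rcases hi with rfl | rfl | rfl | rfl | rfl | rfl
  exacts [h0, h1, h2, h3, h5, h8]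

/-- an element of a two-subgroup of `M` moves into `T` inside `M` -/
theorem exists_into_T {x : G} (hx : x ∈ F.M) (h2 : orderOf x = 2) : ∃ a ∈ F.M, a * x * a⁻¹ ∈ (F.T : Subgroup G) := by
  haveI : Fact (Nat.Prime 2) := ⟨Nat.prime_two⟩
  have hp : IsPGroup 2 (zpowers (⟨x, hx⟩ : ↥F.M)) := IsPGroup.of_card (n := 1) (by
    rw [Nat.card_zpowers, ← Subgroup.orderOf_coe, h2, pow_one])
  obtain ⟨a, ha⟩ := exists_conj_le_sylow hp (F.T.subtype T_le_M)
  exact ⟨a, a.2, ha _ (mem_zpowers _)⟩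

theorem toZ_of_mem (hF : F.Fused) (hC : F.Central) {x : G} (hx : x ∈ F.M) (hk : IsConj F.z x) : ToZ F x := by
  obtain ⟨g, hg⟩ := isConj_iff.1 hk
  obtain ⟨a, ha, haT⟩ := exists_into_T hx (hg ▸ invol_conj F.z_ord g)
  obtain ⟨n, hn, e⟩ := F.surj _ haT
  have hcls := hF.cls_of_conj_z hn (hk.trans (isConj_iff.2 ⟨a, e.symm⟩))
  obtain ⟨m, hm, hme⟩ := toZ_of_rep hn (kl_disjoint hcls) (toZ_k hF hC hcls)
  refine ⟨m * a, mul_mem hm ha, ?_⟩
  rw [← hme, e]; group

/-- **`M` contains what carries a conjugate of `z` in it to another** -/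
theorem mem_M_of_conj (hF : F.Fused) (hC : F.Central) {x g : G} (hx : x ∈ F.M) (hk : IsConj F.z x)
    (hy : g * x * g⁻¹ ∈ F.M) : g ∈ F.M := by
  obtain ⟨a, ha, hae⟩ := toZ_of_mem hF hC hx hk
  obtain ⟨b, hb, hbe⟩ := toZ_of_mem hF hC hy (hk.trans (isConj_iff.2 ⟨g, rfl⟩))
  have hz : b * g * a⁻¹ ∈ centralizer ({F.z} : Set G) := by
    refine mem_centralizer_singleton_iff.2 (mul_inv_eq_iff_eq_mul.1 ?_)
    conv_lhs => enter [1, 2]; rw [← hae]
    rw [← hbe]; group
  have := mul_mem (mul_mem (inv_mem hb) (cz_le_M hF hC hz)) ha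
  rwa [show b⁻¹ * (b * g * a⁻¹) * a = g by group] at this

theorem cent_le_M_k (hF : F.Fused) (hC : F.Central) {x : G} (hx : x ∈ F.M) (hk : IsConj F.z x) :
    centralizer ({x} : Set G) ≤ F.M := fun g hg => mem_M_of_conj hF hC hx hk (by
  rw [mem_centralizer_singleton_iff.1 hg, mul_inv_cancel_right]; exact hx)

end Frame

end CfsgLib.Spor.HSSylow
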