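import Mathlib

/-!
# Tables for the Sylow two-subgroup of the Higman–Sims group

An element is coded by `a + 64 d`, where `a` codes a vector over the integers modulo four and `d` an
element of a complementary dihedral group of order eight.
-/

set_option autoImplicit false

namespace CfsgLib.Spor.HSSylow

/-- The action of the complement on the homocyclic subgroup. -/
def actTab : ℕ := 0x5d6554c33cb175c7deeb9e3b38d30faeaa681071858608e2d74df6491413ffef7c61b699b2fbad2482ca9a59270c204065a6d85565d44524d075e7dc9669e48628e0b6ebeca6aae8c72cf0f7effce7aef8d76df434e3cc24a2c81461c40420c0d37db56da658fbdf3f4504d2185107a68aea30f38d8e2860517595efae7879d71fc70cf29a59272482cab2fbad0c2040cb3c31db7d35ebbe39fbff3dbecb6e8e08629e4966ae8a6a61969b71d79f4114935155971461c424a2c834e3cc0420c0e7aef871d79fcf0c7259751538f30d8628e0105187ae8a6a4d0452db7d3565a6d8f3dfbf9259a72c824abafb2d0420c079d71f49141359551769961b9649e6a68aeab6cbee8608e2f3ffbdc33cb1d37db5e3beb91c61442ca2483ce34c0c2040411493f7effc69b619df4d761871058e086230d38fa6aae8e39ebb5565d4cb3c317dc75ebafb2d2c824a9259a70420c0ffef7cefae78df6d74cf2c70beeb6caeaa689e69648e28607de75c6da6585d65544d24503ce34c2ca2481c61440c2040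

/-- The products in the complement. -/
def dTab : ℕ := 0x5397760af2e4c1de5298bbcd67443b3e21a9f50d1fac688

/-- The inverses. -/
def invTab : ℕ := 0xfeffbfffce8747a5d3fbfd3ebf6ed76fb1d9e371f89c5f4fabd7e8e67379dcff1f83c3e2eff73bbdef97cfe1f1eaf5bafd4fc7e7f5fbf2797cde7e5f2393caf77bfd9ede0f0b87c0ddeeb73b8dfefb7bbcd9ecb63b0dbedb6bb4d7ebb5bacd1e8b43a0d3e9b4ba4d5eab53a8c9e4b2390cbe5b2b94cde6b3398cfe7b3b9cc3e1b0b84c5e2b1388c7e3b1b8cc1e0b0380ae576bd5fbcdeaf778ab55ea955b9dc2e372a753e994db5da2d36aa25168d47b0d8ac760be5f6fd7facd6ab758bb5dee975a9d42a352b75bed96da5d22934ab2596cd67a0d0a87408944621138f476391f8d466311b8b456291792c924f2690c82472296cb25f2e94ca2572a9c4ee75399a4de6d35984ce65319e4fe7d3d87c3a1b0c85c2a130883c1a0b0481c0a0300381cce4712b958aa543d1e4f07b2e970be5e27134984f30980c6622211c8c45359a8d2682c16cb4593f9f8fa7c29144a0533a9d0ee7633194c86724920964a361bcdc6d2190882405b2dd68b5592cd60b15f2fd78bd5d2ed70b957ab15aae55aa152aa53a914aa651a8142a24a2552c974824524934e2753c9f4c265349b46a391e8c44a29168842a190e8440a0906806db69b2d87a3ddecf568b41a6d27f3f5f8ff6331588c771b89c2e06633d9ccd74ba1d6ea78bc1e6f26f375b8df7dbe9f2f86a35dacd5763bddced64b2196ca73395c8e761b0982c00a8582e140c86836180e8783e1c088482610128984e24148a85628168b85e2c1088846201a8d86e341c8e876381e8f87e3c188c86630028180e04048281608068381e0c008080600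

/-- The numbers of the classes used. -/
def clsTab : ℕ := 0x69da7fffff3b4edffffffffff62188fffff4310c3b4edfffff69da7ffffffffff4310cfffff62188ffffffffffffffffffff298a6fffff298a6ffffffffffffffffffffffffffffff298a6fffff298a6fffff69da7fffff3b4edfffff4310cfffff62188fffff69da7fffff3b4edfffff4310cfffff62188ffffffffffffffffffffffffffffffffffffffffffffffffffffffffffff314c5298a6314c5298a6ffffffffffffffffffffffffffffffffffffffffffffffffffffffffffffffffffffffffffffffffffffffffffffffffffff23c8f1b86e23c8f1b86effffffffffffffffffff791e470dc3791e470dc3fffffffffffffffffffffffffffffffffffffffffffffffffffffffffffffffffffffffffffffffffffffffffffffffffffffffff58962fffff58962fffffffffffffffffffffffff50541fffff4813f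

end CfsgLib.Spor.HSSylow
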