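import Cfsg.Agent.Lib.Spor.HSSylow.Frame

/-!
# Certificates about the possible images of a centralizer

A certificate runs through the possible images of generators of the centralizer of a list, pruned by relations,
and finds in each case a chain of classes joining two given ones.
-/

set_option autoImplicit false
set_option maxRecDepth 100000

namespace CfsgLib.Spor.HSSylow

/-- A word in numbered generators. -/
abbrev Word := List ℕ

/-- A word evaluated. -/
def ev (im : List ℕ) (w : Word) : ℕ := w.foldl (fun a i => mul a (im.getD i 0)) 0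

/-- The conditions at one stage. -/
def levOK (L : List Word × List Word) (im : List ℕ) : Bool :=
  (L.1.all fun w => Nat.beq (ev im w) 0) && L.2.all fun w => !Nat.beq (ev im w) 0

/-- The search. -/
def search (goal : List ℕ → Bool) : List (List ℕ × (List Word × List Word)) → List ℕ → Bool
  | [], im => goal im
  | L :: Ls, im => L.1.all fun t => !(levOK L.2 (im ++ [t])) || search goal Ls (im ++ [t])

/-- The conditions hold at the source. -/
def srcOK : List (List Word × List Word) → List ℕ → List ℕ → Bool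
  | [], _, [] => true
  | L :: Ls, src, g :: gs => levOK L (src ++ [g]) && srcOK Ls (src ++ [g]) gs
  | _, _, _ => false

/-- The classes of a word at the source and at the image, in the order given by the flag. -/
def edge (src im : List ℕ) (p : Word × Bool) : ℕ × ℕ :=
  if p.2 then (cls (ev im p.1), cls (ev src p.1)) else (cls (ev src p.1), cls (ev im p.1))

/-- The end classes of a chain. -/
def endp (src im : List ℕ) : List (Word × Bool) → Option (ℕ × ℕ)
  | [] => none
  | [p] => some (edge src im p)
  | p :: q :: rest =>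
    match endp src im (q :: rest) with
    | none => none
    | some (a, b) =>
      if Nat.beq (edge src im p).2 a && Nat.blt a 16 then some ((edge src im p).1, b) else none

/-- A certificate. -/
structure Cert where
  /-- the source list -/
  xs : List ℕ
  /-- its image -/
  ys : List ℕ
  /-- the further generators -/
  gens : List ℕ
  /-- the centralizer of the image -/
  cents : List ℕ
  /-- representatives for the first stage -/
  reps : List ℕ
  /-- conjugators into the representatives -/
  wit : List ℕ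
  /-- the conditions -/
  levels : List (List Word × List Word)
  /-- the chains -/
  paths : List (List (Word × Bool))
  /-- the pairs of end classes -/
  targets : List (ℕ × ℕ)

namespace Cert

/-- The candidates at each stage. -/
def stages (C : Cert) : List (List ℕ × (List Word × List Word)) :=
  match C.levels with
  | [] => []
  | L :: Ls => (C.reps, L) :: Ls.map fun M => (C.cents, M)

/-- The goal at a leaf. -/
def goal (C : Cert) (im : List ℕ) : Bool :=
  C.paths.any fun p =>
    match endp (C.xs ++ C.gens) im p with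
    | none => false
    | some e => C.targets.contains e

/-- The certificate is correct. -/
def check (C : Cert) : Bool :=
  Nat.beq C.xs.length C.ys.length && Nat.beq C.cents.length C.wit.length &&
  (C.ys.all fun y => Nat.blt y 512) &&
  ((C.xs ++ C.gens).all fun a => Nat.blt a 512 && C.xs.all fun x => commB a x) &&
  (C.cents == centL C.ys) && (C.wit.all fun s => C.cents.contains s) &&
  ((C.cents.zip C.wit).all fun p => C.reps.contains (conj p.2 p.1)) &&
  srcOK C.levels C.xs C.gens && search C.goal C.stages C.ys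

/-- The images correspond under a conjugation. -/
def Match {G : Type*} [Group G] (F : Frame G) (d : G) (src im : List ℕ) : Prop :=
  src.length = im.length ∧ ∀ i : ℕ, src.getD i 0 < 512 ∧ im.getD i 0 < 512 ∧
    d * F.f (src.getD i 0) * d⁻¹ = F.f (im.getD i 0)

variable {G : Type*} [Group G] {F : Frame G}

theorem Match.snoc {d : G} {src im : List ℕ} (h : Match F d src im) {a b : ℕ} (ha : a < 512) (hb : b < 512)
    (e : d * F.f a * d⁻¹ = F.f b) : Match F d (src ++ [a]) (im ++ [b]) := by
  refine ⟨by simp [h.1], fun i => ?_⟩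
  rcases lt_trichotomy i src.length with hi | rfl | hi
  · rw [List.getD_append _ _ _ _ hi, List.getD_append _ _ _ _ (h.1 ▸ hi)]
    exact h.2 i
  · rw [List.getD_append_right _ _ _ _ le_rfl, h.1, List.getD_append_right _ _ _ _ le_rfl]
    simp [ha, hb, e]
  · rw [List.getD_eq_default _ _ (by simp; omega), List.getD_eq_default _ _ (by simp [← h.1]; omega)]
    simp [F.f_zero]

theorem ev_spec {d : G} {src im : List ℕ} (h : Match F d src im) (w : Word) :
    ev src w < 512 ∧ ev im w < 512 ∧ d * F.f (ev src w) * d⁻¹ = F.f (ev im w) := by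
  unfold ev
  suffices H : ∀ (w : Word) (a b : ℕ), a < 512 → b < 512 → d * F.f a * d⁻¹ = F.f b →
      w.foldl (fun a i => mul a (src.getD i 0)) a < 512 ∧ w.foldl (fun a i => mul a (im.getD i 0)) b < 512 ∧
      d * F.f (w.foldl (fun a i => mul a (src.getD i 0)) a) * d⁻¹ =
        F.f (w.foldl (fun a i => mul a (im.getD i 0)) b) from
    H w 0 0 (by norm_num) (by norm_num) (by simp [F.f_zero])
  intro w
  induction w with
  | nil => intro a b ha hb e; exact ⟨ha, hb, e⟩
  | cons i w ih =>
    intro a b ha hb e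
    obtain ⟨h1, h2, h3⟩ := h.2 i
    simp only [List.foldl_cons]
    refine ih _ _ (mul_lt _ _) (mul_lt _ _) ?_
    rw [F.map_mul ha h1, F.map_mul hb h2, ← e, ← h3]
    group

theorem levOK_transfer {d : G} {src im : List ℕ} (h : Match F d src im) {L : List Word × List Word}
    (hs : levOK L src = true) : levOK L im = true := by
  simp only [levOK, Bool.and_eq_true, List.all_eq_true, Bool.not_eq_eq_eq_not, Bool.not_true] at hs ⊢
  refine ⟨fun w hw => ?_, fun w hw => ?_⟩
  · obtain ⟨h1, h2, h3⟩ := ev_spec h w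
    rw [Nat.eq_of_beq_eq_true (hs.1 w hw), F.f_zero, mul_one, mul_inv_cancel] at h3
    rw [(F.f_eq_one h2).1 h3.symm]
    rfl
  · obtain ⟨h1, h2, h3⟩ := ev_spec h w
    have hw2 := hs.2 w hw
    rw [← Bool.not_eq_true, Nat.beq_eq] at hw2 ⊢
    intro e
    rw [e, F.f_zero, conj_eq_one_iff, F.f_eq_one h1] at h3
    exact hw2 h3

theorem search_sound {d : G} {goal : List ℕ → Bool} {cents : List ℕ} :
    ∀ (Ls : List (List Word × List Word)) (gs src im : List ℕ), Match F d src im → srcOK Ls src gs = true →
      (∀ g ∈ gs, g < 512 ∧ ∃ b ∈ cents, b < 512 ∧ d * F.f g * d⁻¹ = F.f b) →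
      search goal (Ls.map fun M => (cents, M)) im = true →
      ∃ im', Match F d (src ++ gs) im' ∧ goal im' = true
  | [], [], src, im, hm, _, _, hs => ⟨im, by rwa [List.append_nil], hs⟩
  | [], _ :: _, _, _, _, h, _, _ => by simp [srcOK] at h
  | _ :: _, [], _, _, _, h, _, _ => by simp [srcOK] at h
  | L :: Ls, g :: gs, src, im, hm, hsrc, hg, hs => by
    simp only [srcOK, Bool.and_eq_true] at hsrc
    obtain ⟨hg5, b, hb, hb5, e⟩ := hg g List.mem_cons_self
    have hm' := hm.snoc hg5 hb5 e
    simp only [List.map_cons, search, List.all_eq_true, Bool.or_eq_true] at hs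
    rcases hs b hb with h | h
    · simp [levOK_transfer hm' hsrc.1] at h
    · have := search_sound Ls gs (src ++ [g]) (im ++ [b]) hm' hsrc.2 (fun k hk => hg k (List.mem_cons_of_mem _ hk)) h
      rwa [List.append_assoc, List.singleton_append] at this

/-- What a certificate gives. -/
theorem sound {C : Cert} (hC : C.check = true) {g : G} (hg : F.Emb g C.xs C.ys) :
    ∃ d : G, (∃ s ∈ centL C.ys, d = F.f s * g) ∧ F.Emb d C.xs C.ys ∧
      ∃ im : List ℕ, Match F d (C.xs ++ C.gens) im ∧ ∃ p ∈ C.paths, ∃ e ∈ C.targets,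
        endp (C.xs ++ C.gens) im p = some e := by
  simp only [check, Bool.and_eq_true, List.all_eq_true, Nat.blt_eq, beq_iff_eq, List.contains_iff_mem] at hC
  obtain ⟨⟨⟨⟨⟨⟨⟨⟨hlen, hwl⟩, hys⟩, hgens⟩, hcents⟩, hwit⟩, hreps⟩, hsrc⟩, hs⟩ := hC
  have hlen' := Nat.eq_of_beq_eq_true hlen
  have hmemx : ∀ a ∈ C.xs ++ C.gens, a ∈ centL C.xs := fun a ha =>
    mem_centL.2 ⟨(hgens a ha).1, fun z hz => commB_iff.1 ((hgens a ha).2 z hz)⟩
  have hxs : ∀ x ∈ C.xs, x < 512 := fun x hx => (hgens x (List.mem_append_left _ hx)).1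
  have base : ∀ d : G, F.Emb d C.xs C.ys → Match F d C.xs C.ys := fun d hd => by
    refine ⟨hlen', fun i => ?_⟩
    by_cases hi : i < C.xs.length
    · rw [List.getD_eq_getElem _ _ hi, List.getD_eq_getElem _ _ (hlen' ▸ hi)]
      refine ⟨hxs _ (List.getElem_mem _), hys _ (List.getElem_mem _), hd.pairs (C.xs[i], C.ys[i]) ?_⟩
      exact List.mem_iff_getElem.2 ⟨i, by simp [← hlen', hi], by simp⟩
    · rw [List.getD_eq_default _ _ (by omega), List.getD_eq_default _ _ (by omega)]
      simp [F.f_zero]
  have push : ∀ s ∈ centL C.ys, F.Emb (F.f s * g) C.xs C.ys := fun s hs' => by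
    obtain ⟨hs5, hsc⟩ := mem_centL.1 hs'
    refine ⟨fun a ha => ?_, fun p hp => ?_⟩
    · obtain ⟨b, hb, e⟩ := hg.map a ha
      obtain ⟨hb5, hbc⟩ := mem_centL.1 hb
      refine ⟨conj s b, mem_centL.2 ⟨conj_lt _ _, fun z hz => (F.f_comm (conj_lt _ _) (hys z hz)).1 ?_⟩, ?_⟩
      · have h1 := (F.f_comm hb5 (hys z hz)).2 (hbc z hz)
        have h2 := (F.f_comm hs5 (hys z hz)).2 (hsc z hz)
        rw [F.f_conj hs5 hb5]
        have h2' : (F.f s)⁻¹ * F.f z = F.f z * (F.f s)⁻¹ := by
          rw [inv_mul_eq_iff_eq_mul, ← mul_assoc, h2, mul_inv_cancel_right]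
        rw [mul_assoc (F.f s * F.f b), h2', ← mul_assoc, mul_assoc (F.f s), h1, ← mul_assoc, h2]
        group
      · rw [F.f_conj hs5 hb5, ← e]
        group
    · have h1 := hg.pairs p hp
      have hp2 : p.2 ∈ C.ys := (List.of_mem_zip (show (p.1, p.2) ∈ _ from hp)).2
      rw [show F.f s * g * F.f p.1 * (F.f s * g)⁻¹ = F.f s * (g * F.f p.1 * g⁻¹) * (F.f s)⁻¹ by group, h1,
        (F.f_comm hs5 (hys _ hp2)).2 (hsc _ hp2), mul_inv_cancel_right]
  have finish : ∀ d : G, (∃ s ∈ centL C.ys, d = F.f s * g) → F.Emb d C.xs C.ys →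
      (∃ im', Match F d (C.xs ++ C.gens) im' ∧ C.goal im' = true) →
      ∃ d : G, (∃ s ∈ centL C.ys, d = F.f s * g) ∧ F.Emb d C.xs C.ys ∧
        ∃ im : List ℕ, Match F d (C.xs ++ C.gens) im ∧ ∃ p ∈ C.paths, ∃ e ∈ C.targets,
          endp (C.xs ++ C.gens) im p = some e := fun d h1 h2 ⟨im', hm, hgl⟩ => by
    simp only [goal, List.any_eq_true] at hgl
    obtain ⟨p, hp, hpe⟩ := hgl
    refine ⟨d, h1, h2, im', hm, p, hp, ?_⟩
    cases he : endp (C.xs ++ C.gens) im' p with
    | none => simp [he] at hpe
    | some e =>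
      rw [he] at hpe
      exact ⟨e, List.contains_iff_mem.1 hpe, rfl⟩
  cases hL : C.levels with
  | nil =>
    rw [hL] at hsrc
    have h0 : C.gens = [] := by
      cases hgs : C.gens with
      | nil => rfl
      | cons a l => simp [hgs, srcOK] at hsrc
    rw [stages, hL, search] at hs
    have hz : 0 ∈ centL C.ys :=
      mem_centL.2 ⟨by norm_num, fun z hz => by rw [zero_mul' (hys z hz), mul_zero' (hys z hz)]⟩
    refine finish g ⟨0, hz, by rw [F.f_zero, one_mul]⟩ hg ⟨C.ys, ?_, hs⟩
    rw [h0, List.append_nil]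
    exact base g hg
  | cons L Ls =>
    rw [hL] at hsrc
    obtain ⟨g1, gs, hgs⟩ : ∃ g1 gs, C.gens = g1 :: gs := by
      cases hgs : C.gens with
      | nil => simp [hgs, srcOK] at hsrc
      | cons a l => exact ⟨a, l, rfl⟩
    rw [hgs] at hsrc
    simp only [srcOK, Bool.and_eq_true] at hsrc
    have hg1 : g1 ∈ centL C.xs := hmemx g1 (List.mem_append_right _ (hgs ▸ List.mem_cons_self))
    obtain ⟨b, hb, eb⟩ := hg.map g1 hg1
    obtain ⟨s, hs1, hs2⟩ : ∃ s ∈ centL C.ys, conj s b ∈ C.reps := by
      rw [← hcents] at hb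
      obtain ⟨i, hi, rfl⟩ := List.mem_iff_getElem.1 hb
      have hi' : i < C.wit.length := Nat.eq_of_beq_eq_true hwl ▸ hi
      refine ⟨C.wit[i], ?_, ?_⟩
      · rw [← hcents]; exact hwit _ (List.getElem_mem _)
      · exact hreps (C.cents[i], C.wit[i]) (List.mem_iff_getElem.2 ⟨i, by simp [hi, hi'], by simp⟩)
    have hd := push s hs1
    have e1 : F.f s * g * F.f g1 * (F.f s * g)⁻¹ = F.f (conj s b) := by
      rw [F.f_conj (mem_centL.1 hs1).1 (mem_centL.1 hb).1, ← eb]
      group
    have hm := (base _ hd).snoc (mem_centL.1 hg1).1 (conj_lt s b) e1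
    rw [stages, hL, search, List.all_eq_true] at hs
    have h := hs _ hs2
    rw [Bool.or_eq_true] at h
    rcases h with h | h
    · simp [levOK_transfer hm hsrc.1] at h
    · refine finish _ ⟨s, hs1, rfl⟩ hd ?_
      have := search_sound (cents := C.cents) Ls gs (C.xs ++ [g1]) _ hm hsrc.2 (fun k hk => ?_) h
      · rwa [List.append_assoc, List.singleton_append, ← hgs] at this
      · have hk' : k ∈ centL C.xs := hmemx k (List.mem_append_right _ (hgs ▸ List.mem_cons_of_mem _ hk))
        obtain ⟨b', hb', e'⟩ := hd.map k hk'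
        exact ⟨(mem_centL.1 hk').1, b', hcents ▸ hb', (mem_centL.1 hb').1, e'⟩

/-- A certificate without targets excludes the map. -/
theorem false_of {C : Cert} (hC : C.check = true) (h0 : C.targets = []) {g : G} (hg : F.Emb g C.xs C.ys) :
    False := by
  obtain ⟨_, _, _, _, _, _, _, e, he, _⟩ := sound hC hg
  rw [h0] at he
  simp at he

end Cert

end CfsgLib.Spor.HSSylow
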