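import Cfsg.Agent.Lib.Spor.HSSylow.Code
import Cfsg.Agent.Lib.Invol.HeisFourModel

/-!
# Coordinates on the centralizer of `c` modulo `c`
-/

set_option autoImplicit false
set_option maxRecDepth 100000

namespace CfsgLib.Spor.HSSylow

open CfsgLib.Invol.HeisFour (H4)

/-- The codes of the lifts. -/
def liftTab : ℕ := 0xe272b9dc580c3e170b279048a4f058140200a252a9d45c0e3f178b67b058acf45a150281a2d2e9f44c063b158a6730188ce452110081e2f2f9fc48043a150a27100884e05010000

/-- The number of a triple. -/
def h4Num (p : H4) : ℕ :=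
  p.a.1.val + 2 * p.a.2.val + 4 * p.b.1.val + 8 * p.b.2.val + 16 * p.c.1.val + 32 * p.c.2.val

/-- The lift of a triple. -/
def lift4 (p : H4) : ℕ := Nat.land (Nat.shiftRight liftTab (Nat.mul 9 (h4Num p))) 511

theorem lift4_lt (p : H4) : lift4 p < 512 := lt_of_le_of_lt Nat.and_le_right (by norm_num : (511 : ℕ) < 512)

theorem lift4_mul : ∀ p q : H4, mul (inv (lift4 (p * q))) (mul (lift4 p) (lift4 q)) < 4 := by decide +kernel

theorem lift4_facts : ∀ p : H4, commB (lift4 p) 1 = true ∧ (lift4 p < 4 → p = 1) := by decide +kernel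

theorem lift4_surj : ((centL [1]).all fun a => decide (∃ p : H4, mul (inv (lift4 p)) a < 4)) = true := by decide +kernel

end CfsgLib.Spor.HSSylow
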