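import Cfsg.Agent.Lib.Spor.HSSylow.Isolated
import Cfsg.Agent.Lib.Spor.HSSylow.FactorData
import Cfsg.Agent.Lib.Invol.EightSolv.SideGlue
import Cfsg.Agent.Lib.Invol.L34Type.Base
import Cfsg.Agent.S0215

/-!
# The centralizer of the involution modulo its odd core

By the `Z*`-theorem `⟨c⟩` is normal in `C(z)` modulo the odd core; its centralizer modulo `⟨c⟩` has a Sylow
two-subgroup of type `L₃(4)`.
-/

set_option autoImplicit false
set_option maxRecDepth 100000
set_option linter.unusedSectionVars false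
set_option linter.style.haveILetI false

namespace CfsgLib.Spor.HSSylow

open Subgroup
open CfsgLib.Invol.HeisFour (H4)

namespace Frame

universe u

variable {G : Type u} [Group G] [Finite G] (F : Frame G)

/-- The centralizer of `z` modulo its odd core. -/
abbrev Cb : Type u := ↥(F.C [2]) ⧸ Cfsg.pPrimeCore 2 ↥(F.C [2])

/-- The quotient map. -/
def qmap : ↥(F.C [2]) →* F.Cb := QuotientGroup.mk' _

theorem qmap_surjective : Function.Surjective F.qmap := QuotientGroup.mk'_surjective _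

/-- A code in the quotient. -/
def qb (a : ℕ) : F.Cb := if h : a < 512 then F.qmap ⟨F.f a, F.z_mem_C h⟩ else 1

theorem qb_eq {a : ℕ} (h : a < 512) : F.qb a = F.qmap ⟨F.f a, F.z_mem_C h⟩ := dif_pos h

theorem qb_mul {a b : ℕ} (ha : a < 512) (hb : b < 512) : F.qb (mul a b) = F.qb a * F.qb b := by
  rw [F.qb_eq ha, F.qb_eq hb, F.qb_eq (mul_lt a b), ← _root_.map_mul]
  congr 1
  exact Subtype.ext (F.map_mul ha hb)

theorem qb_zero : F.qb 0 = 1 := by
  rw [F.qb_eq (by norm_num), ← _root_.map_one F.qmap]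
  congr 1
  exact Subtype.ext F.f_zero

theorem qb_inv {a : ℕ} (ha : a < 512) : F.qb (inv a) = (F.qb a)⁻¹ := by
  have h := F.qb_mul ha (inv_lt a)
  rw [mul_inv' ha, F.qb_zero] at h
  exact eq_inv_of_mul_eq_one_right h.symm

theorem qb_conj {s x : ℕ} (hs : s < 512) (hx : x < 512) : F.qb (conj s x) = F.qb s * F.qb x * (F.qb s)⁻¹ := by
  rw [conj, F.qb_mul (mul_lt _ _) (inv_lt _), F.qb_mul hs hx, F.qb_inv hs]

theorem qb_eq_one {a : ℕ} (ha : a < 512) : F.qb a = 1 ↔ a = 0 := by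
  refine ⟨fun h => ?_, fun h => h ▸ F.qb_zero⟩
  rw [F.qb_eq ha] at h
  have hm : (⟨F.f a, F.z_mem_C ha⟩ : F.C [2]) ∈ Cfsg.pPrimeCore 2 ↥(F.C [2]) := (QuotientGroup.eq_one_iff _).1 h
  obtain ⟨k, hk⟩ := F.T.2 ⟨F.f a, F.mem ha⟩
  have hk' : F.f a ^ 2 ^ k = 1 := congrArg Subtype.val hk
  have h1 : orderOf (F.f a) ∣ Nat.card (Cfsg.pPrimeCore 2 ↥(F.C [2])) := by
    have h1 := Subgroup.orderOf_dvd_natCard _ hm
    rwa [← Subgroup.orderOf_coe] at h1
  refine (F.f_eq_one ha).1 (orderOf_eq_one_iff.1 (Nat.eq_one_of_dvd_coprimes ?_ h1 (orderOf_dvd_of_pow_eq_one hk')))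
  exact Nat.Coprime.pow_right k (CfsgLib.Coprime.pPrimeCore_coprime Nat.prime_two)

theorem qb_inj {a b : ℕ} (ha : a < 512) (hb : b < 512) (h : F.qb a = F.qb b) : a = b := by
  have h1 : F.qb (mul a (inv b)) = 1 := by rw [F.qb_mul ha (inv_lt b), F.qb_inv hb, h, mul_inv_cancel]
  have h2 := (F.qb_eq_one (mul_lt _ _)).1 h1
  have h3 : mul (mul a (inv b)) b = mul 0 b := by rw [h2]
  rwa [mul_assoc' ha (inv_lt b) hb, inv_mul' hb, mul_zero' ha, zero_mul' hb] at h3

theorem qb_one_sq : F.qb 1 * F.qb 1 = F.qb 2 := (F.qb_mul (by norm_num) (by norm_num)).symm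

theorem qb_three : F.qb 3 = (F.qb 1)⁻¹ := by
  rw [← F.qb_inv (by norm_num), show inv 1 = 3 by decide +kernel]

theorem two_central_qb (x : F.Cb) : x * F.qb 2 = F.qb 2 * x := by
  obtain ⟨g, rfl⟩ := F.qmap_surjective x
  rw [F.qb_eq (by norm_num), ← _root_.map_mul, ← _root_.map_mul]
  congr 1
  exact Subtype.ext (F.mem_C_singleton.1 g.2)

theorem core_Cb : Cfsg.oddCore F.Cb = ⊥ := CfsgLib.Coprime.pPrimeCore_quotient_eq_bot Nat.prime_two

/-- **`⟨c⟩` is normal modulo the core** -/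
theorem c_normal (x : F.Cb) : x * F.qb 1 * x⁻¹ = F.qb 1 ∨ x * F.qb 1 * x⁻¹ = F.qb 3 := by
  classical
  haveI : Fact (Nat.Prime 2) := ⟨Nat.prime_two⟩
  obtain ⟨g, rfl⟩ := F.qmap_surjective x
  let zC : ↥(F.C [2]) := ⟨F.f 2, F.z_mem_C (by norm_num)⟩
  let cC : ↥(F.C [2]) := ⟨F.f 1, F.z_mem_C (by norm_num)⟩
  have hzc : ∀ y : ↥(F.C [2]), y * zC = zC * y := fun y => Subtype.ext (F.mem_C_singleton.1 y.2)
  have hzsq : zC * zC = 1 := Subtype.ext (by
    show F.f 2 * F.f 2 = 1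
    rw [← F.map_mul (by norm_num) (by norm_num), show mul 2 2 = 0 by decide +kernel, F.f_zero])
  haveI hZn : (zpowers zC).Normal := ⟨fun n hn y => by
    obtain ⟨i, rfl⟩ := mem_zpowers_iff.1 hn
    rw [(Commute.zpow_right (show Commute y zC from hzc y) i).eq, mul_inv_cancel_right]
    exact hn⟩
  let P : Sylow 2 ↥(F.C [2]) := F.T.subtype F.T_le_C
  let P' : Sylow 2 (↥(F.C [2]) ⧸ zpowers zC) := P.mapSurjective (QuotientGroup.mk'_surjective _)
  let u : ↥(F.C [2]) ⧸ zpowers zC := QuotientGroup.mk' _ cC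
  have hmemz : ∀ {y : ↥(F.C [2])}, y ∈ zpowers zC → y = 1 ∨ y = zC := fun hy =>
    CfsgLib.ProdFusion.mem_zpowers_invol hzsq hy
  have hu : orderOf u = 2 := by
    refine orderOf_eq_prime ?_ ?_
    · rw [pow_two, ← _root_.map_mul, QuotientGroup.mk'_apply, QuotientGroup.eq_one_iff,
        show cC * cC = zC from Subtype.ext F.c_sq]
      exact mem_zpowers _
    · intro h
      rcases hmemz ((QuotientGroup.eq_one_iff _).1 h) with h' | h'
      · exact absurd ((F.f_eq_one (by norm_num)).1 (congrArg Subtype.val h')) (by norm_num)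
      · exact absurd (F.inj (by norm_num) (by norm_num) (congrArg Subtype.val h')) (by norm_num)
  have huP : u ∈ P' := ⟨cC, mem_subgroupOf.2 (F.mem (by norm_num)), rfl⟩
  have hiso : ∀ y : ↥(F.C [2]) ⧸ zpowers zC, y * u * y⁻¹ ∈ P' → y * u * y⁻¹ = u := by
    intro y hy
    obtain ⟨h, rfl⟩ := QuotientGroup.mk'_surjective _ y
    obtain ⟨t, ht, hte⟩ := hy
    have ht' : (t : G) ∈ (F.T : Subgroup G) := mem_subgroupOf.1 ht
    have e : (h * cC * h⁻¹) * t⁻¹ ∈ zpowers zC := by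
      rw [← QuotientGroup.eq_one_iff, ← QuotientGroup.mk'_apply, _root_.map_mul, _root_.map_inv, hte]
      rw [_root_.map_mul, _root_.map_mul, _root_.map_inv, mul_inv_cancel]
    have hT : ((h * cC * h⁻¹ : ↥(F.C [2])) : G) ∈ (F.T : Subgroup G) := by
      have h1 : ((h * cC * h⁻¹ * t⁻¹ : ↥(F.C [2])) : G) ∈ (F.T : Subgroup G) := by
        rcases hmemz e with h' | h' <;> rw [h']
        · exact one_mem _
        · exact F.mem (by norm_num)
      have h2 := mul_mem h1 ht'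
      simpa using h2
    obtain ⟨a, ha, hae⟩ := F.surj _ hT
    rw [← _root_.map_inv, ← _root_.map_mul, ← _root_.map_mul]
    show QuotientGroup.mk' _ (h * cC * h⁻¹) = QuotientGroup.mk' _ cC
    rcases F.c_isolated h.2 ha hae.symm with rfl | rfl
    · rw [show h * cC * h⁻¹ = cC from Subtype.ext hae.symm]
    · rw [show h * cC * h⁻¹ = cC * zC from Subtype.ext (by
        rw [show ((h * cC * h⁻¹ : ↥(F.C [2])) : G) = F.f 3 from hae.symm, show 3 = mul 1 2 by decide +kernel]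
        exact F.map_mul (by norm_num) (by norm_num)), _root_.map_mul,
        show QuotientGroup.mk' (zpowers zC) zC = 1 from (QuotientGroup.eq_one_iff _).2 (mem_zpowers _), mul_one]
  obtain ⟨N, hN, hNo, hcomm⟩ := Cfsg.Agent.S0215.result P' u hu huP hiso
  haveI := hN
  -- the image in `Cb` modulo `z`
  haveI hZbn : (zpowers (F.qb 2)).Normal := ⟨fun n hn y => by
    obtain ⟨i, rfl⟩ := mem_zpowers_iff.1 hn
    rw [(Commute.zpow_right (show Commute y (F.qb 2) from F.two_central_qb y) i).eq, mul_inv_cancel_right]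
    exact hn⟩
  let φ : ↥(F.C [2]) →* F.Cb ⧸ zpowers (F.qb 2) := (QuotientGroup.mk' _).comp F.qmap
  have hφz : zpowers zC ≤ φ.ker := by
    rw [zpowers_le, MonoidHom.mem_ker]
    show QuotientGroup.mk' _ (F.qmap zC) = 1
    rw [QuotientGroup.mk'_apply, QuotientGroup.eq_one_iff, ← F.qb_eq (by norm_num)]
    exact mem_zpowers _
  let ψ := QuotientGroup.lift (zpowers zC) φ hφz
  have hsurj : Function.Surjective ψ := by
    intro w
    obtain ⟨v, rfl⟩ := QuotientGroup.mk'_surjective _ w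
    obtain ⟨y, rfl⟩ := F.qmap_surjective v
    exact ⟨QuotientGroup.mk' _ y, rfl⟩
  have hO : Cfsg.oddCore (F.Cb ⧸ zpowers (F.qb 2)) = ⊥ := by
    refine CfsgLib.Invol.EightSolv.oddCore_quotient_two_central F.core_Cb _ (fun n hn y => ?_) ?_
    · obtain ⟨i, rfl⟩ := mem_zpowers_iff.1 hn
      exact (Commute.zpow_right (show Commute y (F.qb 2) from F.two_central_qb y) i).eq
    · refine IsPGroup.of_card (n := 1) ?_
      rw [Nat.card_zpowers, pow_one]
      refine orderOf_eq_prime ?_ fun h => absurd ((F.qb_eq_one (by norm_num)).1 h) (by norm_num)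
      rw [pow_two, ← F.qb_mul (by norm_num) (by norm_num), show mul 2 2 = 0 by decide +kernel, F.qb_zero]
  haveI : (N.map ψ).Normal := hN.map ψ hsurj
  have hbot : N.map ψ = ⊥ := by
    rw [← le_bot_iff, ← hO]
    refine CfsgLib.Coprime.le_pPrimeCore (CfsgLib.ProdFusion.odd_iff_coprime.1 ?_)
    exact hNo.of_dvd_nat (Subgroup.card_map_dvd _ _)
  have h1 := mem_map_of_mem ψ (hcomm (QuotientGroup.mk' _ g))
  rw [hbot, mem_bot] at h1
  have h2 : (QuotientGroup.mk' (zpowers (F.qb 2))) (F.qmap (cC * g * cC⁻¹ * g⁻¹)) = 1 := h1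
  rw [QuotientGroup.mk'_apply, QuotientGroup.eq_one_iff] at h2
  have hcc : F.qmap cC = F.qb 1 := (F.qb_eq (by norm_num)).symm
  rw [_root_.map_mul, _root_.map_mul, _root_.map_mul, _root_.map_inv, _root_.map_inv, hcc] at h2
  have h22 : F.qb 2 * F.qb 2 = 1 := by
    rw [← F.qb_mul (by norm_num) (by norm_num), show mul 2 2 = 0 by decide +kernel, F.qb_zero]
  rcases CfsgLib.ProdFusion.mem_zpowers_invol h22 h2 with h | h
  · left
    rw [mul_inv_eq_one, mul_inv_eq_iff_eq_mul] at h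
    rw [← h, mul_inv_cancel_right]
  · right
    rw [mul_inv_eq_iff_eq_mul, mul_inv_eq_iff_eq_mul] at h
    have h' : F.qmap g * F.qb 1 * (F.qmap g)⁻¹ = (F.qb 2)⁻¹ * F.qb 1 := by
      rw [eq_inv_mul_iff_mul_eq, ← mul_assoc, ← mul_assoc, ← h, mul_inv_cancel_right]
    rw [h', ← eq_inv_of_mul_eq_one_left h22, F.qb_three, eq_inv_iff_mul_eq_one, mul_assoc, F.qb_one_sq, h22]

/-- The centralizer of `c` modulo the core. -/
def C1b : Subgroup F.Cb := centralizer {F.qb 1}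

theorem mem_C1b {x : F.Cb} : x ∈ F.C1b ↔ x * F.qb 1 = F.qb 1 * x := mem_centralizer_singleton_iff

theorem qb_mem_C1b {a : ℕ} (ha : a < 512) : F.qb a ∈ F.C1b ↔ a ∈ centL [1] := by
  rw [F.mem_C1b, ← F.qb_mul ha (by norm_num), ← F.qb_mul (by norm_num) ha, mem_centL]
  simp only [List.forall_mem_singleton]
  exact ⟨fun h => ⟨ha, F.qb_inj (mul_lt _ _) (mul_lt _ _) h⟩, fun h => by rw [h.2]⟩

theorem exists_inverting : ∃ s < 512, F.qb s * F.qb 1 * (F.qb s)⁻¹ = F.qb 3 := by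
  have h : ((List.range 512).any fun s => Nat.beq (conj s 1) 3) = true := by decide +kernel
  simp only [List.any_eq_true, List.mem_range] at h
  obtain ⟨s, hs, e⟩ := h
  exact ⟨s, hs, by rw [← F.qb_conj hs (by norm_num), Nat.eq_of_beq_eq_true e]⟩

instance C1b_normal : F.C1b.Normal := ⟨fun n hn g => by
  rw [F.mem_C1b] at hn ⊢
  have h := F.c_normal g⁻¹
  rw [inv_inv] at h
  have key : ∀ w, g⁻¹ * F.qb 1 * g = w → n * w = w * n → g * n * g⁻¹ * F.qb 1 = F.qb 1 * (g * n * g⁻¹) := by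
    intro w hw hnw
    rw [show F.qb 1 = g * w * g⁻¹ by rw [← hw]; group,
      show g * n * g⁻¹ * (g * w * g⁻¹) = g * (n * w) * g⁻¹ by group, hnw]
    group
  rcases h with h | h
  · exact key _ h hn
  · exact key _ h (by rw [F.qb_three]; exact (Commute.inv_right (show Commute n (F.qb 1) from hn)).eq)⟩

theorem index_C1b : F.C1b.index = 2 := by
  obtain ⟨s, hs, e⟩ := F.exists_inverting
  have h31 : F.qb 3 ≠ F.qb 1 := fun h => absurd (F.qb_inj (by norm_num) (by norm_num) h) (by norm_num)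
  refine index_eq_two_iff.2 ⟨F.qb s, fun b => ?_⟩
  have hb : b * F.qb s ∈ F.C1b ↔ b * F.qb 3 * b⁻¹ = F.qb 1 := by
    rw [F.mem_C1b, ← e, ← mul_inv_eq_iff_eq_mul]
    rw [show b * (F.qb s * F.qb 1 * (F.qb s)⁻¹) * b⁻¹ = b * F.qb s * F.qb 1 * (b * F.qb s)⁻¹ by group]
  have hb' : b ∈ F.C1b ↔ b * F.qb 1 * b⁻¹ = F.qb 1 := by rw [F.mem_C1b, mul_inv_eq_iff_eq_mul]
  rw [hb, hb', F.qb_three]
  rcases F.c_normal b with h | h
  · refine Or.inr ⟨h, fun h' => h31 ?_⟩
    rw [← conj_inv, h] at h'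
    rw [F.qb_three, h']
  · refine Or.inl ⟨?_, fun h' => h31 (h.symm.trans h')⟩
    rw [← conj_inv, h, F.qb_three, inv_inv]

/-- The subgroup generated by `c`, inside its centralizer. -/
def cSub : Subgroup ↥F.C1b := zpowers ⟨F.qb 1, F.mem_C1b.2 rfl⟩

theorem cSub_central {n : ↥F.C1b} (hn : n ∈ F.cSub) (y : ↥F.C1b) : y * n = n * y := by
  obtain ⟨i, rfl⟩ := mem_zpowers_iff.1 hn
  exact (Commute.zpow_right (show Commute y ⟨F.qb 1, F.mem_C1b.2 rfl⟩ from Subtype.ext (F.mem_C1b.1 y.2)) i).eq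

instance cSub_normal : F.cSub.Normal := ⟨fun n hn g => by rwa [F.cSub_central hn, mul_inv_cancel_right]⟩

theorem card_cSub : Nat.card F.cSub = 4 := by
  rw [cSub, Nat.card_zpowers, ← Subgroup.orderOf_coe]
  refine orderOf_eq_prime_pow (p := 2) (n := 1) ?_ ?_
  · rw [pow_one, pow_two, F.qb_one_sq, F.qb_eq_one (by norm_num)]
    norm_num
  · rw [show (2 : ℕ) ^ (1 + 1) = 2 + 2 from rfl, pow_add, pow_two, F.qb_one_sq,
      ← F.qb_mul (by norm_num) (by norm_num), show mul 2 2 = 0 by decide +kernel, F.qb_zero]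

theorem mem_cSub_qb {a : ℕ} (ha : a < 4) (h : F.qb a ∈ F.C1b) : (⟨F.qb a, h⟩ : ↥F.C1b) ∈ F.cSub := by
  refine mem_zpowers_iff.2 ⟨a, Subtype.ext ?_⟩
  show ((⟨F.qb 1, _⟩ : ↥F.C1b) ^ (a : ℤ) : ↥F.C1b).1 = F.qb a
  rw [zpow_natCast, Subgroup.coe_pow]
  show F.qb 1 ^ a = F.qb a
  interval_cases a
  · rw [pow_zero, F.qb_zero]
  · rw [pow_one]
  · rw [pow_two, F.qb_one_sq]
  · rw [pow_succ, pow_two, F.qb_one_sq, ← F.qb_mul (by norm_num) (by norm_num), show mul 2 1 = 3 by decide +kernel]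

/-- The quotient of the centralizer of `c`. -/
abbrev Db : Type u := ↥F.C1b ⧸ F.cSub

theorem lift4_mem (p : H4) : F.qb (lift4 p) ∈ F.C1b :=
  (F.qb_mem_C1b (lift4_lt p)).2 (mem_centL.2 ⟨lift4_lt p, fun z hz => by
    rw [List.mem_singleton.1 hz]; exact commB_iff.1 (lift4_facts p).1⟩)

/-- The coordinates. -/
def dHom : H4 →* F.Db := MonoidHom.mk' (fun p => QuotientGroup.mk' _ ⟨F.qb (lift4 p), F.lift4_mem p⟩) fun p q => by
  rw [← _root_.map_mul, QuotientGroup.mk'_apply, QuotientGroup.mk'_apply, QuotientGroup.eq]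
  have e : F.qb (mul (inv (lift4 (p * q))) (mul (lift4 p) (lift4 q))) =
      (F.qb (lift4 (p * q)))⁻¹ * (F.qb (lift4 p) * F.qb (lift4 q)) := by
    rw [F.qb_mul (inv_lt _) (mul_lt _ _), F.qb_inv (lift4_lt _), F.qb_mul (lift4_lt p) (lift4_lt q)]
  have hmem : F.qb (mul (inv (lift4 (p * q))) (mul (lift4 p) (lift4 q))) ∈ F.C1b := by
    rw [e]
    exact mul_mem (inv_mem (F.lift4_mem _)) (mul_mem (F.lift4_mem p) (F.lift4_mem q))
  convert F.mem_cSub_qb (lift4_mul p q) hmem using 1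
  exact Subtype.ext e.symm

theorem dHom_apply (p : H4) : F.dHom p = QuotientGroup.mk' _ ⟨F.qb (lift4 p), F.lift4_mem p⟩ := rfl

theorem dHom_injective : Function.Injective F.dHom := by
  refine (injective_iff_map_eq_one _).2 fun p hp => (lift4_facts p).2 ?_
  rw [dHom_apply, QuotientGroup.mk'_apply, QuotientGroup.eq_one_iff] at hp
  obtain ⟨i, hi⟩ := mem_zpowers_iff.1 hp
  have h4 : (⟨F.qb 1, F.mem_C1b.2 rfl⟩ : ↥F.C1b) ^ 4 = 1 := by
    have := F.card_cSub
    rw [cSub, Nat.card_zpowers] at this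
    rw [← this, pow_orderOf_eq_one]
  have hj : (i % 4).toNat < 4 := by omega
  have he : (⟨F.qb 1, F.mem_C1b.2 rfl⟩ : ↥F.C1b) ^ i = (⟨F.qb 1, F.mem_C1b.2 rfl⟩ : ↥F.C1b) ^ (i % 4).toNat := by
    rw [← zpow_natCast, Int.toNat_of_nonneg (by omega)]
    conv_lhs => rw [show i = i % 4 + 4 * (i / 4) by omega, zpow_add, zpow_mul,
      show (4 : ℤ) = ((4 : ℕ) : ℤ) from rfl, zpow_natCast, h4, one_zpow, mul_one]
    rfl
  rw [he] at hi
  have h1 := congrArg Subtype.val hi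
  rw [Subgroup.coe_pow] at h1
  have hq : F.qb (lift4 p) = F.qb (i % 4).toNat := by
    rw [show F.qb (lift4 p) = F.qb 1 ^ (i % 4).toNat from h1.symm]
    interval_cases (i % 4).toNat
    · rw [pow_zero, F.qb_zero]
    · rw [pow_one]
    · rw [pow_two, F.qb_one_sq]
    · rw [pow_succ, pow_two, F.qb_one_sq, ← F.qb_mul (by norm_num) (by norm_num), show mul 2 1 = 3 by decide +kernel]
  rw [F.qb_inj (lift4_lt p) (by omega) hq]
  exact hj

theorem card_range_dHom : Nat.card F.dHom.range = 64 := by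
  rw [← Nat.card_congr (MonoidHom.ofInjective F.dHom_injective).toEquiv, CfsgLib.Invol.HeisFour.card_H4]

theorem not_dvd_index_dHom : ¬ 2 ∣ F.dHom.range.index := by
  haveI : Fact (Nat.Prime 2) := ⟨Nat.prime_two⟩
  let P : Sylow 2 F.Cb := (F.T.subtype F.T_le_C).mapSurjective F.qmap_surjective
  have hP : Nat.card (P : Subgroup F.Cb) = 512 := by
    let h : ↥(F.T : Subgroup G) →* F.Cb := F.qmap.comp (Subgroup.inclusion F.T_le_C)
    have hh : (P : Subgroup F.Cb) = h.range := by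
      ext x
      constructor
      · rintro ⟨y, hy, rfl⟩
        exact ⟨⟨y, mem_subgroupOf.1 hy⟩, rfl⟩
      · rintro ⟨y, rfl⟩
        exact ⟨Subgroup.inclusion F.T_le_C y, mem_subgroupOf.2 y.2, rfl⟩
    rw [hh, ← F.card_T]
    refine (Nat.card_congr (MonoidHom.ofInjective (f := h) ((injective_iff_map_eq_one _).2 fun y hy => ?_)).toEquiv).symm
    obtain ⟨a, ha, e⟩ := F.surj y y.2
    have : F.qb a = 1 := by
      rw [F.qb_eq ha, ← hy]
      show F.qmap _ = F.qmap _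
      congr 1
      exact Subtype.ext e
    rw [(F.qb_eq_one ha).1 this, F.f_zero] at e
    exact Subtype.ext e.symm
  have h1 : Nat.card F.Cb = 512 * (P : Subgroup F.Cb).index := by rw [← (P : Subgroup F.Cb).card_mul_index, hP]
  have h2 : Nat.card F.Cb = Nat.card F.C1b * 2 := by rw [← F.C1b.card_mul_index, F.index_C1b]
  have h3 : Nat.card ↥F.C1b = 4 * Nat.card F.Db := by
    rw [Subgroup.card_eq_card_quotient_mul_card_subgroup F.cSub, F.card_cSub, mul_comm]
  have h4 := F.dHom.range.card_mul_index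
  rw [F.card_range_dHom] at h4
  have h5 : (P : Subgroup F.Cb).index = F.dHom.range.index := by omega
  rw [← h5]
  exact P.not_dvd_index

/-- **The frame of type `L₃(4)`** -/
noncomputable def dFrame : CfsgLib.Invol.L34Type.Frame F.Db :=
  haveI : Fact (Nat.Prime 2) := ⟨Nat.prime_two⟩
  { T := (IsPGroup.of_card (n := 6) (by rw [F.card_range_dHom]; rfl) : IsPGroup 2 F.dHom.range).toSylow
      F.not_dvd_index_dHom
    e := (MonoidHom.ofInjective F.dHom_injective).trans (MulEquiv.subgroupCongr rfl) }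

theorem dFrame_hom (p : H4) : F.dFrame.hom p = F.dHom p := rfl

theorem core_Db : Cfsg.oddCore F.Db = ⊥ := by
  have hC : Cfsg.oddCore ↥F.C1b = ⊥ := by
    have h := CfsgLib.Coprime.pPrimeCore_map_subtype_eq Nat.prime_two F.C1b
    rw [show Cfsg.pPrimeCore 2 F.Cb = ⊥ from F.core_Cb, bot_inf_eq] at h
    exact (Subgroup.map_eq_bot_iff_of_injective _ F.C1b.subtype_injective).1 h
  exact CfsgLib.Invol.EightSolv.oddCore_quotient_two_central hC F.cSub (fun n hn y => F.cSub_central hn y)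
    (IsPGroup.of_card (n := 2) (by rw [F.card_cSub]; rfl))

end Frame

end CfsgLib.Spor.HSSylow
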