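import Cfsg.Agent.Lib.Spor.HSSylow.Code
import Mathlib.GroupTheory.Sylow

/-!
# A Sylow two-subgroup with codes, extreme elements

A frame labels a Sylow two-subgroup by the code of order 512. A list of codes is extreme when the codes
commuting with all of it give a Sylow two-subgroup of the common centralizer; every element can be carried
to an extreme one, taking its centralizer in the Sylow subgroup along.
-/

set_option autoImplicit false
set_option linter.unusedSectionVars false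
set_option linter.style.haveILetI false

namespace CfsgLib.Spor.HSSylow

open Subgroup

/-- A Sylow two-subgroup labelled by codes. -/
structure Frame (G : Type*) [Group G] where
  /-- the Sylow subgroup -/
  T : Sylow 2 G
  /-- the labels -/
  f : ℕ → G
  map_mul : ∀ {a b : ℕ}, a < 512 → b < 512 → f (mul a b) = f a * f b
  inj : ∀ {a b : ℕ}, a < 512 → b < 512 → f a = f b → a = b
  mem : ∀ {a : ℕ}, a < 512 → f a ∈ (T : Subgroup G)
  surj : ∀ x ∈ (T : Subgroup G), ∃ a < 512, f a = x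

theorem mem_zip_self : ∀ {zs : List ℕ} {p : ℕ × ℕ}, p ∈ zs.zip zs → p.1 ∈ zs ∧ p.2 = p.1
  | [], p, h => by simp at h
  | z :: zs, p, h => by
    rw [List.zip_cons_cons, List.mem_cons] at h
    rcases h with rfl | h
    · exact ⟨List.mem_cons_self, rfl⟩
    · exact ⟨List.mem_cons_of_mem _ (mem_zip_self h).1, (mem_zip_self h).2⟩

namespace Frame

variable {G : Type*} [Group G] (F : Frame G)

theorem f_zero : F.f 0 = 1 := by
  have h := F.map_mul (a := 0) (b := 0) (by norm_num) (by norm_num)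
  rw [zero_mul' (by norm_num)] at h
  exact left_eq_mul.1 h

theorem f_inv {a : ℕ} (ha : a < 512) : F.f (inv a) = (F.f a)⁻¹ := by
  have h := F.map_mul ha (inv_lt a)
  rw [mul_inv' ha, F.f_zero] at h
  exact eq_inv_of_mul_eq_one_right h.symm

theorem f_conj {g x : ℕ} (hg : g < 512) (hx : x < 512) : F.f (conj g x) = F.f g * F.f x * (F.f g)⁻¹ := by
  rw [conj, F.map_mul (mul_lt _ _) (inv_lt _), F.map_mul hg hx, F.f_inv hg]

theorem f_eq_one {a : ℕ} (ha : a < 512) : F.f a = 1 ↔ a = 0 :=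
  ⟨fun h => F.inj ha (by norm_num) (h.trans F.f_zero.symm), fun h => h ▸ F.f_zero⟩

theorem f_comm {a b : ℕ} (ha : a < 512) (hb : b < 512) : F.f a * F.f b = F.f b * F.f a ↔ mul a b = mul b a := by
  rw [← F.map_mul ha hb, ← F.map_mul hb ha]
  exact ⟨fun h => F.inj (mul_lt _ _) (mul_lt _ _) h, fun h => by rw [h]⟩

/-- The elements of a list as a set. -/
def pts (zs : List ℕ) : Set G := {g | ∃ z ∈ zs, F.f z = g}

/-- The common centralizer of a list. -/
def C (zs : List ℕ) : Subgroup G := centralizer (F.pts zs)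

theorem mem_C {zs : List ℕ} {g : G} : g ∈ F.C zs ↔ ∀ z ∈ zs, g * F.f z = F.f z * g := by
  refine ⟨fun h z hz => (mem_centralizer_iff.1 h _ ⟨z, hz, rfl⟩).symm, fun h => mem_centralizer_iff.2 ?_⟩
  rintro _ ⟨z, hz, rfl⟩
  exact (h z hz).symm

theorem C_nil : F.C [] = ⊤ := top_le_iff.1 fun g _ => F.mem_C.2 fun _ h => absurd h (List.not_mem_nil)

theorem mem_C_cons {y : ℕ} {zs : List ℕ} {g : G} :
    g ∈ F.C (y :: zs) ↔ g * F.f y = F.f y * g ∧ g ∈ F.C zs := by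
  simp only [F.mem_C, List.forall_mem_cons]

theorem mem_C_singleton {y : ℕ} {g : G} : g ∈ F.C [y] ↔ g * F.f y = F.f y * g := by
  simp only [F.mem_C, List.forall_mem_singleton]

theorem C_singleton (y : ℕ) : F.C [y] = centralizer ({F.f y} : Set G) := by
  ext g; rw [F.mem_C_singleton, mem_centralizer_singleton_iff]

theorem f_mem_C {zs : List ℕ} (hzs : ∀ z ∈ zs, z < 512) {a : ℕ} (ha : a < 512) :
    F.f a ∈ F.C zs ↔ a ∈ centL zs := by
  rw [F.mem_C, mem_centL]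
  exact ⟨fun h => ⟨ha, fun z hz => (F.f_comm ha (hzs z hz)).1 (h z hz)⟩,
    fun h z hz => (F.f_comm ha (hzs z hz)).2 (h.2 z hz)⟩

/-- The part of the Sylow subgroup centralizing a list. -/
def TC (zs : List ℕ) : Subgroup G := (F.T : Subgroup G) ⊓ F.C zs

theorem isPGroup_TC (zs : List ℕ) : IsPGroup 2 (F.TC zs) := F.T.2.to_le inf_le_left

theorem mem_TC {zs : List ℕ} (hzs : ∀ z ∈ zs, z < 512) {g : G} :
    g ∈ F.TC zs ↔ ∃ a ∈ centL zs, F.f a = g := by
  refine ⟨fun h => ?_, ?_⟩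
  · obtain ⟨a, ha, rfl⟩ := F.surj g (Subgroup.mem_inf.1 h).1
    exact ⟨a, (F.f_mem_C hzs ha).1 (Subgroup.mem_inf.1 h).2, rfl⟩
  · rintro ⟨a, ha, rfl⟩
    exact Subgroup.mem_inf.2 ⟨F.mem (mem_centL.1 ha).1, (F.f_mem_C hzs (mem_centL.1 ha).1).2 ha⟩

theorem card_TC {zs : List ℕ} (hzs : ∀ z ∈ zs, z < 512) : Nat.card (F.TC zs) = (centL zs).length := by
  have e : Nat.card {a // a ∈ centL zs} = (centL zs).length := by
    rw [Nat.subtype_card (centL zs).toFinset (fun _ => List.mem_toFinset)]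
    exact List.toFinset_card_of_nodup (nodup_centL zs)
  rw [← e]
  refine (Nat.card_eq_of_bijective (fun a : {a // a ∈ centL zs} =>
    (⟨F.f a, (F.mem_TC hzs).2 ⟨a, a.2, rfl⟩⟩ : F.TC zs)) ⟨fun a b h => ?_, fun g => ?_⟩).symm
  · exact Subtype.ext (F.inj (mem_centL.1 a.2).1 (mem_centL.1 b.2).1 (congrArg Subtype.val h))
  · obtain ⟨a, ha, e⟩ := (F.mem_TC hzs).1 g.2
    exact ⟨⟨a, ha⟩, Subtype.ext e⟩

theorem card_T : Nat.card (F.T : Subgroup G) = 512 := by
  have h := F.card_TC (zs := []) (by simp)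
  rw [show F.TC [] = (F.T : Subgroup G) by rw [TC, C_nil, inf_top_eq]] at h
  rw [h]
  simp [centL]

/-- A list is extreme when its part of the Sylow subgroup is Sylow in its centralizer. -/
def Ext (zs : List ℕ) : Prop := ∀ R : Subgroup G, IsPGroup 2 R → R ≤ F.C zs → Nat.card R ≤ (centL zs).length

theorem ext_nil [Finite G] : F.Ext [] := fun R hR _ => by
  haveI : Fact (Nat.Prime 2) := ⟨Nat.prime_two⟩
  obtain ⟨Q, hQ⟩ := hR.exists_le_sylow
  calc Nat.card R ≤ Nat.card (Q : Subgroup G) := Subgroup.card_le_of_le hQ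
    _ = Nat.card (F.T : Subgroup G) := Nat.card_congr (Sylow.equiv Q F.T).toEquiv
    _ = 512 := F.card_T
    _ = (centL []).length := by simp [centL]

/-- A two-subgroup of the centralizer of an extreme list moves into the Sylow subgroup. -/
theorem Ext.conj_into [Finite G] {F : Frame G} {zs : List ℕ} (hzs : ∀ z ∈ zs, z < 512) (h : F.Ext zs)
    {R : Subgroup G} (hR : IsPGroup 2 R) (hRC : R ≤ F.C zs) :
    ∃ c ∈ F.C zs, ∀ r ∈ R, c * r * c⁻¹ ∈ (F.T : Subgroup G) := by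
  haveI : Fact (Nat.Prime 2) := ⟨Nat.prime_two⟩
  obtain ⟨Q, hQ⟩ := ((F.isPGroup_TC zs).of_equiv
    (subgroupOfEquivOfLe (inf_le_right : F.TC zs ≤ F.C zs)).symm).exists_le_sylow
  have hmap : (Q : Subgroup (F.C zs)).map (F.C zs).subtype = F.TC zs := by
    refine (eq_of_le_of_card_ge ?_ ?_).symm
    · intro x hx
      exact ⟨⟨x, (Subgroup.mem_inf.1 hx).2⟩, hQ (mem_subgroupOf.2 hx), rfl⟩
    · rw [F.card_TC hzs]
      exact h _ (Q.2.map _) (map_subtype_le _)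
  obtain ⟨Q', hQ'⟩ := (hR.of_equiv (subgroupOfEquivOfLe hRC).symm).exists_le_sylow
  obtain ⟨c, hc⟩ := MulAction.exists_smul_eq (F.C zs) Q' Q
  refine ⟨c, c.2, fun r hr => ?_⟩
  have h1 : c * ⟨r, hRC hr⟩ * c⁻¹ ∈ (Q : Subgroup (F.C zs)) := by
    rw [← hc, Sylow.coe_subgroup_smul]
    exact ⟨⟨r, hRC hr⟩, hQ' (mem_subgroupOf.2 hr), rfl⟩
  have h2 := mem_map_of_mem (F.C zs).subtype h1
  rw [hmap] at h2
  exact (Subgroup.mem_inf.1 h2).1

/-- An element carrying one list to another and the centralizer of the first in the Sylow subgroup along. -/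
structure Emb (g : G) (xs ys : List ℕ) : Prop where
  map : ∀ a ∈ centL xs, ∃ b ∈ centL ys, g * F.f a * g⁻¹ = F.f b
  pairs : ∀ p ∈ xs.zip ys, g * F.f p.1 * g⁻¹ = F.f p.2

theorem Emb.le {F : Frame G} {g : G} {xs ys : List ℕ} (h : F.Emb g xs ys) (hxs : ∀ z ∈ xs, z < 512)
    (hys : ∀ z ∈ ys, z < 512) : (centL xs).length ≤ (centL ys).length := by
  have hm : ((MulAut.conj g).toMonoidHom.comp (F.TC xs).subtype).range ≤ F.TC ys := by
    rintro _ ⟨⟨r, hr⟩, rfl⟩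
    obtain ⟨a, ha, rfl⟩ := (F.mem_TC hxs).1 hr
    obtain ⟨b, hb, e⟩ := h.map a ha
    exact (F.mem_TC hys).2 ⟨b, hb, e.symm⟩
  haveI : Finite (F.TC ys) := Nat.finite_of_card_ne_zero (by
    rw [F.card_TC hys]
    exact Nat.pos_iff_ne_zero.1 (List.length_pos_of_mem (mem_centL.2 ⟨(by norm_num : (0:ℕ) < 512),
      fun z hz => by rw [zero_mul' (hys z hz), mul_zero' (hys z hz)]⟩)))
  rw [← F.card_TC hxs, ← F.card_TC hys]
  refine le_trans (le_of_eq (Nat.card_congr (MonoidHom.ofInjective (f :=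
    (MulAut.conj g).toMonoidHom.comp (F.TC xs).subtype) fun a b e => ?_).toEquiv)) (Subgroup.card_le_of_le hm)
  exact Subtype.ext ((MulAut.conj g).injective e)

/-- every element is carried to an extreme one -/
theorem exists_extreme [Finite G] {zs : List ℕ} (hzs : ∀ z ∈ zs, z < 512) (h : F.Ext zs) {x : ℕ}
    (hx : x ∈ centL zs) :
    ∃ y ∈ centL zs, ∃ g ∈ F.C zs, F.Emb g (x :: zs) (y :: zs) ∧ F.Ext (y :: zs) := by
  haveI : Fact (Nat.Prime 2) := ⟨Nat.prime_two⟩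
  have hx5 := (mem_centL.1 hx).1
  have hxz : ∀ z ∈ x :: zs, z < 512 := by simp only [List.forall_mem_cons]; exact ⟨hx5, hzs⟩
  obtain ⟨Q, hQ⟩ := ((F.isPGroup_TC (x :: zs)).of_equiv
    (subgroupOfEquivOfLe (inf_le_right : F.TC (x :: zs) ≤ F.C (x :: zs))).symm).exists_le_sylow
  set R := (Q : Subgroup (F.C (x :: zs))).map (F.C (x :: zs)).subtype with hR
  have hRp : IsPGroup 2 R := Q.2.map _
  have hRz : R ≤ F.C zs := fun r hr => (F.mem_C_cons.1 (map_subtype_le _ hr)).2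
  have hxR : F.f x ∈ R := by
    have h1 : F.f x ∈ F.TC (x :: zs) := (F.mem_TC hxz).2 ⟨x, mem_centL.2 ⟨hx5, by
      simp only [List.forall_mem_cons, true_and]; exact (mem_centL.1 hx).2⟩, rfl⟩
    exact ⟨⟨_, (Subgroup.mem_inf.1 h1).2⟩, hQ (mem_subgroupOf.2 h1), rfl⟩
  obtain ⟨c, hc, hcT⟩ := h.conj_into hzs hRp hRz
  have hcR : c * F.f x * c⁻¹ ∈ F.TC zs := Subgroup.mem_inf.2 ⟨hcT _ hxR,
    mul_mem (mul_mem hc (hRz hxR)) (inv_mem hc)⟩
  obtain ⟨y, hy, hye⟩ := (F.mem_TC hzs).1 hcR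
  have hy5 := (mem_centL.1 hy).1
  have hyz : ∀ z ∈ y :: zs, z < 512 := by simp only [List.forall_mem_cons]; exact ⟨hy5, hzs⟩
  have key : ∀ r ∈ F.C (x :: zs), c * r * c⁻¹ ∈ F.C (y :: zs) := fun r hr => by
    obtain ⟨h1, h2⟩ := F.mem_C_cons.1 hr
    refine F.mem_C_cons.2 ⟨?_, mul_mem (mul_mem hc h2) (inv_mem hc)⟩
    rw [hye, show c * r * c⁻¹ * (c * F.f x * c⁻¹) = c * (r * F.f x) * c⁻¹ by group, h1]
    group
  refine ⟨y, hy, c, hc, ⟨fun a ha => ?_, ?_⟩, fun R' hR' hle => ?_⟩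
  · have h1 : F.f a ∈ F.TC (x :: zs) := (F.mem_TC hxz).2 ⟨a, ha, rfl⟩
    have hm : F.f a ∈ R := ⟨⟨_, (Subgroup.mem_inf.1 h1).2⟩, hQ (mem_subgroupOf.2 h1), rfl⟩
    have h2 : c * F.f a * c⁻¹ ∈ F.TC (y :: zs) := Subgroup.mem_inf.2 ⟨hcT _ hm, key _ (Subgroup.mem_inf.1 h1).2⟩
    obtain ⟨b, hb, e⟩ := (F.mem_TC hyz).1 h2
    exact ⟨b, hb, e.symm⟩
  · intro p hp
    rw [List.zip_cons_cons, List.mem_cons] at hp
    rcases hp with rfl | hp
    · exact hye.symm
    · obtain ⟨z, z'⟩ := p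
      obtain ⟨hz, he⟩ := mem_zip_self hp
      show c * F.f z * c⁻¹ = F.f z'
      rw [show z' = z from he, F.mem_C.1 hc z hz, mul_inv_cancel_right]
  · have hmap : R'.map (MulAut.conj c⁻¹).toMonoidHom ≤ F.C (x :: zs) := by
      rintro _ ⟨r, hr, rfl⟩
      obtain ⟨h1, h2⟩ := F.mem_C_cons.1 (hle hr)
      refine F.mem_C_cons.2 ⟨?_, ?_⟩
      · show c⁻¹ * r * c⁻¹⁻¹ * F.f x = F.f x * (c⁻¹ * r * c⁻¹⁻¹)
        rw [inv_inv, show F.f x = c⁻¹ * F.f y * c by rw [hye]; group,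
          show c⁻¹ * r * c * (c⁻¹ * F.f y * c) = c⁻¹ * (r * F.f y) * c by group, h1]
        group
      · show c⁻¹ * r * c⁻¹⁻¹ ∈ F.C zs
        exact mul_mem (mul_mem (inv_mem hc) h2) (inv_mem (inv_mem hc))
    obtain ⟨Q', hQ'⟩ := ((hR'.map _).of_equiv (subgroupOfEquivOfLe hmap).symm).exists_le_sylow
    calc Nat.card R' = Nat.card (R'.map (MulAut.conj c⁻¹).toMonoidHom) :=
          (Subgroup.card_map_of_injective (MulAut.conj c⁻¹).injective).symm
      _ = Nat.card ((R'.map (MulAut.conj c⁻¹).toMonoidHom).subgroupOf (F.C (x :: zs))) :=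
          (Nat.card_congr (subgroupOfEquivOfLe hmap).toEquiv).symm
      _ ≤ Nat.card (Q' : Subgroup (F.C (x :: zs))) := Subgroup.card_le_of_le hQ'
      _ = Nat.card (Q : Subgroup (F.C (x :: zs))) := Nat.card_congr (Sylow.equiv Q' Q).toEquiv
      _ = Nat.card R := (Subgroup.card_map_of_injective (F.C (x :: zs)).subtype_injective).symm
      _ ≤ (centL (y :: zs)).length := by
          rw [← F.card_TC hyz, ← Subgroup.card_map_of_injective (f := (MulAut.conj c).toMonoidHom)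
            (K := R) (MulAut.conj c).injective]
          refine Subgroup.card_le_of_le ?_
          rintro _ ⟨r, hr, rfl⟩
          exact Subgroup.mem_inf.2 ⟨hcT r hr, key r (map_subtype_le _ hr)⟩

/-- a conjugation onto an extreme element can be adjusted to carry the centralizer along -/
theorem conj_ext [Finite G] {zs : List ℕ} (hzs : ∀ z ∈ zs, z < 512) {x y : ℕ} (hx : x ∈ centL zs)
    (hy : y ∈ centL zs) (h : F.Ext (y :: zs)) {g : G} (hg : g ∈ F.C zs) (hgx : g * F.f x * g⁻¹ = F.f y) :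
    ∃ d ∈ F.C zs, F.Emb d (x :: zs) (y :: zs) := by
  haveI : Fact (Nat.Prime 2) := ⟨Nat.prime_two⟩
  have hxz : ∀ z ∈ x :: zs, z < 512 := by
    simp only [List.forall_mem_cons]; exact ⟨(mem_centL.1 hx).1, hzs⟩
  have hyz : ∀ z ∈ y :: zs, z < 512 := by
    simp only [List.forall_mem_cons]; exact ⟨(mem_centL.1 hy).1, hzs⟩
  have key : (F.TC (x :: zs)).map (MulAut.conj g).toMonoidHom ≤ F.C (y :: zs) := by
    rintro _ ⟨r, hr, rfl⟩
    obtain ⟨h1, h2⟩ := F.mem_C_cons.1 (Subgroup.mem_inf.1 hr).2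
    refine F.mem_C_cons.2 ⟨?_, mul_mem (mul_mem hg h2) (inv_mem hg)⟩
    show g * r * g⁻¹ * F.f y = F.f y * (g * r * g⁻¹)
    rw [← hgx, show g * r * g⁻¹ * (g * F.f x * g⁻¹) = g * (r * F.f x) * g⁻¹ by group, h1]
    group
  obtain ⟨c, hc, hcT⟩ := h.conj_into hyz ((F.isPGroup_TC _).map _) key
  obtain ⟨hc1, hc2⟩ := F.mem_C_cons.1 hc
  refine ⟨c * g, mul_mem hc2 hg, fun a ha => ?_, ?_⟩
  · have hm : g * F.f a * g⁻¹ ∈ (F.TC (x :: zs)).map (MulAut.conj g).toMonoidHom :=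
      ⟨F.f a, (F.mem_TC hxz).2 ⟨a, ha, rfl⟩, rfl⟩
    obtain ⟨b, hb, e⟩ := (F.mem_TC hyz).1
      (Subgroup.mem_inf.2 ⟨hcT _ hm, mul_mem (mul_mem hc (key hm)) (inv_mem hc)⟩)
    exact ⟨b, hb, by rw [e]; group⟩
  · intro p hp
    rw [List.zip_cons_cons, List.mem_cons] at hp
    rcases hp with rfl | hp
    · show c * g * F.f x * (c * g)⁻¹ = F.f y
      rw [show c * g * F.f x * (c * g)⁻¹ = c * (g * F.f x * g⁻¹) * c⁻¹ by group, hgx, hc1, mul_inv_cancel_right]
    · obtain ⟨z, z'⟩ := p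
      obtain ⟨hz, he⟩ := mem_zip_self hp
      show c * g * F.f z * (c * g)⁻¹ = F.f z'
      rw [show z' = z from he, show c * g * F.f z * (c * g)⁻¹ = c * (g * F.f z * g⁻¹) * c⁻¹ by group,
        F.mem_C.1 hg z hz, mul_inv_cancel_right, F.mem_C.1 hc2 z hz, mul_inv_cancel_right]

end Frame

end CfsgLib.Spor.HSSylow
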