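import Cfsg.Agent.Lib.Spor.HSSylow.Extreme
import Cfsg.Agent.Lib.Spor.HSSylow.Parts
import Cfsg.Agent.Lib.Spor.HSSylow.Cert.All
import Cfsg.Agent.Lib.ProdFusion.Basic
import Cfsg.Agent.Lib.Invol.NormalizerCriterion

/-!
# The element of order four centred in `R` is isolated in the centralizer of the involution

No element of the Sylow subgroup other than `c` and its inverse is conjugate to `c` in the centralizer of `z`.
-/

set_option autoImplicit false
set_option maxRecDepth 100000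
set_option linter.unusedSectionVars false
set_option linter.style.haveILetI false

namespace CfsgLib.Spor.HSSylow

open Subgroup

theorem sq_two_check : ((List.range 512).all fun n => !Nat.beq (mul n n) 2 ||
    (Nat.ble 9 (cls n) && Nat.ble (cls n) 15 && (!Nat.beq (cls n) 9 || Nat.beq n 1 || Nat.beq n 3) &&
      (!(Nat.beq (cls n) 12 || Nat.beq (cls n) 13) || Nat.beq (centL [n]).length 32))) = true := by
  decide +kernel

theorem centre_check : ((List.range 512).all fun n => (Nat.beq n 0 || Nat.beq n 2 ||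
    (List.range 512).any fun g => !commB n g) && commB 2 n) = true := by
  decide +kernel

theorem pair_check : ([321, 336].all fun x => (centL [x]).contains 1 && Nat.beq (mul x x) 2 &&
    !Nat.beq x 1 && !Nat.beq (inv x) 1 &&
    (centL [x]).all fun b => !Nat.beq (mul b b) 2 || Nat.beq b 1 || Nat.beq b 3 || Nat.beq b x || Nat.beq b (inv x) ||
      (centL [x]).any fun a => !commB b a) = true := by
  decide +kernel

theorem sq_two {n : ℕ} (hn : n < 512) (h : mul n n = 2) :
    9 ≤ cls n ∧ cls n ≤ 15 ∧ (cls n = 9 → n = 1 ∨ n = 3) ∧ ((cls n = 12 ∨ cls n = 13) → (centL [n]).length = 32) := by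
  have hc := sq_two_check
  simp only [List.all_eq_true, List.mem_range, Bool.or_eq_true, Bool.and_eq_true, Nat.ble_eq,
    Bool.not_eq_eq_eq_not, Bool.not_true] at hc
  rcases hc n hn with h' | ⟨⟨⟨h1, h2⟩, h3⟩, h4⟩
  · rw [h] at h'
    simp at h'
  refine ⟨h1, h2, fun e => ?_, fun e => ?_⟩
  · rcases h3 with (h3 | h3) | h3
    · rw [e] at h3
      simp at h3
    · exact Or.inl (Nat.eq_of_beq_eq_true h3)
    · exact Or.inr (Nat.eq_of_beq_eq_true h3)
  · rcases h4 with h4 | h4
    · rcases e with e | e <;> rw [e] at h4 <;> simp at h4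
    · exact Nat.eq_of_beq_eq_true h4

theorem two_central {n : ℕ} (hn : n < 512) : mul 2 n = mul n 2 := by
  have hc := centre_check
  simp only [List.all_eq_true, List.mem_range, Bool.and_eq_true] at hc
  exact commB_iff.1 (hc n hn).2

theorem eq_of_central {n : ℕ} (hn : n < 512) (h : ∀ g < 512, mul n g = mul g n) : n = 0 ∨ n = 2 := by
  have hc := centre_check
  simp only [List.all_eq_true, List.mem_range, Bool.and_eq_true, Bool.or_eq_true, List.any_eq_true,
    Bool.not_eq_eq_eq_not, Bool.not_true] at hc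
  rcases (hc n hn).1 with (h' | h') | ⟨g, hg, h'⟩
  · exact Or.inl (Nat.eq_of_beq_eq_true h')
  · exact Or.inr (Nat.eq_of_beq_eq_true h')
  · rw [commB_iff.2 (h g hg)] at h'
    simp at h'

theorem length_c : (centL [1, 2]).length = 256 ∧ (centL [2]).length = 512 ∧ 1 ∈ centL [2] := by decide +kernel

theorem one_central_pair {x : ℕ} (hx : x = 321 ∨ x = 336) : ∀ a ∈ centL [x], mul 1 a = mul a 1 := by
  have h : ([321, 336].all fun x => (centL [x]).all fun a => commB 1 a) = true := by decide +kernel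
  simp only [List.all_eq_true] at h
  exact fun a ha => commB_iff.1 (h x (by simpa using hx) a ha)

theorem conj_one_check : ((List.range 512).all fun a => [0, 1, 2, 3].contains (conj a 1) &&
    [0, 1, 2, 3].contains (conj a 3)) = true := by
  decide +kernel

namespace Frame

variable {G : Type*} [Group G] [Finite G] (F : Frame G)

theorem z_mem_C {x : ℕ} (hx : x < 512) : F.f x ∈ F.C [2] :=
  F.mem_C_singleton.2 ((F.f_comm hx (by norm_num)).2 (two_central hx).symm)

theorem T_le_C : (F.T : Subgroup G) ≤ F.C [2] := fun g hg => by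
  obtain ⟨a, ha, rfl⟩ := F.surj g hg
  exact F.z_mem_C ha

theorem ext_two : F.Ext [2] := F.ext_z

theorem c_sq : F.f 1 * F.f 1 = F.f 2 := by
  rw [← F.map_mul (by norm_num) (by norm_num)]
  rfl

theorem sq_of_conj {x : ℕ} (hx : x < 512) {g : G} (hg : g ∈ F.C [2]) {b : ℕ} (hb : b < 512) (hb2 : mul b b = 2)
    (e : g * F.f b * g⁻¹ = F.f x) : mul x x = 2 := by
  refine F.inj (mul_lt _ _) (by norm_num) ?_
  rw [F.map_mul hx hx, ← e, show g * F.f b * g⁻¹ * (g * F.f b * g⁻¹) = g * (F.f b * F.f b) * g⁻¹ by group,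
    ← F.map_mul hb hb, hb2, F.mem_C_singleton.1 hg, mul_inv_cancel_right]

theorem mem_normalizer_Cy {w : G} (h : w * F.f 1 * w⁻¹ = F.f 1 ∨ w * F.f 1 * w⁻¹ = F.f 3) :
    w ∈ normalizer (F.Cy : Set G) := by
  have hgen : ∀ n < 4, F.f n = F.f 1 ^ n := by
    intro n hn
    interval_cases n
    · rw [F.f_zero, pow_zero]
    · rw [pow_one]
    · rw [pow_two, F.c_sq]
    · rw [pow_succ, pow_two, F.c_sq, ← F.map_mul (by norm_num) (by norm_num)]
      rfl
  have hfin : ∀ u ∈ F.Cy, w * u * w⁻¹ ∈ F.Cy := by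
    intro u hu
    obtain ⟨n, hn, rfl⟩ := F.mem_sub.1 hu
    rw [hgen n (by simp [listCy] at hn; omega), ← conj_pow]
    refine pow_mem ?_ n
    rcases h with h | h <;> rw [h]
    · exact F.mem_sub.2 ⟨1, by decide, rfl⟩
    · exact F.mem_sub.2 ⟨3, by decide, rfl⟩
  exact CfsgLib.ProdFusion.mem_of_forall_conj_mem hfin

theorem exists_conj_into_T {N R : Subgroup G} (hTN : (F.T : Subgroup G) ≤ N) (hRN : R ≤ N) (hR : IsPGroup 2 R) :
    ∃ k ∈ N, ∀ r ∈ R, k * r * k⁻¹ ∈ (F.T : Subgroup G) := by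
  haveI : Fact (Nat.Prime 2) := ⟨Nat.prime_two⟩
  obtain ⟨Q, hQ⟩ := (hR.of_equiv (subgroupOfEquivOfLe hRN).symm).exists_le_sylow
  obtain ⟨k, hk⟩ := MulAction.exists_smul_eq N Q (F.T.subtype hTN)
  refine ⟨k, k.2, fun r hr => ?_⟩
  have h1 : k * ⟨r, hRN hr⟩ * k⁻¹ ∈ (F.T.subtype hTN : Subgroup N) := by
    rw [← hk, Sylow.coe_subgroup_smul]
    exact ⟨⟨r, hRN hr⟩, hQ (mem_subgroupOf.2 hr), rfl⟩
  exact mem_subgroupOf.1 h1

/-- `c` has Sylow centralizer of order 256 -/
theorem ext_one : F.Ext [1, 2] := by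
  intro R hR hle
  haveI : Fact (Nat.Prime 2) := ⟨Nat.prime_two⟩
  rw [length_c.1]
  by_contra hlt
  obtain ⟨k, hk⟩ := IsPGroup.iff_card.1 hR
  obtain ⟨t, -, ht⟩ := F.ext_two.conj_into (by simp) hR (fun r hr => (F.mem_C_cons.1 (hle hr)).2)
  have hmap : R.map (MulAut.conj t).toMonoidHom ≤ (F.T : Subgroup G) := by
    rintro _ ⟨r, hr, rfl⟩; exact ht r hr
  have hcard : Nat.card (R.map (MulAut.conj t).toMonoidHom) = 2 ^ k := by
    rw [Subgroup.card_map_of_injective (MulAut.conj t).injective, hk]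
  have hk9 : 9 ≤ k := by
    rw [hk] at hlt
    by_contra h
    exact hlt (le_trans (Nat.pow_le_pow_right (by norm_num) (show k ≤ 8 by omega)) (by norm_num))
  have heq : R.map (MulAut.conj t).toMonoidHom = (F.T : Subgroup G) := by
    refine eq_of_le_of_card_ge hmap ?_
    rw [F.card_T, hcard]
    exact le_trans (by norm_num) (Nat.pow_le_pow_right (by norm_num) hk9)
  set u := t * F.f 1 * t⁻¹ with hu
  have hcomm : ∀ s ∈ (F.T : Subgroup G), u * s = s * u := by
    intro s hs
    rw [← heq] at hs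
    obtain ⟨r, hr, rfl⟩ := hs
    show t * F.f 1 * t⁻¹ * (t * r * t⁻¹) = t * r * t⁻¹ * (t * F.f 1 * t⁻¹)
    have h1 := (F.mem_C_cons.1 (hle hr)).1
    rw [show t * F.f 1 * t⁻¹ * (t * r * t⁻¹) = t * (F.f 1 * r) * t⁻¹ by group, ← h1]
    group
  have huT : u ∈ (F.T : Subgroup G) := by
    have hp : IsPGroup 2 (zpowers u) := by
      refine IsPGroup.iff_orderOf.2 fun w => ?_
      suffices hcard : Nat.card (zpowers u) ∣ 2 ^ 2 by
        obtain ⟨k, -, hk'⟩ := (Nat.dvd_prime_pow Nat.prime_two).1 ((orderOf_dvd_natCard w).trans hcard)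
        exact ⟨k, hk'⟩
      rw [Nat.card_zpowers]
      refine orderOf_dvd_of_pow_eq_one ?_
      rw [hu, show (2 : ℕ) ^ 2 = 4 from rfl, conj_pow, show F.f 1 ^ 4 = (F.f 1 * F.f 1) * (F.f 1 * F.f 1) by simp only [pow_succ, pow_zero, one_mul, mul_assoc],
        F.c_sq, ← F.map_mul (by norm_num) (by norm_num), show mul 2 2 = 0 from rfl, F.f_zero, mul_one, mul_inv_cancel]
    have hn : zpowers u ≤ normalizer ((F.T : Subgroup G) : Set G) := by
      rw [zpowers_le]
      refine Subgroup.mem_normalizer_iff.2 fun s => ⟨fun hs => ?_, fun hs => ?_⟩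
      · rw [hcomm s hs, mul_inv_cancel_right]; exact hs
      · have h1 : u * (u * s * u⁻¹) = u * s * u⁻¹ * u := hcomm _ hs
        have h2 : u * (u * s) = u * (s * u) := by
          calc u * (u * s) = u * (u * s * u⁻¹) * u := by group
            _ = u * s * u⁻¹ * u * u := by rw [h1]
            _ = u * (s * u) := by group
        rw [mul_left_cancel h2, mul_inv_cancel_right] at hs
        exact hs
    have h1 := F.T.3 ((hp.to_sup_of_normal_right' F.T.2 hn)) le_sup_right
    exact h1 ▸ mem_sup_left (mem_zpowers u)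
  obtain ⟨a, ha, hau⟩ := F.surj u huT
  have h4 : F.f a * F.f a = t * F.f 2 * t⁻¹ := by rw [hau, hu, ← F.c_sq]; group
  rcases eq_of_central ha (fun g hg => (F.f_comm ha hg).1 (by rw [hau]; exact hcomm _ (F.mem hg))) with rfl | rfl
  · rw [F.f_zero, one_mul, eq_comm, conj_eq_one_iff, F.f_eq_one (by norm_num)] at h4
    omega
  · rw [← F.map_mul (by norm_num) (by norm_num), show mul 2 2 = 0 from rfl, F.f_zero, eq_comm, conj_eq_one_iff,
      F.f_eq_one (by norm_num)] at h4
    omega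

/-- four classes are not fused to `c` in the centralizer of `z` -/
theorem not_conj_c {x : ℕ} (hx : x < 512) (h : cls x = 10 ∨ cls x = 11 ∨ cls x = 14 ∨ cls x = 15) {g : G}
    (hg : g ∈ F.C [2]) : g * F.f x * g⁻¹ ≠ F.f 1 := fun e => by
  obtain ⟨s, hs, es⟩ := exists_conj_rep hx (by omega)
  have hr := rep_lt (cls x) (by omega)
  have e' : g * F.f s * F.f (rep (cls x)) * (g * F.f s)⁻¹ = F.f 1 := by
    rw [← e, ← es, F.f_conj hs hr.1, es]
    group
  obtain ⟨d, -, hd⟩ := F.conj_ext (zs := [2]) (by simp)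
    (mem_centL.2 ⟨hr.1, fun z hz => by rw [List.mem_singleton.1 hz]; exact (two_central hr.1).symm⟩)
    length_c.2.2 F.ext_one (mul_mem hg (F.z_mem_C hs)) e'
  rcases h with h | h | h | h <;> rw [h] at hd
  · exact Cert.false_of cert_c_d_check rfl hd
  · exact Cert.false_of cert_c_h_check rfl hd
  · exact Cert.false_of cert_c_x80_check rfl hd
  · exact Cert.false_of cert_c_x85_check rfl hd

/-- the two classes of elements with small centralizer are not fused to `c` either -/
theorem not_conj_c' {x : ℕ} (hx : x = 321 ∨ x = 336) {g : G} (hg : g ∈ F.C [2]) : g * F.f x * g⁻¹ ≠ F.f 1 := fun e => by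
  haveI : Fact (Nat.Prime 2) := ⟨Nat.prime_two⟩
  have hpc := pair_check
  simp only [List.all_eq_true, Bool.and_eq_true, Bool.or_eq_true, List.any_eq_true, List.contains_iff_mem,
    Bool.not_eq_eq_eq_not, Bool.not_true] at hpc
  obtain ⟨⟨⟨⟨hc1, hx2⟩, hne⟩, hne'⟩, hZ⟩ := hpc x (by simpa using hx)
  have hx5 : x < 512 := by omega
  have hx2' := Nat.eq_of_beq_eq_true hx2
  have hl32 : (centL [x]).length = 32 := (sq_two hx5 hx2').2.2.2 (by rcases hx with rfl | rfl <;> decide +kernel)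
  have hxz : ∀ n ∈ [x], n < 512 := by simpa using hx5
  -- a two-group of order at least 256 centralizing `x` and `z`, around `TC [x]`
  have hPle : F.TC [x] ≤ F.C [x, 2] := fun r hr => by
    obtain ⟨a, ha, rfl⟩ := (F.mem_TC hxz).1 hr
    exact F.mem_C_cons.2 ⟨F.mem_C_singleton.1 (Subgroup.mem_inf.1 hr).2, F.z_mem_C (mem_centL.1 ha).1⟩
  obtain ⟨Q, hQ⟩ := ((F.isPGroup_TC [x]).of_equiv (subgroupOfEquivOfLe hPle).symm).exists_le_sylow
  set R := (Q : Subgroup (F.C [x, 2])).map (F.C [x, 2]).subtype with hR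
  have hRp : IsPGroup 2 R := Q.2.map _
  have hPR : F.TC [x] ≤ R := fun r hr => ⟨⟨r, hPle hr⟩, hQ (mem_subgroupOf.2 hr), rfl⟩
  have hRcard : 256 ≤ Nat.card R := by
    have hle : (F.TC [1, 2]).map (MulAut.conj g⁻¹).toMonoidHom ≤ F.C [x, 2] := by
      rintro _ ⟨r, hr, rfl⟩
      obtain ⟨h1, h2⟩ := F.mem_C_cons.1 (Subgroup.mem_inf.1 hr).2
      show g⁻¹ * r * g⁻¹⁻¹ ∈ F.C [x, 2]
      refine F.mem_C_cons.2 ⟨?_, mul_mem (mul_mem (inv_mem hg) h2) (inv_mem (inv_mem hg))⟩
      rw [inv_inv, show F.f x = g⁻¹ * F.f 1 * g by rw [← e]; group,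
        show g⁻¹ * r * g * (g⁻¹ * F.f 1 * g) = g⁻¹ * (r * F.f 1) * g by group, h1]
      group
    obtain ⟨Q', hQ'⟩ := (((F.isPGroup_TC [1, 2]).map _).of_equiv (subgroupOfEquivOfLe hle).symm).exists_le_sylow
    have hm : Nat.card ((F.TC [1, 2]).map (MulAut.conj g⁻¹).toMonoidHom) = 256 := by
      rw [Subgroup.card_map_of_injective (MulAut.conj g⁻¹).injective, F.card_TC (by simp), length_c.1]
    rw [hR, Subgroup.card_map_of_injective (F.C [x, 2]).subtype_injective, ← hm,
      ← Nat.card_congr (subgroupOfEquivOfLe hle).toEquiv, Nat.card_congr (Sylow.equiv Q Q').toEquiv]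
    exact Subgroup.card_le_of_le hQ'
  have hcardP : Nat.card (F.TC [x]) = 32 := by rw [F.card_TC hxz, hl32]
  have hnle : ¬ R ≤ F.TC [x] := fun h => by
    have := Subgroup.card_le_of_le h
    omega
  obtain ⟨y, hyR, hyN, hyP⟩ := CfsgLib.Invol.exists_mem_normalizer_notMem hRp hPR hnle
  -- every such element normalises the subgroup generated by `c`
  have hnorm : ∀ w ∈ R ⊓ normalizer (F.TC [x] : Set G), w * F.f 1 * w⁻¹ = F.f 1 ∨ w * F.f 1 * w⁻¹ = F.f 3 := by
    intro w hw
    obtain ⟨hwR, hwN⟩ := Subgroup.mem_inf.1 hw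
    obtain ⟨hwx, hwz⟩ := F.mem_C_cons.1 (map_subtype_le _ hwR)
    have hcP : F.f 1 ∈ F.TC [x] := (F.mem_TC hxz).2 ⟨1, hc1, rfl⟩
    obtain ⟨b, hb, hbe⟩ := (F.mem_TC hxz).1 ((Subgroup.mem_normalizer_iff.1 hwN (F.f 1)).1 hcP)
    have hb5 := (mem_centL.1 hb).1
    have hb2 : mul b b = 2 := F.sq_of_conj hb5 hwz (by norm_num) (by decide +kernel) hbe.symm
    rcases hZ b hb with ((((h | h) | h) | h) | h) | ⟨a, ha, h⟩
    · rw [hb2] at h
      simp at h
    · exact Or.inl (by rw [← hbe, Nat.eq_of_beq_eq_true h])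
    · exact Or.inr (by rw [← hbe, Nat.eq_of_beq_eq_true h])
    · exfalso
      rw [Nat.eq_of_beq_eq_true h] at hbe
      have : F.f 1 = F.f x := by
        rw [show F.f 1 = w⁻¹ * (w * F.f 1 * w⁻¹) * w by group, ← hbe, mul_assoc, ← hwx, inv_mul_cancel_left]
      rw [← F.inj (by norm_num) hx5 this] at hne
      simp at hne
    · exfalso
      rw [Nat.eq_of_beq_eq_true h] at hbe
      have : F.f 1 = F.f (inv x) := by
        have hc : w * (F.f x)⁻¹ = (F.f x)⁻¹ * w := by
          rw [eq_inv_mul_iff_mul_eq, ← mul_assoc, ← hwx, mul_inv_cancel_right]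
        rw [show F.f 1 = w⁻¹ * (w * F.f 1 * w⁻¹) * w by group, ← hbe, F.f_inv hx5, mul_assoc, ← hc, inv_mul_cancel_left]
      rw [← F.inj (by norm_num) (inv_lt x) this] at hne'
      simp at hne'
    · exfalso
      have haP : F.f a ∈ F.TC [x] := (F.mem_TC hxz).2 ⟨a, ha, rfl⟩
      have ha' : w⁻¹ * F.f a * w ∈ F.TC [x] := by
        have := (Subgroup.mem_normalizer_iff.1 (inv_mem hwN) (F.f a)).1 haP
        rwa [inv_inv] at this
      obtain ⟨a', ha'', hae⟩ := (F.mem_TC hxz).1 ha'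
      have h1 : F.f 1 * F.f a' = F.f a' * F.f 1 := by
        refine (F.f_comm (by norm_num) (mem_centL.1 ha'').1).2 ?_
        exact (one_central_pair hx a' ha'')
      have h2 : F.f b * F.f a = F.f a * F.f b := by
        have ea : F.f a = w * F.f a' * w⁻¹ := by rw [hae]; group
        rw [hbe, ea, show w * F.f 1 * w⁻¹ * (w * F.f a' * w⁻¹) = w * (F.f 1 * F.f a') * w⁻¹ by group, h1]
        group
      rw [commB_iff.2 ((F.f_comm hb5 (mem_centL.1 ha).1).1 h2)] at h
      simp at h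
  -- move into the Sylow subgroup by an element normalising the subgroup generated by `c`
  set N : Subgroup G := F.C [2] ⊓ normalizer (F.Cy : Set G) with hN
  have hTN : (F.T : Subgroup G) ≤ N := fun r hr => by
    obtain ⟨a, ha, rfl⟩ := F.surj r hr
    refine Subgroup.mem_inf.2 ⟨F.z_mem_C ha, F.mem_normalizer_Cy ?_⟩
    rw [← F.f_conj ha (by norm_num)]
    have hc := conj_one_check
    simp only [List.all_eq_true, List.mem_range, Bool.and_eq_true, List.contains_iff_mem] at hc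
    have hsq : mul (conj a 1) (conj a 1) = 2 := F.sq_of_conj (conj_lt _ _) (F.z_mem_C ha) (by norm_num)
      (by decide +kernel) (F.f_conj ha (by norm_num)).symm
    have h1 := (hc a ha).1
    simp only [List.mem_cons, List.not_mem_nil, or_false] at h1
    rcases h1 with h | h | h | h <;> rw [h] at hsq
    · exact absurd hsq (by decide +kernel)
    · exact Or.inl (by rw [h])
    · exact absurd hsq (by decide +kernel)
    · exact Or.inr (by rw [h])
  have hRN : R ⊓ normalizer (F.TC [x] : Set G) ≤ N := fun w hw => by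
    refine Subgroup.mem_inf.2 ⟨(F.mem_C_cons.1 (map_subtype_le _ (Subgroup.mem_inf.1 hw).1)).2, ?_⟩
    exact F.mem_normalizer_Cy (hnorm w hw)
  obtain ⟨k, hk, hkT⟩ := F.exists_conj_into_T hTN hRN ((hRp.to_le inf_le_left))
  have hxR : F.f x ∈ R ⊓ normalizer (F.TC [x] : Set G) := by
    have hxP : F.f x ∈ F.TC [x] := (F.mem_TC hxz).2 ⟨x, mem_centL.2 ⟨hx5, fun n hn => by
      rw [List.mem_singleton.1 hn]⟩, rfl⟩
    exact Subgroup.mem_inf.2 ⟨hPR hxP, le_normalizer hxP⟩
  obtain ⟨x', hx', hxe⟩ := F.surj _ (hkT _ hxR)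
  obtain ⟨hkz, hkN⟩ := Subgroup.mem_inf.1 hk
  have hx'2 : mul x' x' = 2 := F.sq_of_conj hx' hkz hx5 hx2' hxe.symm
  have hg' : g * k⁻¹ * F.f x' * (g * k⁻¹)⁻¹ = F.f 1 := by rw [hxe, ← e]; group
  obtain ⟨h9, h15, hc9, hlen⟩ := sq_two hx' hx'2
  by_cases h9' : cls x' = 9
  · have hmem : F.f x' ∈ F.Cy := by
      rcases hc9 h9' with rfl | rfl
      · exact F.mem_sub.2 ⟨1, by decide, rfl⟩
      · exact F.mem_sub.2 ⟨3, by decide, rfl⟩
    obtain ⟨j, hj, hje⟩ := F.mem_sub.1 ((Subgroup.mem_normalizer_iff.1 hkN (F.f x)).2 (by rwa [← hxe]))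
    have hxj : j = x := F.inj (by simp [listCy] at hj; omega) hx5 hje
    subst hxj
    rcases hx with h | h <;> rw [h] at hj <;> revert hj <;> decide
  by_cases h1213 : cls x' = 12 ∨ cls x' = 13
  · have hle : (R ⊓ normalizer (F.TC [x] : Set G)).map (MulAut.conj k).toMonoidHom ≤ F.TC [x'] := by
      rintro _ ⟨w, hw, rfl⟩
      refine Subgroup.mem_inf.2 ⟨hkT w hw, F.mem_C_singleton.2 ?_⟩
      have hwx := (F.mem_C_cons.1 (map_subtype_le _ (Subgroup.mem_inf.1 hw).1)).1
      show k * w * k⁻¹ * F.f x' = F.f x' * (k * w * k⁻¹)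
      rw [hxe, show k * w * k⁻¹ * (k * F.f x * k⁻¹) = k * (w * F.f x) * k⁻¹ by group, hwx]
      group
    have hlt : 32 < Nat.card (R ⊓ normalizer (F.TC [x] : Set G) : Subgroup G) := by
      rw [← hcardP]
      have h1 : F.TC [x] ≤ R ⊓ normalizer (F.TC [x] : Set G) := le_inf hPR le_normalizer
      refine lt_of_le_of_ne (Subgroup.card_le_of_le h1) fun he => hyP ?_
      rw [eq_of_le_of_card_ge h1 he.ge]
      exact Subgroup.mem_inf.2 ⟨hyR, hyN⟩
    have h2 := Subgroup.card_le_of_le hle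
    rw [Subgroup.card_map_of_injective (MulAut.conj k).injective, F.card_TC (by simpa using hx'), hlen h1213] at h2
    omega
  exact F.not_conj_c hx' (by omega) (mul_mem hg (inv_mem hkz)) hg'

/-- **`c` is isolated** -/
theorem c_isolated {g : G} (hg : g ∈ F.C [2]) {x : ℕ} (hx : x < 512) (e : g * F.f 1 * g⁻¹ = F.f x) :
    x = 1 ∨ x = 3 := by
  have hx2 : mul x x = 2 := F.sq_of_conj hx hg (by norm_num) (by decide +kernel) e
  obtain ⟨h9, h15, hc9, -⟩ := sq_two hx hx2
  by_contra hne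
  have h9' : cls x ≠ 9 := fun h => hne (hc9 h)
  have e' : g⁻¹ * F.f x * g⁻¹⁻¹ = F.f 1 := by rw [← e]; group
  by_cases h : cls x = 12 ∨ cls x = 13
  · obtain ⟨s, hs, es⟩ := exists_conj_rep hx (by omega)
    have hr := rep_lt (cls x) (by omega)
    refine F.not_conj_c' (x := rep (cls x)) (by rcases h with h | h <;> rw [h] <;> decide)
      (mul_mem (inv_mem hg) (F.z_mem_C hs)) ?_
    rw [← e', ← es, F.f_conj hs hr.1, es]
    group
  · exact F.not_conj_c hx (by omega) (inv_mem hg) e'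

end Frame

end CfsgLib.Spor.HSSylow
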