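import Cfsg.Agent.Lib.Spor.HSSylow.OtherSignal
import Cfsg.Agent.Lib.Spor.HSSylow.Core
import Cfsg.Agent.Lib.Spor.HSSylow.Cert.All
import Cfsg.Agent.S0215

/-!
# The other case is impossible

A proper subgroup would contain the centralizer of each of its involutions although the group has two classes
of involutions.
-/

set_option autoImplicit false
set_option maxRecDepth 100000
set_option linter.unusedSectionVars false
set_option linter.style.haveILetI false

namespace CfsgLib.Spor.HSSylow

open Subgroup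
open CfsgLib.Invol

/-- The codes of the four-group of `V` centralizing the two extreme involutions. -/
def listU : List ℕ := [0, 2, 8, 10]

theorem U_facts : closedB listU = true ∧ (listU.all fun a => listV.contains a && commB a 128 && commB a 132) = true ∧
    ((listV.all fun a => listU.contains a || (!commB a 128 && !commB a 132)) = true) := by
  decide +kernel

theorem ext_facts : centL [2, 128] = centL [128] ∧ centL [2, 132] = centL [132] ∧ (centL [128]).contains 8 = true ∧
    (centL [128]).contains 10 = true ∧ (centL [132]).contains 8 = true ∧ (centL [132]).contains 10 = true ∧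
    (centL [128]).contains 2 = true ∧ (centL [132]).contains 2 = true := by
  decide +kernel

/-- each pair of end classes lies in `V` or is excluded -/
def otherTargetsB (ts : List (ℕ × ℕ)) : Bool :=
  ts.all fun e => (Nat.ble e.1 2 && Nat.ble e.2 2) || (Nat.ble e.1 2 && (Nat.beq e.2 3 || Nat.beq e.2 4)) ||
    (Nat.ble e.2 2 && (Nat.beq e.1 3 || Nat.beq e.1 4))

theorem other_targets : otherTargetsB cert_p_e_H.targets = true ∧ otherTargetsB cert_p_u_H.targets = true ∧
    otherTargetsB cert_q_e_H.targets = true ∧ otherTargetsB cert_q_u_H.targets = true ∧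
    otherTargetsB cert_w_e_H.targets = true ∧ otherTargetsB cert_v_u_M.targets = true := by
  decide +kernel

theorem other_one : oneB cert_p_e_H.paths = true ∧ oneB cert_p_u_H.paths = true ∧ oneB cert_q_e_H.paths = true ∧
    oneB cert_q_u_H.paths = true ∧ oneB cert_w_e_H.paths = true ∧ oneB cert_v_u_M.paths = true := by
  decide +kernel

namespace Frame

universe u

variable {G : Type u} [Group G] [Finite G] {F : Frame G}

section

variable {M : Subgroup G} (hA : normalizer (F.A : Set G) ≤ M) (hz : centralizer ({F.z} : Set G) ≤ M)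
include hA hz

theorem Other.T_le : (F.T : Subgroup G) ≤ M := F.T_le_normA.trans hA

/-- **`M` contains what carries a conjugate of `z` in it to another** -/
theorem Other.mem_of_conj (h : F.Other) {x g : G} (hx : x ∈ M) (hk : IsConj F.z x) (hy : g * x * g⁻¹ ∈ M) :
    g ∈ M := by
  have to_z : ∀ {y : G}, y ∈ M → IsConj F.z y → ∃ a ∈ M, a * y * a⁻¹ = F.z := by
    intro y hy hk
    obtain ⟨c, hc⟩ := isConj_iff.1 hk
    have hyo : orderOf y = 2 := hc ▸ invol_conj F.z_ord c
    obtain ⟨k, hk', hkT⟩ := F.exists_conj_into_T (Other.T_le hA hz) (zpowers_le.2 hy)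
      (IsPGroup.of_card (n := 1) (by rw [Nat.card_zpowers, hyo, pow_one]))
    have hV := h.mem_V (hkT y (mem_zpowers y)) (hk.trans (isConj_iff.2 ⟨k, rfl⟩))
    obtain ⟨n, hn, e⟩ := h.to_z hV (fun e => invol_ne_one hyo (conj_eq_one_iff.1 e))
    exact ⟨n * k, mul_mem (hA hn) hk', by rw [← e]; group⟩
  obtain ⟨a, ha, hae⟩ := to_z hx hk
  obtain ⟨b, hb, hbe⟩ := to_z hy (hk.trans (isConj_iff.2 ⟨g, rfl⟩))
  have hzz : b * g * a⁻¹ ∈ centralizer ({F.z} : Set G) := by
    refine mem_centralizer_singleton_iff.2 (mul_inv_eq_iff_eq_mul.1 ?_)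
    conv_lhs => enter [1, 2]; rw [← hae]
    rw [← hbe]; group
  have := mul_mem (mul_mem (inv_mem hb) (hz hzz)) ha
  rwa [show b⁻¹ * (b * g * a⁻¹) * a = g by group] at this

theorem Other.cent_le_of_conj_z (h : F.Other) {x : G} (hx : x ∈ M) (hk : IsConj F.z x) :
    centralizer ({x} : Set G) ≤ M := fun g hg => Other.mem_of_conj hA hz h hx hk (by
  rw [mem_centralizer_singleton_iff.1 hg, mul_inv_cancel_right]; exact hx)

/-- the centralizers of the two extreme involutions -/
theorem Other.cent_extreme (h : F.Other) {e : ℕ} (he : e = 128 ∨ e = 132) (hext : F.Ext [e]) :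
    centralizer ({F.f e} : Set G) ≤ M := by
  haveI : Fact (Nat.Prime 2) := ⟨Nat.prime_two⟩
  have he5 : e < 512 := by omega
  rw [← F.C_singleton]
  set C := F.C [e] with hC
  have hzs : ∀ z ∈ [e], z < 512 := by simpa using he5
  obtain ⟨Q, hQ⟩ := ((F.isPGroup_TC [e]).of_equiv
    (subgroupOfEquivOfLe (inf_le_right : F.TC [e] ≤ C)).symm).exists_le_sylow
  have hmap : (Q : Subgroup C).map C.subtype = F.TC [e] := by
    refine (eq_of_le_of_card_ge ?_ ?_).symm
    · intro x hx
      exact ⟨⟨x, (Subgroup.mem_inf.1 hx).2⟩, hQ (mem_subgroupOf.2 hx), rfl⟩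
    · rw [F.card_TC hzs]
      exact hext _ (Q.2.map _) (map_subtype_le _)
  have h2e : (2 : ℕ) ∈ centL [e] := by
    rcases he with rfl | rfl
    · exact List.contains_iff_mem.1 ext_facts.2.2.2.2.2.2.1
    · exact List.contains_iff_mem.1 ext_facts.2.2.2.2.2.2.2
  have hcl : centL [2, e] = centL [e] := by
    rcases he with rfl | rfl
    · exact ext_facts.1
    · exact ext_facts.2.1
  have hzC : F.z ∈ C := (F.f_mem_C hzs (by norm_num)).2 h2e
  have hzQ : (⟨F.z, hzC⟩ : C) ∈ (Q : Subgroup C) :=
    hQ (mem_subgroupOf.2 ((F.mem_TC hzs).2 ⟨2, h2e, rfl⟩))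
  have hext2 : F.Ext [2, e] := fun R hR hle => by
    rw [hcl]
    exact hext R hR fun r hr => (F.mem_C_cons.1 (hle hr)).2
  obtain ⟨N, hN, hNo, hcomm⟩ := Cfsg.Agent.S0215.result Q ⟨F.z, hzC⟩
    (by rw [← Subgroup.orderOf_coe]; exact F.z_ord) hzQ (fun y hy => by
      have hyT := mem_map_of_mem C.subtype hy
      rw [hmap] at hyT
      obtain ⟨n, hn, hne⟩ := (F.mem_TC hzs).1 hyT
      change F.f n = (y : G) * F.z * (y : G)⁻¹ at hne
      have hk : IsConj F.z (F.f n) := isConj_iff.2 ⟨y, hne.symm⟩
      obtain ⟨n', hn', e'⟩ := h.mem_V (F.mem (mem_centL.1 hn).1) hk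
      have hnn : n' = n := F.inj (V_code hn').1 (mem_centL.1 hn).1 e'
      rw [hnn] at hn'
      have hnU : n ∈ listU := by
        have hu := U_facts.2.2
        simp only [List.all_eq_true, Bool.or_eq_true, Bool.and_eq_true, Bool.not_eq_true',
          List.contains_iff_mem] at hu
        refine (hu n hn').resolve_right fun hc => ?_
        have hcc := commB_iff.2 ((mem_centL.1 hn).2 e (List.mem_singleton.2 rfl))
        rcases he with rfl | rfl
        · rw [hc.1] at hcc; simp at hcc
        · rw [hc.2] at hcc; simp at hcc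
      refine Subtype.ext ?_
      show (y : G) * F.z * (y : G)⁻¹ = F.z
      rw [← hne]
      simp only [listU, List.mem_cons, List.not_mem_nil, or_false] at hnU
      have cert : ∀ {x : ℕ}, x = 8 ∨ x = 10 → n = x → False := by
        rintro x hx rfl
        obtain ⟨d, -, hd⟩ := F.conj_ext hzs hn h2e hext2 (g := (y : G)⁻¹) (inv_mem y.2) (by
          rw [hne]; show (y : G)⁻¹ * ((y : G) * F.z * (y : G)⁻¹) * (y : G)⁻¹⁻¹ = F.f 2
          rw [z]; group)
        rcases he with rfl | rfl <;> rcases hx with rfl | rfl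
        · exact Cert.false_of cert_L_e0_check rfl hd
        · exact Cert.false_of cert_L_e1_check rfl hd
        · exact Cert.false_of cert_L_u0_check rfl hd
        · exact Cert.false_of cert_L_u1_check rfl hd
      rcases hnU with rfl | rfl | h8 | h10
      · exact absurd (conj_eq_one_iff.1 (hne.symm.trans F.f_zero)) F.z_ne
      · rfl
      · exact (cert (Or.inl rfl) h8).elim
      · exact (cert (Or.inr rfl) h10).elim)
  -- the normal subgroup lies in `M`
  have hNM : N.map C.subtype ≤ M := by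
    set U := F.sub listU U_facts.1 with hU
    have hUV : U ≤ F.V := by
      rintro _ ⟨a, ha, rfl⟩
      have hu := U_facts.2.1
      simp only [List.all_eq_true, Bool.and_eq_true, List.contains_iff_mem] at hu
      exact ⟨a, (hu a ha).1.1, rfl⟩
    have hUC : U ≤ C := by
      rintro _ ⟨a, ha, rfl⟩
      have hu := U_facts.2.1
      simp only [List.all_eq_true, Bool.and_eq_true, List.contains_iff_mem] at hu
      refine (F.f_mem_C hzs (V_code (hu a ha).1.1).1).2 (mem_centL.2 ⟨(V_code (hu a ha).1.1).1, fun z hz' => ?_⟩)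
      rw [List.mem_singleton.1 hz']
      rcases he with rfl | rfl
      · exact commB_iff.1 (hu a ha).1.2
      · exact commB_iff.1 (hu a ha).2
    have hUe : Cfsg.IsElementaryAbelian 2 U :=
      ⟨⟨⟨fun a b => Subtype.ext ((V_spec (hUV a.2)).2.2.2 b (hUV b.2))⟩⟩,
        fun a ha => elem_V.2 a (hUV ha)⟩
    have hU4 : 2 ^ 2 ≤ Nat.card ↥U := by
      let g : Fin 4 → ↥U := fun i => ⟨F.f (listU.get (i.cast (by rfl))), _, List.get_mem _ _, rfl⟩
      have hg : Function.Injective g := fun i j e' => by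
        have e'' := F.inj (by fin_cases i <;> decide) (by fin_cases j <;> decide) (congrArg Subtype.val e')
        revert e''
        fin_cases i <;> fin_cases j <;> decide
      have := Nat.card_le_card_of_injective g hg
      rw [Nat.card_fin] at this
      exact this
    refine CfsgLib.SolvSignalizer.le_of_fixed_points hUe hU4 (fun a ha => ?_) ?_ fun a ha ha1 g hg => ?_
    · refine CfsgLib.ProdFusion.mem_of_forall_conj_mem ?_
      rintro _ ⟨m, hm, rfl⟩
      exact ⟨⟨a, hUC ha⟩ * m * ⟨a, hUC ha⟩⁻¹, hN.conj_mem m hm _, rfl⟩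
    · rw [Subgroup.card_map_of_injective C.subtype_injective]
      exact hNo.not_two_dvd_nat
    · exact Other.cent_le_of_conj_z hA hz h (Other.T_le hA hz (V_le_T (hUV ha))) (h.conj_z (hUV ha) ha1) hg.2
  intro g hg
  refine Other.mem_of_conj hA hz h (x := F.z) (hz (mem_centralizer_singleton_iff.2 rfl)) (IsConj.refl _) ?_
  have h1 : F.z * g * F.z⁻¹ * g⁻¹ ∈ M := hNM ⟨_, hcomm ⟨g, hg⟩, rfl⟩
  have hzM : F.z ∈ M := hz (mem_centralizer_singleton_iff.2 rfl)
  have h2 := inv_mem (mul_mem (inv_mem hzM) h1)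
  rwa [show (F.z⁻¹ * (F.z * g * F.z⁻¹ * g⁻¹))⁻¹ = g * F.z * g⁻¹ by group] at h2

/-- a class carried to an extreme one inside `M` -/
theorem Other.cent_moved (h : F.Other) {C : Cert} (hc : C.check = true) (h1 : oneB C.paths = true)
    (ht : otherTargetsB C.targets = true) {a i : ℕ} (ha : a < 9) (hi : i < 9) (hxs : C.xs = [rep a])
    (hys : C.ys = [rep i]) (hl : F.Link a i) (hext : F.Ext [rep i])
    (hy : centralizer ({F.f (rep i)} : Set G) ≤ M) : centralizer ({F.f (rep a)} : Set G) ≤ M := by
  obtain ⟨d, hd⟩ := F.emb_of_link ha hi hl hext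
  obtain ⟨s, hs, n, hn, m, hm, htg, e⟩ := F.cert_move hc (oneB_spec h1) (hxs.symm ▸ hys.symm ▸ hd)
  simp only [otherTargetsB, List.all_eq_true, Bool.or_eq_true, Bool.and_eq_true, Nat.ble_eq] at ht
  have mixed : ∀ {p q : ℕ}, p < 512 → q < 512 → cls p ≤ 2 → (cls q = 3 ∨ cls q = 4) →
      IsConj (F.f p) (F.f q) → False := by
    intro p q hp hq hp2 hq34 hpq
    have hl' : F.Link 0 (cls q) := (F.link_zero h.noIndexTwo hp2).trans
      (((F.isConj_rep hp (by omega)).trans hpq).trans (F.isConj_rep hq (by omega)).symm)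
    rcases hq34 with e' | e' <;> rw [e'] at hl'
    · exact h.apart hl'
    · exact F.not_link_four (by norm_num) hl'.symm
  have hdM : d ∈ M := by
    have inV : ∀ {p : ℕ}, p < 512 → cls p ≤ 2 → F.f p ∈ M ∧ IsConj F.z (F.f p) := fun {p} hp hp2 =>
      ⟨Other.T_le hA hz (F.mem hp), IsConj.trans (F.link_zero h.noIndexTwo hp2) (F.isConj_rep hp (by omega))⟩
    rcases ht _ htg with (⟨hn2, hm2⟩ | ⟨hn2, hm34⟩) | ⟨hm2, hn34⟩
    · have h2 := Other.mem_of_conj hA hz h (inV hn hn2).1 (inV hn hn2).2 (g := F.f s * d)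
        (by rw [e]; exact (inV hm hm2).1)
      have h3 := mul_mem (inv_mem (Other.T_le hA hz (F.mem (mem_centL.1 hs).1))) h2
      rwa [inv_mul_cancel_left] at h3
    · exact (mixed hn hm hn2 (hm34.imp Nat.eq_of_beq_eq_true Nat.eq_of_beq_eq_true)
        (isConj_iff.2 ⟨_, e⟩)).elim
    · exact (mixed hm hn hm2 (hn34.imp Nat.eq_of_beq_eq_true Nat.eq_of_beq_eq_true)
        (isConj_iff.2 ⟨_, e⟩).symm).elim
  intro g hg
  have hp : d * F.f (rep a) * d⁻¹ = F.f (rep i) := hd.pairs (rep a, rep i) (by simp)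
  have h1' : d * g * d⁻¹ ∈ M := hy (mem_centralizer_singleton_iff.2 (by
    rw [← hp, show d * g * d⁻¹ * (d * F.f (rep a) * d⁻¹) = d * (g * F.f (rep a)) * d⁻¹ by group,
      mem_centralizer_singleton_iff.1 hg]
    group))
  have := mul_mem (mul_mem (inv_mem hdM) h1') hdM
  rwa [show d⁻¹ * (d * g * d⁻¹) * d = g by group] at this

/-- the centralizers of the class representatives -/
theorem Other.cent_rep (h : F.Other) {a : ℕ} (ha : a < 9) : centralizer ({F.f (rep a)} : Set G) ≤ M := by
  obtain ⟨hpq, hw, he3⟩ := F.other_cases h.noIndexTwo h.apart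
  have h3 := Other.cent_extreme hA hz h (Or.inl rfl) he3
  have h4 := Other.cent_extreme hA hz h (Or.inr rfl) F.ext_four
  interval_cases a
  · exact Other.cent_le_of_conj_z hA hz h (Other.T_le hA hz (F.mem (rep_lt 0 (by norm_num)).1))
      (F.link_zero h.noIndexTwo (b := 0) (by norm_num))
  · exact Other.cent_le_of_conj_z hA hz h (Other.T_le hA hz (F.mem (rep_lt 1 (by norm_num)).1))
      (F.link_zero h.noIndexTwo (b := 1) (by norm_num))
  · exact Other.cent_le_of_conj_z hA hz h (Other.T_le hA hz (F.mem (rep_lt 2 (by norm_num)).1))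
      (F.link_zero h.noIndexTwo (b := 2) (by norm_num))
  · exact h3
  · exact h4
  · rcases hpq 5 (Or.inl rfl) with hl | hl
    · exact Other.cent_moved hA hz h cert_p_e_H_check other_one.1 other_targets.1 (a := 5) (i := 3) (by norm_num)
        (by norm_num) rfl rfl hl he3 h3
    · exact Other.cent_moved hA hz h cert_p_u_H_check other_one.2.1 other_targets.2.1 (a := 5) (i := 4) (by norm_num)
        (by norm_num) rfl rfl hl F.ext_four h4
  · rcases hpq 6 (Or.inr rfl) with hl | hl
    · exact Other.cent_moved hA hz h cert_q_e_H_check other_one.2.2.1 other_targets.2.2.1 (a := 6) (i := 3)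
        (by norm_num) (by norm_num) rfl rfl hl he3 h3
    · exact Other.cent_moved hA hz h cert_q_u_H_check other_one.2.2.2.1 other_targets.2.2.2.1 (a := 6) (i := 4)
        (by norm_num) (by norm_num) rfl rfl hl F.ext_four h4
  · exact Other.cent_moved hA hz h cert_v_u_M_check other_one.2.2.2.2.2 other_targets.2.2.2.2.2 (a := 7) (i := 4)
      (by norm_num) (by norm_num) rfl rfl (F.seven h.noIndexTwo).2.symm F.ext_four h4
  · exact Other.cent_moved hA hz h cert_w_e_H_check other_one.2.2.2.2.1 other_targets.2.2.2.2.1 (a := 8) (i := 3)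
      (by norm_num) (by norm_num) rfl rfl hw he3 h3

/-- the centralizers of the involutions of `M` -/
theorem Other.cent_le (h : F.Other) {t : G} (ht : t ∈ M) (ht2 : orderOf t = 2) :
    centralizer ({t} : Set G) ≤ M := by
  haveI : Fact (Nat.Prime 2) := ⟨Nat.prime_two⟩
  obtain ⟨k, hk, hkT⟩ := F.exists_conj_into_T (Other.T_le hA hz) (zpowers_le.2 ht)
    (IsPGroup.of_card (n := 1) (by rw [Nat.card_zpowers, ht2, pow_one]))
  obtain ⟨n, hn, hne⟩ := F.surj _ (hkT t (mem_zpowers t))
  have h9 := (F.invol_class hn).1 (hne ▸ invol_conj ht2 k)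
  obtain ⟨s, hs, es⟩ := exists_conj_rep hn (show cls n < 16 by omega)
  have e' : F.f n = F.f s * F.f (rep (cls n)) * (F.f s)⁻¹ := by
    conv_lhs => rw [← es]
    exact F.f_conj hs (rep_lt _ (by omega)).1
  set d := (F.f s)⁻¹ * k with hd
  have hdM : d ∈ M := mul_mem (inv_mem (Other.T_le hA hz (F.mem hs))) hk
  have hde : d * t * d⁻¹ = F.f (rep (cls n)) := by
    rw [hd, show (F.f s)⁻¹ * k * t * ((F.f s)⁻¹ * k)⁻¹ = (F.f s)⁻¹ * (k * t * k⁻¹) * F.f s by group, ← hne, e']
    group
  intro g hg
  have h1 : d * g * d⁻¹ ∈ M := Other.cent_rep hA hz h h9 (mem_centralizer_singleton_iff.2 (by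
    rw [← hde, show d * g * d⁻¹ * (d * t * d⁻¹) = d * (g * t) * d⁻¹ by group, mem_centralizer_singleton_iff.1 hg]
    group))
  have := mul_mem (mul_mem (inv_mem hdM) h1) hdM
  rwa [show d⁻¹ * (d * g * d⁻¹) * d = g by group] at this

end

/-- **class three is fused with the central involution** -/
theorem link_zero_three [IsSimpleGroup G] (F : Frame G) (hG : ∀ H : Subgroup G, H.index ≠ 2) : F.Link 0 3 := by
  by_contra he
  have h : F.Other := ⟨hG, he⟩
  obtain ⟨M, hM, hA, hz⟩ := h.exists_proper
  set u := F.f (rep 4) with hu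
  have hu5 := (rep_lt 4 (by norm_num)).1
  have huo : orderOf u = 2 := (F.invol_class hu5).2 (by rw [(rep_lt 4 (by norm_num)).2]; norm_num)
  obtain ⟨g, hg⟩ : ∃ g : G, g * u * g⁻¹ ∉ M := by
    by_contra hall
    push Not at hall
    have hle : normalClosure ({u} : Set G) ≤ M := by
      refine (closure_le M).2 fun x hx => ?_
      obtain ⟨y, hy, hc⟩ := Group.mem_conjugatesOfSet_iff.1 hx
      rw [Set.mem_singleton_iff.1 hy] at hc
      obtain ⟨c, hc⟩ := isConj_iff.1 hc
      exact hc ▸ hall c
    rcases (normalClosure_normal (s := ({u} : Set G))).eq_bot_or_eq_top with hb | ht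
    · exact invol_ne_one huo (mem_bot.1 (hb ▸ subset_normalClosure (Set.mem_singleton u)))
    · exact hM (top_le_iff.1 (ht ▸ hle))
  set y := g * u * g⁻¹ with hy
  have hyo : orderOf y = 2 := invol_conj huo g
  obtain ⟨j, -, hwo, hwz, hwy⟩ := exists_mid F.z_ord hyo fun hodd =>
    F.not_link_four (x := 0) (by norm_num)
      (IsConj.trans (isConj_iff.2 ⟨g, hy.symm⟩) (isConj_of_odd F.z_ord hyo hodd).symm)
  refine hg (Other.cent_le hA hz h (hz (mem_centralizer_singleton_iff.2 hwz)) hwo
    (mem_centralizer_singleton_iff.2 hwy.symm))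

end Frame

end CfsgLib.Spor.HSSylow
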