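import Cfsg.Agent.Lib.Spor.HSSylow.Central
import Mathlib.GroupTheory.Transfer

/-!
# The centralizer of the central involution in the other case

Class three is not fused to the central involution: the fused involutions of the Sylow subgroup are those of
`V`, so `V` is normal in the centralizer modulo the odd core and only `A` centralizes it there.
-/

set_option autoImplicit false
set_option maxRecDepth 100000
set_option linter.unusedSectionVars false
set_option linter.style.haveILetI false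

namespace CfsgLib.Spor.HSSylow

open Subgroup
open CfsgLib.Invol.HeisFour (H4)
open CfsgLib.ProdFusion (OC)

theorem V_codes : (listV.all fun v => Nat.blt v 512 && listV.contains (conj 192 v) &&
    (Nat.beq v 0 || Nat.beq v 2 || Nat.beq (cls v) 1 || Nat.beq (cls v) 2)) = true := by
  decide +kernel

theorem V_of_cls : ((List.range 512).all fun n => !Nat.ble (cls n) 2 || listV.contains n) = true := by
  decide +kernel

theorem Z_coset_V : ∀ p : H4, p.b = 0 → p.a = 0 → ∀ k < 4,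
    mul (cosetElt p k) (cosetElt p k) = 0 → listV.contains (cosetElt p k) = true := by
  decide +kernel

theorem cent_V_check : ((List.range 512).all fun n => Nat.blt n 64 || listV.any fun v => !commB n v) = true := by
  decide +kernel

namespace Frame

universe u

variable {G : Type u} [Group G] [Finite G] (F : Frame G)

/-- The fusion in which class three stays apart from the central involution. -/
structure Other : Prop where
  noIndexTwo : ∀ H : Subgroup G, H.index ≠ 2
  apart : ¬ F.Link 0 3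

variable {F}

theorem Other.cls_le_two (h : F.Other) {n : ℕ} (hn : n < 512) (hz : IsConj F.z (F.f n)) : cls n ≤ 2 := by
  have hord : orderOf (F.f n) = 2 := by
    obtain ⟨g, hg⟩ := isConj_iff.1 hz
    exact hg ▸ CfsgLib.Invol.invol_conj F.z_ord g
  have h9 := (F.invol_class hn).1 hord
  have hl : F.Link 0 (cls n) := hz.trans (F.isConj_rep hn (by omega)).symm
  obtain ⟨hpq, hw, -⟩ := F.other_cases h.noIndexTwo h.apart
  by_contra hgt
  have h34 : ¬ F.Link 0 3 ∧ ¬ F.Link 0 4 := ⟨h.apart, fun h' => F.not_link_four (by norm_num) h'.symm⟩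
  interval_cases hc : cls n
  · exact h34.1 hl
  · exact h34.2 hl
  · rcases hpq 5 (Or.inl rfl) with h' | h'
    · exact h34.1 (hl.trans h')
    · exact h34.2 (hl.trans h')
  · rcases hpq 6 (Or.inr rfl) with h' | h'
    · exact h34.1 (hl.trans h')
    · exact h34.2 (hl.trans h')
  · exact h34.2 (hl.trans (F.seven h.noIndexTwo).2.symm)
  · exact h34.1 (hl.trans hw)

/-- **the conjugates of `z` in the Sylow subgroup lie in `V`** -/
theorem Other.mem_V (h : F.Other) {x : G} (hx : x ∈ (F.T : Subgroup G)) (hz : IsConj F.z x) : x ∈ F.V := by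
  obtain ⟨n, hn, rfl⟩ := F.surj x hx
  have hc := V_of_cls
  simp only [List.all_eq_true, List.mem_range, Bool.or_eq_true, Bool.not_eq_true', List.contains_iff_mem] at hc
  refine ⟨n, (hc n hn).resolve_left fun h' => ?_, rfl⟩
  have h2 : Nat.ble (cls n) 2 = true := by rw [Nat.ble_eq]; exact h.cls_le_two hn hz
  rw [h2] at h'
  simp at h'

theorem Other.conj_z (h : F.Other) {v : G} (hv : v ∈ F.V) (hv1 : v ≠ 1) : IsConj F.z v := by
  obtain ⟨a, ha, rfl⟩ := hv
  have hc := A_facts.2.2.1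
  simp only [List.all_eq_true, Bool.and_eq_true, Bool.or_eq_true, Nat.blt_eq, Nat.ble_eq] at hc
  obtain ⟨⟨⟨⟨h64, -⟩, -⟩, hcls⟩, -⟩ := hc a ha
  have h2 : cls a ≤ 2 := hcls.resolve_left fun e => hv1 (by rw [Nat.eq_of_beq_eq_true e, F.f_zero])
  exact IsConj.trans (F.link_zero h.noIndexTwo h2) (F.isConj_rep (n := a) (by omega) (by omega))

/-- the centre of the Sylow subgroup of the factor is normal -/
theorem Other.normal_Z (h : F.Other) : F.dFrame.Z.Normal :=
  F.dFrame.normal_Z_of_unfused F.core_Db (F.not_alpha h.noIndexTwo h.apart) (F.not_beta h.noIndexTwo)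

theorem V_code {v : ℕ} (hv : v ∈ listV) : v < 512 ∧ conj 192 v ∈ listV ∧
    (v = 0 ∨ v = 2 ∨ cls v = 1 ∨ cls v = 2) := by
  have h := V_codes
  simp only [List.all_eq_true, Bool.and_eq_true, Bool.or_eq_true, Nat.blt_eq, List.contains_iff_mem] at h
  obtain ⟨⟨h1, h2⟩, h3⟩ := h v hv
  refine ⟨h1, h2, ?_⟩
  rcases h3 with ((h3 | h3) | h3) | h3
  exacts [Or.inl (Nat.eq_of_beq_eq_true h3), Or.inr (Or.inl (Nat.eq_of_beq_eq_true h3)),
    Or.inr (Or.inr (Or.inl (Nat.eq_of_beq_eq_true h3))), Or.inr (Or.inr (Or.inr (Nat.eq_of_beq_eq_true h3)))]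

/-- **`V` is normal modulo the core** -/
theorem Other.V_normal_mod (h : F.Other) (x : F.Cb) {v : ℕ} (hv : v ∈ listV) :
    ∃ v' ∈ listV, x * F.qb v * x⁻¹ = F.qb v' := by
  have key : ∀ y ∈ F.C1b, ∀ v ∈ listV, ∃ v' ∈ listV, y * F.qb v * y⁻¹ = F.qb v' := by
    intro y hy v hv
    obtain ⟨hv5, -, hc⟩ := V_code hv
    rcases hc with rfl | rfl | hc
    · exact ⟨0, hv, by rw [F.qb_zero]; group⟩
    · exact ⟨2, hv, by rw [F.two_central_qb, mul_inv_cancel_right]⟩
    obtain ⟨⟨p, hpb, hpa, hpk⟩, hvC, -⟩ := V_coset_spec hv5 hc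
    have hd : F.dq v = F.dHom p := by
      conv_lhs => rw [dq_of_quot (p := p) hv5 hpk]
      exact F.dq_coset p hpk
    have hm := h.normal_Z.conj_mem _ (F.dFrame.hom_mem_Z.2 ⟨hpb, hpa⟩) (QuotientGroup.mk' _ ⟨y, hy⟩)
    obtain ⟨q, ⟨hqb, hqa⟩, hq⟩ := hm
    rw [F.dFrame_hom, F.dFrame_hom, ← hd, F.dq_eq hvC, dHom_apply, ← _root_.map_inv, ← _root_.map_mul,
      ← _root_.map_mul, QuotientGroup.mk'_apply, QuotientGroup.mk'_apply, QuotientGroup.eq] at hq
    obtain ⟨k, hk, hke⟩ := F.cSub_cases hq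
    have e : y * F.qb v * y⁻¹ = F.qb (cosetElt q k) := by
      rw [cosetElt, F.qb_mul (lift4_lt q) (by omega), ← hke]
      show y * F.qb v * y⁻¹ = F.qb (lift4 q) * ((F.qb (lift4 q))⁻¹ * (y * F.qb v * y⁻¹))
      rw [mul_inv_cancel_left]
    have hm2 : mul v v = 0 := by
      have hf := A_facts.2.2.1
      simp only [List.all_eq_true, Bool.and_eq_true] at hf
      exact Nat.eq_of_beq_eq_true (hf v hv).1.1.1.2
    have hq5 : cosetElt q k < 512 := mul_lt _ _
    have hsq : mul (cosetElt q k) (cosetElt q k) = 0 := (F.qb_eq_one (mul_lt _ _)).1 (by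
      rw [F.qb_mul hq5 hq5, ← e, show y * F.qb v * y⁻¹ * (y * F.qb v * y⁻¹) = y * (F.qb v * F.qb v) * y⁻¹ by group,
        ← F.qb_mul hv5 hv5, hm2, F.qb_zero, mul_one, mul_inv_cancel])
    exact ⟨_, List.contains_iff_mem.1 (Z_coset_V q hqb hqa k hk hsq), e⟩
  by_cases hx : x ∈ F.C1b
  · exact key x hx v hv
  obtain ⟨hv5, hv', -⟩ := V_code hv
  obtain ⟨v', hv'', e⟩ := key (x * F.qb 64) ((Subgroup.mul_mem_iff_of_index_two F.index_C1b).2
    (iff_of_false hx F.qb_inverting_not_mem)) (conj 192 v) hv'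
  refine ⟨v', hv'', ?_⟩
  rw [← e, F.qb_conj (by norm_num) hv5, ← inverting_check.2.1, F.qb_inv (by norm_num)]
  group

variable (F) in
/-- The centralizer of `V` modulo the core. -/
def CV : Subgroup F.Cb := centralizer {x | ∃ v ∈ listV, F.qb v = x}

theorem mem_CV {x : F.Cb} : x ∈ F.CV ↔ ∀ v ∈ listV, x * F.qb v = F.qb v * x := by
  refine ⟨fun h v hv => (mem_centralizer_iff.1 h _ ⟨v, hv, rfl⟩).symm, fun h => mem_centralizer_iff.2 ?_⟩
  rintro _ ⟨v, hv, rfl⟩
  exact (h v hv).symm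

theorem Other.CV_normal (h : F.Other) : F.CV.Normal := ⟨fun n hn g => mem_CV.2 fun v hv => by
  obtain ⟨v', hv', e⟩ := h.V_normal_mod g⁻¹ hv
  rw [inv_inv] at e
  have h' := mem_CV.1 hn v' hv'
  rw [show F.qb v = g * F.qb v' * g⁻¹ by rw [← e]; group,
    show g * n * g⁻¹ * (g * F.qb v' * g⁻¹) = g * (n * F.qb v') * g⁻¹ by group, h']
  group⟩

theorem qb_A_comm {a b : ℕ} (ha : a < 64) (hb : b < 64) : F.qb a * F.qb b = F.qb b * F.qb a := by
  have h := A_facts.1
  simp only [List.all_eq_true] at h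
  rw [← F.qb_mul (by omega) (by omega), ← F.qb_mul (by omega) (by omega),
    commB_iff.1 (h a (List.mem_range.2 ha) b (List.mem_range.2 hb))]

/-- **only `A` centralizes `V` modulo the core** -/
theorem Other.eq_one_of_odd (h : F.Other) {x : F.Cb} (hx : Odd (orderOf x))
    (hc : ∀ v ∈ listV, x * F.qb v = F.qb v * x) : x = 1 := by
  haveI : Fact (Nat.Prime 2) := ⟨Nat.prime_two⟩
  haveI := h.CV_normal
  let P : Sylow 2 F.Cb := (F.T.subtype F.T_le_C).mapSurjective F.qmap_surjective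
  have hP : ∀ y ∈ (P : Subgroup F.Cb), ∃ a < 512, F.qb a = y := by
    rintro _ ⟨w, hw, rfl⟩
    obtain ⟨a, ha, e⟩ := F.surj (w : G) (mem_subgroupOf.1 hw)
    exact ⟨a, ha, by rw [F.qb_eq ha]; exact congrArg F.qmap (Subtype.ext e)⟩
  have hV64 : ∀ v ∈ listV, v < 64 := fun v hv => by
    have hf := A_facts.2.2.1
    simp only [List.all_eq_true, Bool.and_eq_true, Nat.blt_eq] at hf
    exact (hf v hv).1.1.1.1
  have hPC : ∀ y ∈ (P : Subgroup F.Cb), y ∈ F.CV → ∃ a < 64, F.qb a = y := by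
    intro y hy hyC
    obtain ⟨a, ha, rfl⟩ := hP y hy
    refine ⟨a, ?_, rfl⟩
    have hcc := cent_V_check
    simp only [List.all_eq_true, List.mem_range, Bool.or_eq_true, Nat.blt_eq, List.any_eq_true,
      Bool.not_eq_true'] at hcc
    refine (hcc a ha).resolve_right fun ⟨v, hv, hn⟩ => Bool.false_ne_true (hn.symm.trans (commB_iff.2 ?_))
    have hv5 := (V_code hv).1
    exact F.qb_inj (mul_lt _ _) (mul_lt _ _) (by
      rw [F.qb_mul ha hv5, F.qb_mul hv5 ha]; exact mem_CV.1 hyC v hv)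
  have hAC : ∀ a < 64, F.qb a ∈ F.CV := fun a ha => mem_CV.2 fun v hv => qb_A_comm ha (hV64 v hv)
  -- the Sylow subgroup of `CV`
  set A0 : Subgroup ↥F.CV := ((P : Subgroup F.Cb) ⊓ F.CV).subgroupOf F.CV with hA0
  obtain ⟨Q, hQ⟩ := ((P.2.to_le (inf_le_left : (P : Subgroup F.Cb) ⊓ F.CV ≤ _)).of_equiv
    (subgroupOfEquivOfLe inf_le_right).symm : IsPGroup 2 A0).exists_le_sylow
  have hQA : (Q : Subgroup ↥F.CV) = A0 := by
    obtain ⟨g, hg⟩ := CfsgLib.Invol.exists_conj_le_sylow (Q.2.map F.CV.subtype) P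
    refine (eq_of_le_of_card_ge hQ ?_).symm
    rw [hA0, Nat.card_congr (subgroupOfEquivOfLe inf_le_right).toEquiv,
      ← Subgroup.card_map_of_injective (f := (MulAut.conj g).toMonoidHom.comp F.CV.subtype)
        ((MulAut.conj g).injective.comp F.CV.subtype_injective) (K := (Q : Subgroup ↥F.CV))]
    refine Subgroup.card_le_of_le ?_
    rintro _ ⟨q, hq, rfl⟩
    exact mem_inf.2 ⟨hg _ ⟨q, hq, rfl⟩, h.CV_normal.conj_mem _ q.2 g⟩
  have hQ64 : ∀ y ∈ (Q : Subgroup ↥F.CV), ∃ a < 64, F.qb a = (y : F.Cb) := fun y hy => by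
    rw [hQA, hA0, mem_subgroupOf] at hy
    exact hPC _ hy.1 hy.2
  have h64Q : ∀ a, (ha : a < 64) → (⟨F.qb a, hAC a ha⟩ : ↥F.CV) ∈ (Q : Subgroup ↥F.CV) := fun a ha => by
    rw [hQA, hA0, mem_subgroupOf]
    refine mem_inf.2 ⟨?_, hAC a ha⟩
    show F.qb a ∈ (P : Subgroup F.Cb)
    rw [F.qb_eq (by omega)]
    exact ⟨⟨F.f a, F.z_mem_C (by omega)⟩, mem_subgroupOf.2 (F.mem (by omega)), rfl⟩
  have hNC : normalizer ((Q : Subgroup ↥F.CV) : Set ↥F.CV) ≤ centralizer ((Q : Subgroup ↥F.CV) : Set ↥F.CV) := by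
    intro y hy
    refine CfsgLib.Invol.L34Type.mem_of_parts (fun m hp => ?_) fun k ho => ?_
    · have hmQ : y ^ m ∈ (Q : Subgroup ↥F.CV) := by
        have hh := Q.3 (Q.2.to_sup_of_normal_left' hp (zpowers_le.2 (pow_mem hy m))) le_sup_left
        exact hh.le (mem_sup_right (mem_zpowers _))
      refine mem_centralizer_iff.2 fun w hw => ?_
      obtain ⟨a, ha, hae⟩ := hQ64 w hw
      obtain ⟨b, hb, hbe⟩ := hQ64 _ hmQ
      exact Subtype.ext (by rw [Subgroup.coe_mul, Subgroup.coe_mul, ← hae, ← hbe]; exact qb_A_comm ha hb)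
    · set w := y ^ k with hw
      have hwn : w ∈ normalizer ((Q : Subgroup ↥F.CV) : Set ↥F.CV) := pow_mem hy k
      refine mem_centralizer_iff.2 fun q hq => ?_
      obtain ⟨a, ha, hae⟩ := hQ64 q hq
      obtain ⟨b, hb, hbe⟩ := hQ64 _ ((mem_normalizer_iff.1 hwn q).1 hq)
      set W : F.Cb := (w : F.Cb) with hW
      have hbe' : W * F.qb a * W⁻¹ = F.qb b := by rw [hbe, hae]; rfl
      -- the quotient of an element by its conjugate is an involution
      have hVsq : ∀ c < 64, mul c c ∈ listV := by decide +kernel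
      have hsq : W * (F.qb a * F.qb a) * W⁻¹ = F.qb a * F.qb a := by
        rw [← F.qb_mul (by omega) (by omega), mem_CV.1 w.2 _ (hVsq a ha), mul_inv_cancel_right]
      set u := F.qb b * (F.qb a)⁻¹ with hu
      have hu2 : u * u = 1 := by
        rw [hu, show F.qb b * (F.qb a)⁻¹ * (F.qb b * (F.qb a)⁻¹) =
            F.qb b * ((F.qb a)⁻¹ * F.qb b) * (F.qb a)⁻¹ by group,
          (Commute.inv_left (show Commute (F.qb a) (F.qb b) from qb_A_comm ha hb)).eq,
          show F.qb b * (F.qb b * (F.qb a)⁻¹) * (F.qb a)⁻¹ = (F.qb b * F.qb b) * (F.qb a * F.qb a)⁻¹ by group,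
          ← hsq, ← hbe']
        group
      have huV : ∃ v ∈ listV, F.qb v = u := by
        refine ⟨mul b (inv a), ?_, by rw [hu, F.qb_mul (by omega) (inv_lt _), F.qb_inv (by omega)]⟩
        have h1 : mul (mul b (inv a)) (mul b (inv a)) = 0 := (F.qb_eq_one (mul_lt _ _)).1 (by
          rw [F.qb_mul (mul_lt _ _) (mul_lt _ _), F.qb_mul (by omega) (inv_lt _), F.qb_inv (by omega)]
          exact hu2)
        have hcl : ∀ c < 64, ∀ d < 64, mul c (inv d) < 64 := by decide +kernel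
        have hf := A_facts.2.1
        simp only [List.all_eq_true, Bool.or_eq_true, Bool.not_eq_true', List.contains_iff_mem] at hf
        exact (hf _ (List.mem_range.2 (hcl b hb a ha))).resolve_left fun h' => by rw [h1] at h'; simp at h'
      obtain ⟨v, hv, hve⟩ := huV
      have hk : ∀ j : ℕ, W ^ j * F.qb a * (W ^ j)⁻¹ = u ^ j * F.qb a := by
        intro j
        induction j with
        | zero => simp
        | succ j ih =>
          have hWu : W * u * W⁻¹ = u := by rw [← hve, mem_CV.1 w.2 v hv, mul_inv_cancel_right]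
          rw [show W ^ (j + 1) * F.qb a * (W ^ (j + 1))⁻¹ = W * (W ^ j * F.qb a * (W ^ j)⁻¹) * W⁻¹ by
            rw [pow_succ']; group, ih,
            show W * (u ^ j * F.qb a) * W⁻¹ = (W * u * W⁻¹) ^ j * (W * F.qb a * W⁻¹) by rw [conj_pow]; group,
            hWu, hbe', pow_succ, mul_assoc, hu, inv_mul_cancel_right]
      have hWl : Odd (orderOf W) := by rw [hW, Subgroup.orderOf_coe]; exact ho
      have hul : u ^ orderOf W = 1 := by
        have h' := hk (orderOf W)
        rw [pow_orderOf_eq_one] at h'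
        simpa using h'.symm
      have hu1 : u = 1 := by
        obtain ⟨j, hj⟩ := hWl
        rw [hj, pow_succ, pow_mul, pow_two, hu2, one_pow, one_mul] at hul
        exact hul
      rw [hu, mul_inv_eq_one] at hu1
      refine Subtype.ext ?_
      rw [Subgroup.coe_mul, Subgroup.coe_mul, ← hae, ← hW]
      rw [hu1, mul_inv_eq_iff_eq_mul] at hbe'
      exact hbe'.symm
  have hcomp := MonoidHom.ker_transferSylow_isComplement' Q hNC
  set K := (MonoidHom.transferSylow Q hNC).ker with hK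
  have hKodd : Odd (Nat.card K) := by
    refine Nat.not_even_iff_odd.1 fun he => Q.not_dvd_index ?_
    rw [hcomp.index_eq_card]
    exact even_iff_two_dvd.1 he
  have hcore : Cfsg.oddCore ↥F.CV = ⊥ := by
    have h' := CfsgLib.Coprime.pPrimeCore_map_subtype_eq Nat.prime_two F.CV
    rw [show Cfsg.pPrimeCore 2 F.Cb = ⊥ from F.core_Cb, bot_inf_eq] at h'
    exact (Subgroup.map_eq_bot_iff_of_injective _ F.CV.subtype_injective).1 h'
  have hKbot : K = ⊥ := by
    rw [← le_bot_iff, ← hcore]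
    exact CfsgLib.Coprime.le_pPrimeCore (CfsgLib.ProdFusion.odd_iff_coprime.1 hKodd)
  have hQtop : (Q : Subgroup ↥F.CV) = ⊤ := by
    rw [hKbot, isComplement'_bot_left] at hcomp
    exact hcomp
  have hxQ : (⟨x, mem_CV.2 hc⟩ : ↥F.CV) ∈ (Q : Subgroup ↥F.CV) := hQtop ▸ mem_top _
  obtain ⟨k, hk⟩ := Q.2 ⟨_, hxQ⟩
  exact CfsgLib.Invol.eq_one_of_odd_of_pow_two hx (congrArg (fun t : ↥(Q : Subgroup ↥F.CV) => ((t : ↥F.CV) : F.Cb)) hk)

end Frame

end CfsgLib.Spor.HSSylow
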