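import Cfsg.Agent.Lib.Spor.HSSylow.OtherFactor
import Cfsg.Agent.Lib.Spor.HSSylow.CoreControl

/-!
# A proper subgroup containing the centralizers of the involutions of `V` in the other case
-/

set_option autoImplicit false
set_option maxRecDepth 100000
set_option linter.unusedSectionVars false
set_option linter.style.haveILetI false

namespace CfsgLib.Spor.HSSylow

open Subgroup
open CfsgLib.Invol
open CfsgLib.ProdFusion (OC OC_le odd_card_OC le_normalizer_OC_self odd_orderOf_of_mem)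

namespace Frame

universe u

variable {G : Type u} [Group G] [Finite G] {F : Frame G}

/-- the normaliser of `A` normalises `V` -/
theorem other_normA_le_normV : normalizer (F.A : Set G) ≤ normalizer (F.V : Set G) := fun g hg => by
  refine CfsgLib.ProdFusion.mem_of_forall_conj_mem fun v hv => ?_
  obtain ⟨a, ha, e⟩ := (mem_normalizer_iff.1 hg v).1 (V_spec hv).2.1
  have ha5 : a < 512 := lt_trans (List.mem_range.1 ha) (by norm_num)
  have h2 : mul a a = 0 := (F.f_eq_one (mul_lt _ _)).1 (by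
    rw [F.map_mul ha5 ha5, e, show g * v * g⁻¹ * (g * v * g⁻¹) = g * (v * v) * g⁻¹ by group, (V_spec hv).1]
    group)
  have hV := A_facts.2.1
  simp only [List.all_eq_true, Bool.or_eq_true, Bool.not_eq_true', List.contains_iff_mem] at hV
  exact ⟨a, (hV a ha).resolve_left fun h => by simp [h2] at h, e⟩

theorem Other.to_z (h : F.Other) {v : G} (hv : v ∈ F.V) (hv1 : v ≠ 1) :
    ∃ n ∈ normalizer (F.A : Set G), n * v * n⁻¹ = F.z := by
  obtain ⟨g, hg⟩ := isConj_iff.1 (h.conj_z hv hv1).symm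
  obtain ⟨n, hn, e⟩ := F.control_A (V_spec hv).2.1 (g := g) (by rw [hg]; exact (V_spec z_mem_V).2.1)
  exact ⟨n, hn, e.trans hg⟩

/-- the centralizer of `z` is its core times what normalises `V` -/
theorem Other.factor (h : F.Other) (g : G) (hg : g * F.z = F.z * g) :
    ∃ o n : G, o ∈ F.θ F.z ∧ n * F.z = F.z * n ∧ n ∈ normalizer (F.V : Set G) ∧ g = o * n := by
  haveI : Fact (Nat.Prime 2) := ⟨Nat.prime_two⟩
  have hgC : g ∈ F.C [2] := F.mem_C_singleton.2 hg
  set O := Cfsg.pPrimeCore 2 ↥(F.C [2]) with hO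
  set R' : Subgroup ↥(F.C [2]) := F.V.subgroupOf (F.C [2]) with hR'
  have hRC : F.V ≤ F.C [2] := V_le_T.trans F.T_le_C
  have hRp : IsPGroup 2 R' := (F.T.2.to_le V_le_T).of_equiv (subgroupOfEquivOfLe hRC).symm
  set M := O ⊔ R' with hM
  have hgR : ∀ x ∈ R', (⟨g, hgC⟩ : ↥(F.C [2])) * x * (⟨g, hgC⟩ : ↥(F.C [2]))⁻¹ ∈ M := by
    intro x hx
    obtain ⟨r, hr, hre⟩ := mem_subgroupOf.1 hx
    obtain ⟨r', hr', e⟩ := h.V_normal_mod (F.qmap ⟨g, hgC⟩) hr
    have hr5 := (V_code hr).1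
    have hr'5 := (V_code hr').1
    rw [F.qb_eq hr5, F.qb_eq hr'5, ← _root_.map_inv, ← _root_.map_mul, ← _root_.map_mul] at e
    have hx' : (⟨F.f r, F.z_mem_C hr5⟩ : ↥(F.C [2])) = x := Subtype.ext hre
    rw [hx'] at e
    have h1 := (F.qmap_eq_iff).1 e.symm
    rw [← mul_inv_cancel_left (⟨F.f r', F.z_mem_C hr'5⟩ : ↥(F.C [2]))
      ((⟨g, hgC⟩ : ↥(F.C [2])) * x * (⟨g, hgC⟩ : ↥(F.C [2]))⁻¹)]
    exact mul_mem (mem_sup_right (mem_subgroupOf.2 ⟨r', hr', rfl⟩)) (mem_sup_left h1)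
  set R'' := R'.map (MulAut.conj (⟨g, hgC⟩ : ↥(F.C [2]))).toMonoidHom with hR''
  have hle : R'' ≤ M := by rintro _ ⟨x, hx, rfl⟩; exact hgR x hx
  have hidx : ¬ 2 ∣ (R'.subgroupOf M).index := by
    intro h'
    have h1 : (R'.subgroupOf M).index ∣ Nat.card O := by
      have e1 : Nat.card (R'.subgroupOf M) = Nat.card R' :=
        Nat.card_congr (subgroupOfEquivOfLe (le_sup_right : R' ≤ M)).toEquiv
      have e2 : Nat.card (O.subgroupOf M) = Nat.card O :=
        Nat.card_congr (subgroupOfEquivOfLe (le_sup_left : O ≤ M)).toEquiv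
      have e3 : (O.subgroupOf M).index ∣ Nat.card R' := by
        change O.relIndex (O ⊔ R') ∣ Nat.card R'
        rw [sup_comm, relIndex_sup_right]
        exact relIndex_dvd_card O R'
      have e4 := (R'.subgroupOf M).card_mul_index
      rw [e1, ← (O.subgroupOf M).card_mul_index, e2] at e4
      have h2 : Nat.card R' * (R'.subgroupOf M).index ∣ Nat.card R' * Nat.card O := by
        rw [e4, mul_comm (Nat.card R')]
        exact mul_dvd_mul_left _ e3
      exact Nat.dvd_of_mul_dvd_mul_left Nat.card_pos h2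
    exact (CfsgLib.ProdFusion.odd_iff_coprime.2 (CfsgLib.Coprime.pPrimeCore_coprime Nat.prime_two)).not_two_dvd_nat
      (h'.trans h1)
  obtain ⟨c, hc⟩ := CfsgLib.Invol.exists_conj_le_sylow
    (((hRp.map _ : IsPGroup 2 R'')).of_equiv (subgroupOfEquivOfLe hle).symm)
    ((hRp.of_equiv (subgroupOfEquivOfLe (le_sup_right : R' ≤ M)).symm).toSylow hidx)
  obtain ⟨o, ho, r₀, hr₀, hcm⟩ : ∃ o ∈ O, ∃ r₀ ∈ R', (c : ↥(F.C [2])) = r₀ * o := by
    have hcc : (c : ↥(F.C [2])) ∈ R' ⊔ O := by rw [sup_comm]; exact c.2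
    rw [← SetLike.mem_coe, mul_normal, Set.mem_mul] at hcc
    obtain ⟨r₀, hr₀, o, ho, e⟩ := hcc
    exact ⟨o, ho, r₀, hr₀, e.symm⟩
  set n := (o : G) * g with hn
  refine ⟨(o : G)⁻¹, n, inv_mem (F.mem_OC_z ho), F.mem_C_singleton.1 (mul_mem o.2 hgC), ?_, by rw [hn]; group⟩
  refine CfsgLib.ProdFusion.mem_of_forall_conj_mem fun y hy => ?_
  have hy' : (⟨y, hRC hy⟩ : ↥(F.C [2])) ∈ R' := mem_subgroupOf.2 hy
  have h1 := hc ⟨(MulAut.conj (⟨g, hgC⟩ : ↥(F.C [2]))).toMonoidHom ⟨y, hRC hy⟩, hle (mem_map_of_mem _ hy')⟩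
    (mem_subgroupOf.2 (mem_map_of_mem _ hy'))
  have h2 : ((c : ↥(F.C [2])) : G) * (g * y * g⁻¹) * ((c : ↥(F.C [2])) : G)⁻¹ ∈ F.V := mem_subgroupOf.1 h1
  rw [hcm, Subgroup.coe_mul] at h2
  have h3 := mul_mem (mul_mem (inv_mem (mem_subgroupOf.1 hr₀)) h2) (mem_subgroupOf.1 hr₀)
  rw [hn]
  convert h3 using 1
  group

/-- balance at the central involution -/
theorem Other.balance_z (h : F.Other) {u : G} (hu : u ∈ F.V) :
    F.θ u ⊓ centralizer ({F.z} : Set G) ≤ F.θ F.z := by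
  rintro x ⟨hxu, hxz⟩
  replace hxz : x ∈ centralizer ({F.z} : Set G) := hxz
  have hxC : x ∈ F.C [2] := by rwa [C_eq_centralizer_z]
  set D := F.θ u ⊓ F.C [2] with hD
  have hDodd : Odd (Nat.card D) := CfsgLib.ProdFusion.odd_of_le inf_le_left (odd_card_OC _)
  have hxD : x ∈ D := mem_inf.2 ⟨hxu, hxC⟩
  set xb := F.qmap ⟨x, hxC⟩ with hxb
  have hodd : ∀ y, (hy : y ∈ D) → Odd (orderOf (F.qmap ⟨y, hy.2⟩)) := fun y hy => by
    refine Odd.of_dvd_nat ?_ (orderOf_map_dvd F.qmap _)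
    rw [← Subgroup.orderOf_coe]
    exact odd_orderOf_of_mem hDodd hy
  have hcomm : ∀ v ∈ listV, xb * F.qb v = F.qb v * xb := by
    intro v hv
    have hv5 := (V_code hv).1
    have hvV : F.f v ∈ F.V := ⟨v, hv, rfl⟩
    have hvC : F.f v ∈ F.C [2] := F.z_mem_C hv5
    have h1 : F.f v * x * (F.f v)⁻¹ ∈ D :=
      mem_inf.2 ⟨θ_inv ((V_spec hvV).2.2.2 u hu) hxu, mul_mem (mul_mem hvC hxC) (inv_mem hvC)⟩
    have h2 : F.f v * x * (F.f v)⁻¹ * x⁻¹ ∈ D := mul_mem h1 (inv_mem hxD)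
    set e := F.qmap ⟨F.f v * x * (F.f v)⁻¹ * x⁻¹, h2.2⟩ with he
    have he' : e = F.qb v * xb * (F.qb v)⁻¹ * xb⁻¹ := by
      rw [F.qb_eq hv5, hxb, ← _root_.map_inv, ← _root_.map_inv, ← _root_.map_mul, ← _root_.map_mul,
        ← _root_.map_mul]
      rfl
    obtain ⟨v', hv', ev⟩ := h.V_normal_mod xb hv
    have hv5' := (V_code hv').1
    have hinv : xb * (F.qb v)⁻¹ * xb⁻¹ = (F.qb v')⁻¹ := by rw [← ev]; group
    have hsq : ∀ a ∈ listV, mul a a = 0 := fun a ha => by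
      have hf := A_facts.2.2.1
      simp only [List.all_eq_true, Bool.and_eq_true] at hf
      exact Nat.eq_of_beq_eq_true (hf a ha).1.1.1.2
    have hcm : mul v (inv v') = mul (inv v') v ∧ mul (inv v') (inv v') = 0 := by
      have hh : ∀ a ∈ listV, ∀ b ∈ listV, mul a (inv b) = mul (inv b) a ∧ mul (inv b) (inv b) = 0 := by
        decide +kernel
      exact hh v hv v' hv'
    have he2 : e * e = 1 := by
      rw [he', show F.qb v * xb * (F.qb v)⁻¹ * xb⁻¹ = F.qb v * (xb * (F.qb v)⁻¹ * xb⁻¹) by group, hinv,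
        ← F.qb_inv hv5', ← F.qb_mul hv5 (inv_lt _), ← F.qb_mul (mul_lt _ _) (mul_lt _ _)]
      refine (F.qb_eq_one (mul_lt _ _)).2 ?_
      rw [mul_assoc' hv5 (inv_lt _) (mul_lt _ _), ← mul_assoc' (inv_lt _) hv5 (inv_lt _), ← hcm.1,
        mul_assoc' hv5 (inv_lt _) (inv_lt _), hcm.2, mul_zero' hv5, hsq v hv]
    have he1 : e = 1 := by
      obtain ⟨j, hj⟩ := hodd _ h2
      have hp := pow_orderOf_eq_one e
      rw [he] at hp he2 ⊢
      rwa [hj, pow_succ, pow_mul, pow_two, he2, one_pow, one_mul] at hp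
    rw [he', mul_inv_eq_one, mul_inv_eq_iff_eq_mul] at he1
    exact he1.symm
  have hx1 := h.eq_one_of_odd (hodd x hxD) hcomm
  exact F.mem_OC_z ((QuotientGroup.eq_one_iff _).1 hx1)

theorem Other.balance (h : F.Other) {u v : G} (hu : u ∈ F.V) (hv : v ∈ F.V) (hv1 : v ≠ 1) :
    F.θ u ⊓ centralizer ({v} : Set G) ≤ F.θ v := by
  obtain ⟨n, hn, e⟩ := h.to_z hv hv1
  rintro x ⟨hxu, hxv⟩
  replace hxv : x ∈ centralizer ({v} : Set G) := hxv
  have h1 := h.balance_z ((mem_normalizer_iff.1 (other_normA_le_normV hn) u).1 hu) (x := n * x * n⁻¹)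
    ⟨F.conj_mem_θ n hxu, mem_centralizer_singleton_iff.2 (by
      rw [← e, show n * x * n⁻¹ * (n * v * n⁻¹) = n * (x * v) * n⁻¹ by group, mem_centralizer_singleton_iff.1 hxv]
      group)⟩
  have h2 := F.conj_mem_θ n⁻¹ h1
  rwa [show n⁻¹ * (n * x * n⁻¹) * n⁻¹⁻¹ = x by group, show n⁻¹ * F.z * n⁻¹⁻¹ = v by rw [← e]; group] at h2

theorem Other.odd_W (h : F.Other) : Odd (Nat.card ↥F.W) := by
  haveI : Fact (Nat.Prime 2) := ⟨Nat.prime_two⟩
  have hfun : Cfsg.IsSolvableSignalizerFunctor 2 F.V (fun a => F.θ a) := by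
    refine ⟨⟨fun a _ _ => OC_le _, fun a _ _ h' => Nat.not_even_iff_odd.2 (odd_card_OC _) (even_iff_two_dvd.2 h'),
      fun a ha _ b hb x hx => θ_inv ((V_spec hb).2.2.2 a ha) hx,
      fun a ha _ b hb hb1 => h.balance ha hb hb1⟩,
      fun a _ _ => Cfsg.Agent.S0205.result (odd_card_OC (centralizer ({a} : Set G)))⟩
  obtain ⟨X, hX, hXθ⟩ := CfsgLib.SolvSignalizer.exists_complete elem_V (by rw [card_V]; norm_num) hfun
  refine CfsgLib.ProdFusion.odd_of_le (iSup_le fun v => hXθ v v.2.1 v.2.2) ?_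
  rw [Nat.odd_iff]
  have := hX.2.1
  omega

/-- **a proper subgroup containing `N(A)` and the centralizer of `z`** -/
theorem Other.exists_proper [IsSimpleGroup G] (h : F.Other) :
    ∃ M : Subgroup G, M ≠ ⊤ ∧ normalizer (F.A : Set G) ≤ M ∧ centralizer ({F.z} : Set G) ≤ M := by
  have h512 : 512 ∣ Nat.card G := F.card_T ▸ Subgroup.card_subgroup_dvd_card (F.T : Subgroup G)
  by_cases hW : F.W = ⊥
  · refine ⟨normalizer (F.V : Set G), fun hM => ?_, other_normA_le_normV, fun g hg => ?_⟩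
    · rcases (normalizer_eq_top_iff.1 hM).eq_bot_or_eq_top with hb | ht
      · exact F.z_ne ((mem_bot).1 (hb ▸ z_mem_V))
      · have h8 := card_V (F := F)
        rw [ht, Subgroup.card_top] at h8
        rw [h8] at h512
        norm_num at h512
    · obtain ⟨o, n, ho, -, hn, rfl⟩ := h.factor g (mem_centralizer_singleton_iff.1 hg)
      have ho1 : o = 1 := mem_bot.1 (hW ▸ θ_le_W_V z_mem_V F.z_ne ho)
      rwa [ho1, one_mul]
  · refine ⟨F.M, fun hM => ?_, normA_le_M, fun g hg => ?_⟩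
    · rcases (normalizer_eq_top_iff.1 hM).eq_bot_or_eq_top with hb | ht
      · exact hW hb
      · have ho := h.odd_W
        rw [ht, Subgroup.card_top] at ho
        exact Nat.not_even_iff_odd.2 ho (even_iff_two_dvd.2 ((by norm_num : (2 : ℕ) ∣ 512).trans h512))
    · obtain ⟨o, n, ho, -, hn, rfl⟩ := h.factor g (mem_centralizer_singleton_iff.1 hg)
      exact mul_mem (le_normalizer (θ_le_W_V z_mem_V F.z_ne ho)) (conj_W_le fun v hv hv1 =>
        θ_le_W_V ((mem_normalizer_iff.1 hn v).1 hv) fun e => hv1 (conj_eq_one_iff.1 e))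

end Frame

end CfsgLib.Spor.HSSylow
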