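import Cfsg.Agent.Lib.Spor.HSSylow.Recog.Centre
import Cfsg.Agent.Lib.Spor.HSType.Final
import Cfsg.Agent.Lib.Spor.ExtraspecialSubgroup

/-!
# Recognition of the Higman–Sims group from a frame

Without an odd core, a fused and central frame gives the centralizer and the two-local subgroup of the
Higman–Sims group.
-/

set_option autoImplicit false
set_option linter.unusedSectionVars false
set_option linter.style.haveILetI false
set_option maxRecDepth 100000

namespace CfsgLib.Spor.HSSylow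

open Subgroup

/-- The code of a vector. -/
def codeA (u : ZMod 4 × ZMod 4 × ZMod 4) : ℕ := u.1.val + 4 * u.2.1.val + 16 * u.2.2.val

theorem codeA_facts : (∀ u v : ZMod 4 × ZMod 4 × ZMod 4, addA (codeA u) (codeA v) = codeA (u + v)) ∧
    (∀ u : ZMod 4 × ZMod 4 × ZMod 4, codeA u < 64) ∧
    (∀ u : ZMod 4 × ZMod 4 × ZMod 4, codeA u = 0 → u = 0) := by
  decide +kernel

namespace Frame

variable {G : Type*} [Group G] (F : Frame G)

/-- the coordinates on `A` -/
theorem exists_A_equiv : Nonempty (↥F.A ≃* Multiplicative (ZMod 4 × ZMod 4 × ZMod 4)) := by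
  have hlt : ∀ u, codeA u < 512 := fun u => (codeA_facts.2.1 u).trans (by norm_num)
  let ψ : Multiplicative (ZMod 4 × ZMod 4 × ZMod 4) →* F.A := MonoidHom.mk'
    (fun u => ⟨F.f (codeA u.toAdd), codeA u.toAdd, List.mem_range.2 (codeA_facts.2.1 _), rfl⟩)
    fun u v => Subtype.ext (by
      show F.f (codeA (u.toAdd + v.toAdd)) = F.f (codeA u.toAdd) * F.f (codeA v.toAdd)
      have h := recog_A_mul
      simp only [List.all_eq_true, List.mem_range] at h
      rw [← F.map_mul (hlt _) (hlt _), Nat.eq_of_beq_eq_true (h _ (codeA_facts.2.1 _) _ (codeA_facts.2.1 _)),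
        codeA_facts.1])
  have hinj : Function.Injective ψ := (injective_iff_map_eq_one _).2 fun u hu =>
    Multiplicative.toAdd.injective (codeA_facts.2.2 _ ((F.f_eq_one (hlt _)).1 (congrArg Subtype.val hu)))
  refine ⟨(MulEquiv.ofBijective ψ ?_).symm⟩
  haveI : Finite ↥F.A := Nat.finite_of_card_ne_zero (by rw [F.card_A]; norm_num)
  haveI := Fintype.ofFinite ↥F.A
  refine (Fintype.bijective_iff_injective_and_card ψ).2 ⟨hinj, ?_⟩
  rw [← Nat.card_eq_fintype_card, ← Nat.card_eq_fintype_card, F.card_A]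
  show Nat.card (ZMod 4 × ZMod 4 × ZMod 4) = 64
  simp

/-- the cyclic subgroup of order four -/
theorem cyclic_Cy : IsCyclic F.Cy ∧ Nat.card ↥F.Cy = 4 := by
  have hcard : Nat.card ↥F.Cy = 4 := F.card_sub _ (by decide)
  refine ⟨?_, hcard⟩
  have hf : F.f 1 ∈ F.Cy := ⟨1, by decide, rfl⟩
  haveI : Finite ↥F.Cy := Nat.finite_of_card_ne_zero (by rw [hcard]; norm_num)
  refine isCyclic_of_orderOf_eq_card ⟨F.f 1, hf⟩ ?_
  rw [hcard, ← Subgroup.orderOf_coe]
  refine orderOf_eq_prime_pow (p := 2) (n := 1) ?_ ?_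
  · rw [pow_one, pow_two, ← F.map_mul (by norm_num) (by norm_num), F.f_eq_one (mul_lt _ _)]
    decide +kernel
  · rw [show (2 : ℕ) ^ (1 + 1) = 2 + 2 from rfl, pow_add, pow_two, ← F.map_mul (by norm_num) (by norm_num),
      show mul 1 1 = 2 from R_facts.2.2.2.2]
    exact F.z_sq

variable [Finite G]

/-- the extraspecial subgroup -/
theorem extraspecial_E : Cfsg.IsExtraspecial 2 F.E := by
  have h := recog_E_facts
  simp only [List.all_eq_true, Bool.or_eq_true, beq_iff_eq] at h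
  have hlt : ∀ a ∈ listE, a < 512 := by decide
  have hzero : ∀ a, a < 512 → (a = 0 ↔ F.f a = 1) := fun a ha => (F.f_eq_one ha).symm
  have htwo : ∀ a, a < 512 → (a = 2 ↔ F.f a = F.z) := fun a ha =>
    ⟨fun e => e ▸ rfl, fun e => F.inj ha (by norm_num) e⟩
  refine CfsgLib.Spor.LargeQ.isExtraspecial_sub F.T.2 (F.sub_le _ _) F.z_ord ⟨2, by decide, rfl⟩ ?_ ?_ ?_ ?_
  · rintro _ ⟨a, ha, rfl⟩ _ ⟨b, hb, rfl⟩
    rw [← F.map_mul (hlt a ha) (hlt b hb), ← F.f_inv (hlt a ha), ← F.map_mul (mul_lt _ _) (inv_lt _),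
      ← F.f_inv (hlt b hb), ← F.map_mul (mul_lt _ _) (inv_lt _), ← hzero _ (mul_lt _ _), ← htwo _ (mul_lt _ _)]
    exact (h.1 a ha b hb).imp Nat.eq_of_beq_eq_true Nat.eq_of_beq_eq_true
  · rintro _ ⟨a, ha, rfl⟩
    rw [← F.map_mul (hlt a ha) (hlt a ha), ← hzero _ (mul_lt _ _), ← htwo _ (mul_lt _ _)]
    exact (h.2.1 a ha).imp Nat.eq_of_beq_eq_true Nat.eq_of_beq_eq_true
  · rintro _ ⟨u, hu, rfl⟩
    rw [← hzero _ (hlt u hu), ← htwo _ (hlt u hu)]
    have h3 := Bool.eq_iff_iff.1 (h.2.2.1 u hu)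
    simp only [List.all_eq_true, Bool.or_eq_true] at h3
    constructor
    · intro hc
      exact (h3.1 fun s hs => commB_iff.2 ((F.f_comm (hlt s hs) (hlt u hu)).1 (hc _ ⟨s, hs, rfl⟩))).imp
        Nat.eq_of_beq_eq_true Nat.eq_of_beq_eq_true
    · rintro he _ ⟨s, hs, rfl⟩
      exact (F.f_comm (hlt s hs) (hlt u hu)).2
        (commB_iff.1 (h3.2 (he.elim (fun e => Or.inl (by rw [e]; rfl)) (fun e => Or.inr (by rw [e]; rfl))) s hs))
  · have h4 := h.2.2.2.1
    simp only [nonabB, List.any_eq_true, Bool.not_eq_true'] at h4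
    obtain ⟨a, ha, b, hb, hab⟩ := h4
    refine ⟨_, ⟨a, ha, rfl⟩, _, ⟨b, hb, rfl⟩, fun e => ?_⟩
    rw [F.f_comm (hlt a ha) (hlt b hb), ← commB_iff, hab] at e
    exact Bool.false_ne_true e

/-- the cyclic subgroup meets the extraspecial one in its centre -/
theorem Cy_inf_E : F.Cy ⊓ F.E = F.E ⊓ centralizer (F.E : Set G) := by
  have hlt : ∀ a ∈ listE, a < 512 := by decide
  ext g
  rw [mem_inf, mem_inf]
  constructor
  · rintro ⟨hc, he⟩
    refine ⟨he, mem_centralizer_iff.2 fun e hee => ?_⟩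
    obtain ⟨a, ha, rfl⟩ := hee
    have hR : F.f a ∈ F.R := ⟨a, (inR_iff (hlt a ha)).1 (by
      have h := recog_R_facts.2.2.2.2.2.2.2.2
      simp only [List.all_eq_true, List.mem_append] at h
      exact h a (Or.inl (Or.inr ha))), rfl⟩
    exact ((F.mem_Cy_iff (F.Cy_le_R hc)).1 hc _ hR).symm
  · rintro ⟨⟨u, hu, rfl⟩, hc⟩
    refine ⟨⟨u, ?_, rfl⟩, u, hu, rfl⟩
    have h := recog_E_facts.2.2.1
    simp only [List.all_eq_true, beq_iff_eq] at h
    have h3 := Bool.eq_iff_iff.1 (h u hu)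
    simp only [List.all_eq_true, Bool.or_eq_true] at h3
    rcases h3.1 (fun s hs => commB_iff.2 ((F.f_comm (hlt s hs) (hlt u hu)).1
      (mem_centralizer_iff.1 hc _ ⟨s, hs, rfl⟩))) with e | e <;> rw [Nat.eq_of_beq_eq_true e] <;> decide

/-- the two generate `R` -/
theorem Cy_sup_E : F.Cy ⊔ F.E = F.R := by
  have hR : ∀ a ∈ listE, a ∈ listR := by decide
  refine le_antisymm (sup_le F.Cy_le_R fun g ⟨a, ha, e⟩ => ⟨a, hR a ha, e⟩) ?_
  rintro _ ⟨r, hr, rfl⟩
  have h := recog_R_facts.2.2.2.2.2.2.1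
  simp only [List.all_eq_true, List.any_eq_true] at h
  obtain ⟨c, hc, a, ha, e⟩ := h r hr
  rw [← Nat.eq_of_beq_eq_true e, F.map_mul (listR_lt (line_sub_R 0 (Cy_sub_line 0 hc))) (listR_lt (hR a ha))]
  exact mul_mem (mem_sup_left ⟨c, hc, rfl⟩) (mem_sup_right ⟨a, ha, rfl⟩)

end Frame

/-- a fused central frame without odd core belongs to the Higman–Sims group -/
theorem recognise {G : Type*} [Group G] [Finite G] (F : Frame G) (hF : F.Fused) (hC : F.Central)
    (hO : CfsgLib.ProdFusion.OC (centralizer ({F.z} : Set G)) = ⊥) : Cfsg.Spor.IsoHS G := by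
  classical
  haveI : Fact (Nat.Prime 2) := ⟨Nat.prime_two⟩
  obtain ⟨φ, hφ, hker⟩ := F.exists_action hF hC hO
  obtain ⟨eA⟩ := F.exists_A_equiv
  obtain ⟨eH⟩ := F.exists_Cz_equiv hC hO hF
  obtain ⟨hCy, hCycard⟩ := F.cyclic_Cy
  obtain ⟨M, hM⟩ : ∃ M, M = normalizer (F.V : Set G) := ⟨_, rfl⟩
  subst hM
  have hAM : F.A ≤ normalizer (F.V : Set G) := F.A_le_T.trans F.T_le_normV
  have hcore : Cfsg.pCore 2 ↥(normalizer (F.V : Set G)) = φ.ker := by
    have hp : IsPGroup 2 φ.ker := by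
      rw [hker]
      exact (F.T.2.to_le F.A_le_T).of_equiv (subgroupOfEquivOfLe hAM).symm
    refine le_antisymm ?_ (CfsgLib.PGroup.le_pCore (MonoidHom.normal_ker φ) hp)
    haveI := (CfsgLib.Coprime.pCore_normal' (G := ↥(normalizer (F.V : Set G))) 2)
    haveI : ((Cfsg.pCore 2 ↥(normalizer (F.V : Set G))).map φ).Normal := Normal.map inferInstance φ hφ
    haveI := Cfsg.Agent.S2553.gl_three_two.1
    rw [← Subgroup.map_eq_bot_iff]
    refine (IsSimpleGroup.eq_bot_or_eq_top_of_normal _ inferInstance).resolve_right fun e => ?_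
    obtain ⟨k, hk⟩ := IsPGroup.iff_card.1
      ((CfsgLib.PGroup.isPGroup_pCore 2 ↥(normalizer (F.V : Set G))).map φ)
    rw [e, card_top, Cfsg.Agent.S2553.gl_three_two.2] at hk
    have h7 : 7 ∣ 2 ^ k := hk ▸ (by norm_num)
    exact absurd ((Nat.prime_dvd_prime_iff_eq (by norm_num) Nat.prime_two).1
      (Nat.Prime.dvd_of_dvd_pow (by norm_num) h7)) (by norm_num)
  let K : CfsgLib.Spor.HSType.Ctx G F.z :=
    { ht := F.z_ord, H := centralizer ({F.z} : Set G), hH := rfl, R := F.R,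
      hR := (F.pCore_Cz hC hO hF).symm, Cy := F.Cy, E := F.E, hCy := hCy, hCycard := hCycard,
      hCyle := le_inf F.Cy_le_R fun c hc => mem_centralizer_iff.2 fun r hr =>
        ((F.mem_Cy_iff (F.Cy_le_R hc)).1 hc r hr).symm,
      hEle := F.Cy_sup_E ▸ le_sup_right, hEex := F.extraspecial_E,
      hEcard := F.card_sub _ recog_E_facts.2.2.2.2.2 |>.trans recog_E_facts.2.2.2.2.1,
      hprod := F.Cy_sup_E, hmeet := F.Cy_inf_E, eH := eH, V := F.V,
      hVcomm := ⟨⟨fun a b => Subtype.ext (F.comm_A (F.V_le_A a.2) (F.V_le_A b.2))⟩⟩,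
      hVexp := fun v hv => (pow_two v).trans (F.V_sq hv), hVcard := F.natCard_V,
      hVR := fun g ⟨a, ha, e⟩ => ⟨a, (by decide : ∀ a ∈ listV, a ∈ listR) a ha, e⟩,
      M := normalizer (F.V : Set G), hM := rfl,
      eOM := ((MulEquiv.subgroupCongr (hcore.trans hker)).trans (subgroupOfEquivOfLe hAM)).trans eA,
      eM := (QuotientGroup.quotientMulEquivOfEq hcore).trans (QuotientGroup.quotientKerEquivOfSurjective φ hφ) }
  obtain ⟨D, hDM, hDA, hDV⟩ := K.exists_mdata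
  obtain ⟨Fm, hc, hac⟩ := D.exists_mgens
  let W : CfsgLib.Spor.HSType.Frame K := { D := D, hM := hDM, hA := hDA, hV := hDV, F := Fm, hc := hc }
  obtain ⟨Q⟩ := CfsgLib.Spor.HSType.exists_pres (W := W) (W.split hac)
  obtain ⟨e⟩ := Q.equiv_P (F.card_Cz hC hO hF)
  obtain ⟨e'⟩ := CfsgLib.Spor.HSPerm.nonempty_equiv_HS
  exact ⟨e.trans e'.symm⟩

end CfsgLib.Spor.HSSylow
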