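import Cfsg.Agent.Lib.Spor.HSSylow.Frame
import Cfsg.Agent.Lib.Spor.HSSylow.Classes
import Cfsg.Agent.Lib.Spor.HSSylow.Transport.Data
import Cfsg.Agent.Lib.Spor.HSPerm.Out

/-!
# The labelling of a Sylow two-subgroup of type Higman–Sims

The codes label the Sylow two-subgroup of the permutation group through the table `qTab`; an automorphism of
the coded group exchanging two classes twists a frame.
-/

set_option autoImplicit false
set_option maxRecDepth 100000

namespace CfsgLib.Spor.HSSylow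

open CfsgLib.Spor

/-- The number in the permutation table of a code. -/
def qOf (n : ℕ) : ℕ := (qTab >>> (9 * n)) &&& 511

/-- The twisted code. -/
def tw (n : ℕ) : ℕ := (twistTab >>> (9 * n)) &&& 511

/-- The codes of the three generators. -/
def gen (k : ℕ) : ℕ := [444, 64, 185].getD k 0

theorem qOf_lt (n : ℕ) : qOf n < 512 := lt_of_le_of_lt Nat.and_le_right (by norm_num)

theorem tw_lt (n : ℕ) : tw n < 512 := lt_of_le_of_lt Nat.and_le_right (by norm_num)

theorem transport_check : qOf 0 = 0 ∧ tw 0 = 0 ∧ ((List.range 3).all fun k => Nat.blt (gen k) 512 &&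
    Nat.beq (qOf (gen k)) (HSPerm.sylN k 0) &&
    (List.range 512).all fun n => Nat.beq (qOf (mul (gen k) n)) (HSPerm.sylN k (qOf n)) &&
      Nat.beq (tw (mul (gen k) n)) (mul (tw (gen k)) (tw n))) = true ∧
    ((List.range 512).all fun n => Nat.beq (tw (tw (tw (tw n)))) n) = true := by
  decide +kernel

theorem gen_step {k n : ℕ} (hk : k < 3) (hn : n < 512) : gen k < 512 ∧
    qOf (mul (gen k) n) = HSPerm.sylN k (qOf n) ∧ tw (mul (gen k) n) = mul (tw (gen k)) (tw n) := by
  have h := transport_check.2.2.1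
  simp only [List.all_eq_true, List.mem_range, Bool.and_eq_true, Nat.blt_eq] at h
  obtain ⟨⟨h1, -⟩, h2⟩ := h k hk
  exact ⟨h1, Nat.eq_of_beq_eq_true (h2 n hn).1, Nat.eq_of_beq_eq_true (h2 n hn).2⟩

theorem tw_four {n : ℕ} (hn : n < 512) : tw (tw (tw (tw n))) = n := by
  have h := transport_check.2.2.2
  simp only [List.all_eq_true, List.mem_range] at h
  exact Nat.eq_of_beq_eq_true (h n hn)

theorem qOf_surj {q : ℕ} (hq : q < 512) : ∃ n < 512, qOf n = q := by
  have htree := HSPerm.syl_tree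
  simp only [List.all_eq_true, List.any_eq_true, List.mem_range, Bool.or_eq_true, decide_eq_true_eq,
    beq_iff_eq] at htree
  induction q using Nat.strong_induction_on with
  | _ q ih =>
    rcases htree q hq with rfl | ⟨k, hk, r, hr, e⟩
    · exact ⟨0, by norm_num, transport_check.1⟩
    · obtain ⟨n, hn, en⟩ := ih r hr (by omega)
      obtain ⟨hg, e2, -⟩ := gen_step hk hn
      exact ⟨mul (gen k) n, mul_lt _ _, by rw [e2, en, e]⟩

theorem qOf_injective {a b : ℕ} (ha : a < 512) (hb : b < 512) (e : qOf a = qOf b) : a = b := by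
  have hs : Function.Surjective fun n : Fin 512 => (⟨qOf n.1, qOf_lt _⟩ : Fin 512) := fun q => by
    obtain ⟨n, hn, en⟩ := qOf_surj q.2
    exact ⟨⟨n, hn⟩, Fin.ext en⟩
  exact congrArg Fin.val ((Finite.injective_iff_surjective.2 hs) (a₁ := ⟨a, ha⟩) (a₂ := ⟨b, hb⟩) (Fin.ext e))

/-- A property containing the unit and closed under the generators holds for all codes. -/
theorem forall_of_gens {p : ℕ → Prop} (h0 : p 0) (hs : ∀ k < 3, ∀ n < 512, p n → p (mul (gen k) n)) :
    ∀ n < 512, p n := by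
  have htree := HSPerm.syl_tree
  simp only [List.all_eq_true, List.any_eq_true, List.mem_range, Bool.or_eq_true, decide_eq_true_eq,
    beq_iff_eq] at htree
  intro n hn
  suffices H : ∀ q, q < 512 → ∀ m < 512, qOf m = q → p m from H _ (qOf_lt n) n hn rfl
  intro q
  induction q using Nat.strong_induction_on with
  | _ q ih =>
    intro hq m hm em
    rcases htree q hq with rfl | ⟨k, hk, r, hr, e⟩
    · rw [qOf_injective hm (by norm_num : 0 < 512) (em.trans transport_check.1.symm)]
      exact h0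
    · obtain ⟨b, hb, eb⟩ := qOf_surj (show r < 512 by omega)
      obtain ⟨hg, e2, -⟩ := gen_step hk hb
      rw [qOf_injective hm (mul_lt (gen k) b) (by rw [em, e2, eb, e])]
      exact hs k hk b hb (ih r hr (by omega) b hb eb)

theorem Q_qOf_mul : ∀ a < 512, ∀ b < 512,
    HSPerm.Q (qOf (mul a b)) = HSPerm.Q (qOf a) * HSPerm.Q (qOf b) := by
  refine forall_of_gens (fun b hb => ?_) fun k hk n hn ih b hb => ?_
  · rw [zero_mul' hb, transport_check.1, HSPerm.Q_zero, one_mul]
  · obtain ⟨hg, e1, -⟩ := gen_step hk hn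
    obtain ⟨-, e2, -⟩ := gen_step hk (mul_lt n b)
    rw [mul_assoc' hg hn hb, e2, ← (HSPerm.syl_step hk (qOf_lt _)).1, ih b hb, e1,
      ← (HSPerm.syl_step hk (qOf_lt _)).1, mul_assoc]

theorem tw_mul : ∀ a < 512, ∀ b < 512, tw (mul a b) = mul (tw a) (tw b) := by
  refine forall_of_gens (fun b hb => ?_) fun k hk n hn ih b hb => ?_
  · rw [zero_mul' hb, transport_check.2.1, zero_mul' (tw_lt b)]
  · obtain ⟨hg, -, e1⟩ := gen_step hk hn
    obtain ⟨-, -, e2⟩ := gen_step hk (mul_lt n b)
    rw [mul_assoc' hg hn hb, e2, ih b hb, e1, mul_assoc' (tw_lt _) (tw_lt _) (tw_lt _)]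

/-- A group whose Sylow two-subgroup is that of the Higman–Sims group has a frame. -/
theorem exists_frame {G : Type*} [Group G] [Finite G] (S : Sylow 2 G) (P : Sylow 2 ↥Cfsg.Spor.HS)
    (hS : Nonempty (↥(S : Subgroup G) ≃* ↥(P : Subgroup ↥Cfsg.Spor.HS))) : Nonempty (Frame G) := by
  classical
  haveI := HSPerm.finite_P
  haveI : Fact (Nat.Prime 2) := ⟨Nat.prime_two⟩
  obtain ⟨e0⟩ := hS
  obtain ⟨e⟩ := HSPerm.nonempty_equiv_HS
  haveI : Finite ↥Cfsg.Spor.HS := Finite.of_equiv _ e.symm.toEquiv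
  have hf : (Nat.card ↥HSPerm.P).factorization 2 = 9 := by rw [HSPerm.card_P, HSPerm.multiplicities.1]
  have hS2 : Nat.card ↥HSPerm.S2 = 2 ^ (Nat.card ↥HSPerm.P).factorization 2 := by
    rw [HSPerm.card_S2, hf]; norm_num
  have hPm : Nat.card ↥((P : Subgroup ↥Cfsg.Spor.HS).map e.toMonoidHom) =
      2 ^ (Nat.card ↥HSPerm.P).factorization 2 := by
    rw [Subgroup.card_map_of_injective (f := e.toMonoidHom) e.injective, P.card_eq_multiplicity,
      Nat.card_congr e.toEquiv]
  let e1 : ↥(S : Subgroup G) ≃* ↥HSPerm.S2 :=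
    e0.trans (((P : Subgroup ↥Cfsg.Spor.HS).equivMapOfInjective e.toMonoidHom e.injective).trans
      (Sylow.equiv (Sylow.ofCard _ hPm) (Sylow.ofCard _ hS2)))
  refine ⟨{ T := S
            f := fun n => ((e1.symm ⟨HSPerm.Q (qOf n), HSPerm.tree_mem _ (qOf_lt n)⟩ : (S : Subgroup G)) : G)
            map_mul := fun {a b} ha hb => ?_
            inj := fun {a b} ha hb h => ?_
            mem := fun {a} _ => SetLike.coe_mem _
            surj := fun x hx => ?_ }⟩
  · rw [← Subgroup.coe_mul, ← map_mul]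
    exact congrArg Subtype.val (congrArg e1.symm (Subtype.ext (Q_qOf_mul a ha b hb)))
  · exact qOf_injective ha hb (HSPerm.Q_injective (qOf_lt a) (qOf_lt b)
      (congrArg Subtype.val (e1.symm.injective (Subtype.ext h))))
  · obtain ⟨q, hq, hqe⟩ := HSPerm.mem_S2 (e1 ⟨x, hx⟩).2
    obtain ⟨n, hn, rfl⟩ := qOf_surj hq
    refine ⟨n, hn, ?_⟩
    have : (⟨HSPerm.Q (qOf n), HSPerm.tree_mem _ (qOf_lt n)⟩ : ↥HSPerm.S2) = e1 ⟨x, hx⟩ := Subtype.ext hqe
    show ((e1.symm _ : (S : Subgroup G)) : G) = x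
    rw [this, MulEquiv.symm_apply_apply]

/-- The exchange of the classes five and six. -/
def swapCls (c : ℕ) : ℕ := if c = 5 then 6 else if c = 6 then 5 else c

theorem tw_cls_check : ((List.range 512).all fun n =>
    Nat.ble 16 (cls n) || Nat.beq (cls (tw n)) (swapCls (cls n))) = true := by
  decide +kernel

theorem cls_tw {n : ℕ} (hn : n < 512) (h : cls n < 16) : cls (tw n) = swapCls (cls n) := by
  have hc := tw_cls_check
  simp only [List.all_eq_true, List.mem_range, Bool.or_eq_true, Nat.ble_eq] at hc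
  rcases hc n hn with h' | h'
  · omega
  · exact Nat.eq_of_beq_eq_true h'

namespace Frame

variable {G : Type*} [Group G]

/-- The frame twisted by the automorphism. -/
def twist (F : Frame G) : Frame G where
  T := F.T
  f n := F.f (tw n)
  map_mul {a b} ha hb := by rw [tw_mul a ha b hb]; exact F.map_mul (tw_lt a) (tw_lt b)
  inj {a b} ha hb h := by rw [← tw_four ha, F.inj (tw_lt a) (tw_lt b) h, tw_four hb]
  mem {a} _ := F.mem (tw_lt a)
  surj x hx := by
    obtain ⟨a, ha, e⟩ := F.surj x hx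
    exact ⟨tw (tw (tw a)), tw_lt _, by rw [tw_four ha, e]⟩

theorem twist_f (F : Frame G) (n : ℕ) : F.twist.f n = F.f (tw n) := rfl

theorem twist_T (F : Frame G) : F.twist.T = F.T := rfl

theorem twist_rep (F : Frame G) {a : ℕ} (ha : a < 16) :
    IsConj (F.f (rep (swapCls a))) (F.twist.f (rep a)) := by
  obtain ⟨hr, hc⟩ := rep_lt a ha
  have h := cls_tw hr (by omega)
  rw [hc] at h
  have hs : swapCls a < 16 := by unfold swapCls; split_ifs <;> omega
  rw [twist_f, ← h]
  exact F.isConj_rep (tw_lt _) (h ▸ hs)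

/-- links of the twisted frame -/
theorem twist_link (F : Frame G) {a b : ℕ} (ha : a < 16) (hb : b < 16) :
    F.twist.Link a b ↔ F.Link (swapCls a) (swapCls b) :=
  ⟨fun h => ((F.twist_rep ha).trans h).trans (F.twist_rep hb).symm,
    fun h => ((F.twist_rep ha).symm.trans h).trans (F.twist_rep hb)⟩

end Frame

end CfsgLib.Spor.HSSylow
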